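import Mathlib
import Cfsg.Agent.Classical.LinearBasic
import Cfsg.Agent.Classical.LinearMove

/-!
Transvections, block embeddings and transitivity for special linear groups.
-/

set_option autoImplicit false
set_option linter.unusedSectionVars false

namespace Cfsg.Agent.SLDeg

open Matrix Module

variable {n m : ℕ} {F : Type*} [Field F]

/-- The special linear group. -/
abbrev SLn (n : ℕ) (F : Type*) [Field F] := Matrix.SpecialLinearGroup (Fin n) F

/-- A coordinate vector. -/
abbrev e {n : ℕ} {F : Type*} [Field F] (i : Fin n) : Fin n → F := Pi.single i 1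

theorem smul_eq (g : SLn n F) (x : Fin n → F) : g • x = g.1 *ᵥ x := rfl

/-- An element with a given matrix. -/
def mkSL (A : Matrix (Fin n) (Fin n) F) (h : A.det = 1) : SLn n F := ⟨A, h⟩

theorem mkSL_apply (A : Matrix (Fin n) (Fin n) F) (h : A.det = 1) (x : Fin n → F) : mkSL A h • x = A *ᵥ x := rfl

theorem mkSL_val (A : Matrix (Fin n) (Fin n) F) (h : A.det = 1) : (mkSL A h).1 = A := rfl

theorem sl_ext {g h : SLn n F} (hx : ∀ x : Fin n → F, g • x = h • x) : g = h :=
  Subtype.ext (Matrix.ext_of_mulVec_single fun i => hx (Pi.single i 1))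

theorem sl_smul_add (g : SLn n F) (x y : Fin n → F) : g • (x + y) = g • x + g • y := Matrix.mulVec_add _ _ _

theorem sl_smul_zero (g : SLn n F) : g • (0 : Fin n → F) = 0 := Matrix.mulVec_zero _

theorem sl_smul_smul (g : SLn n F) (c : F) (x : Fin n → F) : g • (c • x) = c • g • x := Matrix.mulVec_smul _ _ _

theorem sl_injective (g : SLn n F) : Function.Injective fun x : Fin n → F => g • x := fun x y h => by
  have := congrArg (fun z => g⁻¹ • z) h
  simpa using this

/-- A transvection. -/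
def tv (a f : Fin n → F) (h : f ⬝ᵥ a = 0) : SLn n F :=
  ⟨1 + Matrix.vecMulVec a f, by rw [Classical.det_one_add_vecMulVec, h, add_zero]⟩

theorem tv_apply (a f : Fin n → F) (h : f ⬝ᵥ a = 0) (x : Fin n → F) : tv a f h • x = x + (f ⬝ᵥ x) • a := by
  rw [smul_eq, tv, Matrix.add_mulVec, Matrix.one_mulVec, Matrix.vecMulVec_mulVec, op_smul_eq_smul]

theorem tv_congr {a a' f f' : Fin n → F} (h : f ⬝ᵥ a = 0) (h' : f' ⬝ᵥ a' = 0) (ha : a = a') (hf : f = f') :
    tv a f h = tv a' f' h' := by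
  subst ha hf
  rfl

theorem tv_fix {a f : Fin n → F} (h : f ⬝ᵥ a = 0) {x : Fin n → F} (hx : f ⬝ᵥ x = 0) : tv a f h • x = x := by
  rw [tv_apply, hx, zero_smul, add_zero]

theorem tv_zero_right (a : Fin n → F) : tv a 0 (by simp) = 1 :=
  sl_ext fun x => by rw [tv_apply]; simp

theorem tv_zero_left (f : Fin n → F) : tv 0 f (by simp) = 1 :=
  sl_ext fun x => by rw [tv_apply]; simp

theorem tv_mul_right {a f f' : Fin n → F} (h : f ⬝ᵥ a = 0) (h' : f' ⬝ᵥ a = 0) :
    tv a f h * tv a f' h' = tv a (f + f') (by rw [add_dotProduct, h, h', add_zero]) := sl_ext fun x => by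
  simp only [mul_smul, tv_apply, dotProduct_add, dotProduct_smul, h, smul_eq_mul, mul_zero, add_dotProduct]
  module

theorem tv_mul_left {a a' f : Fin n → F} (h : f ⬝ᵥ a = 0) (h' : f ⬝ᵥ a' = 0) :
    tv a f h * tv a' f h' = tv (a + a') f (by rw [dotProduct_add, h, h', add_zero]) := sl_ext fun x => by
  simp only [mul_smul, tv_apply, dotProduct_add, dotProduct_smul, h', smul_eq_mul, mul_zero]
  module

theorem tv_smul (c : F) {a f : Fin n → F} (h : (c • f) ⬝ᵥ a = 0) (h' : f ⬝ᵥ (c • a) = 0) :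
    tv a (c • f) h = tv (c • a) f h' := sl_ext fun x => by
  rw [tv_apply, tv_apply, smul_dotProduct, smul_eq_mul, smul_smul, mul_comm]

/-- A functional composed with a group element. -/
def pull (g : SLn n F) (f : Fin n → F) : Fin n → F := f ᵥ* g.1

theorem pull_dot (g : SLn n F) (f x : Fin n → F) : pull g f ⬝ᵥ x = f ⬝ᵥ (g • x) :=
  (Matrix.dotProduct_mulVec f g.1 x).symm

theorem pull_pull (g h : SLn n F) (f : Fin n → F) : pull h (pull g f) = pull (g * h) f :=
  Matrix.vecMul_vecMul _ _ _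

theorem pull_one (f : Fin n → F) : pull (1 : SLn n F) f = f := Matrix.vecMul_one f

theorem pull_smul (g : SLn n F) (c : F) (f : Fin n → F) : pull g (c • f) = c • pull g f :=
  Matrix.smul_vecMul c f g.1

theorem conj_tv (g : SLn n F) (a f : Fin n → F) (h : f ⬝ᵥ (g • a) = 0) :
    g * tv a (pull g f) (by rw [pull_dot, h]) = tv (g • a) f h * g := sl_ext fun x => by
  simp only [mul_smul, tv_apply, sl_smul_add, sl_smul_smul, pull_dot]

theorem hom_trivial {M : Type*} [Monoid M] (θ : SLn n F →* M)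
    (h : ∀ (a f : Fin n → F) (haf : f ⬝ᵥ a = 0), θ (tv a f haf) = 1) (g : SLn n F) : θ g = 1 := by
  have htop := Classical.sl_eq_top_of_transvection θ.ker fun i j hij c => by
    have he : Matrix.SpecialLinearGroup.transvection hij c
        = tv (c • e i) (e j) (by simp [hij]) := sl_ext fun x => by
      rw [tv_apply, smul_eq, Matrix.SpecialLinearGroup.transvection_coe, Matrix.add_mulVec, Matrix.one_mulVec]
      congr 1
      funext k
      by_cases hk : k = i
      · subst hk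
        simp [Matrix.mulVec, dotProduct, Matrix.single, Pi.single_apply, mul_comm]
      · simp [Matrix.mulVec, dotProduct, Matrix.single, hk, Ne.symm hk]
    rw [MonoidHom.mem_ker, he, h]
  exact MonoidHom.mem_ker.1 (htop ▸ Subgroup.mem_top g)

theorem extend_li {k : ℕ} (v : Fin k → Fin n → F) (hv : LinearIndependent F v) (hk : k ≤ n) :
    ∃ w : Fin n → Fin n → F, LinearIndependent F w ∧ ∀ i : Fin k, w (Fin.castLE hk i) = v i := by
  obtain ⟨d, rfl⟩ := Nat.exists_eq_add_of_le hk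
  suffices ∀ d' ≤ d, ∃ w : Fin (k + d') → Fin (k + d) → F, LinearIndependent F w ∧
      ∀ i : Fin k, w (Fin.castAdd d' i) = v i from this d le_rfl
  intro d'
  induction d' with
  | zero => exact fun _ => ⟨v, hv, fun i => rfl⟩
  | succ d' ih =>
    intro hd
    obtain ⟨w, hw, hwv⟩ := ih (by omega)
    obtain ⟨x, hx⟩ : ∃ x, x ∉ Submodule.span F (Set.range w) := by
      by_contra hc
      push Not at hc
      have h1 := finrank_span_eq_card hw
      rw [Submodule.eq_top_iff'.2 hc, finrank_top, Module.finrank_fin_fun, Fintype.card_fin] at h1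
      omega
    refine ⟨Fin.snoc w x, linearIndependent_finSnoc.2 ⟨hw, hx⟩, fun i => ?_⟩
    rw [show Fin.castAdd (d' + 1) i = (Fin.castAdd d' i).castSucc from rfl, Fin.snoc_castSucc, hwv]

theorem exists_of_basis (w : Fin n → Fin n → F) (hw : LinearIndependent F w) (j₀ : Fin n) :
    ∃ (g : SLn n F) (s : F), s ≠ 0 ∧ g • e j₀ = s • w j₀ ∧ ∀ j, j ≠ j₀ → g • e j = w j := by
  set M : Matrix (Fin n) (Fin n) F := (Matrix.of w)ᵀ with hM
  have hd : M.det ≠ 0 := by
    rw [hM, Matrix.det_transpose]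
    exact IsUnit.ne_zero ((Matrix.isUnit_iff_isUnit_det _).1 (Matrix.linearIndependent_rows_iff_isUnit.1 hw))
  have hdet : (M.updateCol j₀ (M.det⁻¹ • M.col j₀)).det = 1 := by
    have he : M.updateCol j₀ (M.col j₀) = M := by
      ext i j
      rcases eq_or_ne j j₀ with rfl | h <;> simp [*]
    rw [Matrix.det_updateCol_smul, he, inv_mul_cancel₀ hd]
  refine ⟨⟨_, hdet⟩, M.det⁻¹, inv_ne_zero hd, ?_, fun j hj => ?_⟩
  · show M.updateCol j₀ (M.det⁻¹ • M.col j₀) *ᵥ Pi.single j₀ 1 = _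
    rw [Matrix.mulVec_single_one]
    funext i
    simp [M]
  · show M.updateCol j₀ (M.det⁻¹ • M.col j₀) *ᵥ Pi.single j 1 = _
    rw [Matrix.mulVec_single_one]
    funext i
    simp [M, hj]

theorem two_val {m : ℕ} : ((2 : Fin (m + 3)) : ℕ) = 2 := by
  show 2 % (m + 3) = 2
  exact Nat.mod_eq_of_lt (by omega)

theorem one_val {m : ℕ} : ((1 : Fin (m + 3)) : ℕ) = 1 := by
  show 1 % (m + 3) = 1
  exact Nat.mod_eq_of_lt (by omega)

/-- Vectors in general position are the images of coordinate vectors, up to a scalar at the last one. -/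
theorem exists_move3 {m : ℕ} {x₀ x₁ x₂ : Fin (m + 3) → F} (h : LinearIndependent F ![x₀, x₁, x₂]) :
    ∃ (g : SLn (m + 3) F) (r : F), r ≠ 0 ∧ g • e 0 = x₀ ∧ g • e 1 = x₁ ∧ g • e 2 = r • x₂ := by
  obtain ⟨w, hw, hwv⟩ := extend_li _ h (by omega)
  obtain ⟨g, s, hs, h2, hne⟩ := exists_of_basis w hw 2
  refine ⟨g, s, hs, (hne 0 (by simp only [ne_eq, Fin.ext_iff, Fin.val_zero, one_val, two_val]; omega)).trans (hwv 0), (hne 1 (by simp only [ne_eq, Fin.ext_iff, Fin.val_zero, one_val, two_val]; omega)).trans (hwv 1), ?_⟩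
  rw [h2]
  exact congrArg _ (hwv 2)

theorem li_pair {x y : Fin n → F} (hx : x ≠ 0) (hy : y ∉ Submodule.span F {x}) : LinearIndependent F ![x, y] := by
  refine (LinearIndependent.pair_iff' hx).2 fun a ha => hy ?_
  exact Submodule.mem_span_singleton.2 ⟨a, ha⟩

theorem li_triple {x y z : Fin n → F} (h : LinearIndependent F ![x, y]) (hz : z ∉ Submodule.span F {x, y}) :
    LinearIndependent F ![x, y, z] := by
  have e3 : ![x, y, z] = Fin.snoc ![x, y] z := by
    funext i
    fin_cases i <;> rfl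
  rw [e3, linearIndependent_finSnoc]
  refine ⟨h, ?_⟩
  rwa [show Set.range ![x, y] = {x, y} by simp [Matrix.range_cons]; exact Set.pair_comm y x]

theorem li_pair_iff {x y : Fin n → F} :
    LinearIndependent F ![x, y] ↔ x ≠ 0 ∧ y ∉ Submodule.span F {x} := by
  refine ⟨fun h => ⟨?_, ?_⟩, fun h => li_pair h.1 h.2⟩
  · exact h.ne_zero 0
  · intro hy
    obtain ⟨a, ha⟩ := Submodule.mem_span_singleton.1 hy
    exact (LinearIndependent.pair_iff' (h.ne_zero 0)).1 h a ha

theorem exists_third {m : ℕ} (x y : Fin (m + 3) → F) : ∃ z, z ∉ Submodule.span F {x, y} := by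
  by_contra hc
  push Not at hc
  classical
  have h1 := finrank_span_finset_le_card ({x, y} : Finset (Fin (m + 3) → F)) (R := F)
  rw [Set.finrank, Finset.coe_pair, Submodule.eq_top_iff'.2 hc, finrank_top, Module.finrank_fin_fun] at h1
  have := Finset.card_le_two (a := x) (b := y)
  omega

theorem exists_move2 {m : ℕ} {x₀ x₁ : Fin (m + 3) → F} (h : LinearIndependent F ![x₀, x₁]) :
    ∃ g : SLn (m + 3) F, g • e 0 = x₀ ∧ g • e 1 = x₁ := by
  obtain ⟨z, hz⟩ := exists_third x₀ x₁
  obtain ⟨g, r, -, h0, h1, -⟩ := exists_move3 (li_triple h hz)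
  exact ⟨g, h0, h1⟩

/-! ### Blocks -/

/-- The block matrix `diag(c, A)`. -/
def blk (c : F) (A : Matrix (Fin m) (Fin m) F) : Matrix (Fin (m + 1)) (Fin (m + 1)) F :=
  Matrix.of (Fin.cons (Fin.cons c 0) fun i => Fin.cons 0 (A i))

theorem blk_mulVec (c : F) (A : Matrix (Fin m) (Fin m) F) (x : Fin (m + 1) → F) :
    blk c A *ᵥ x = Fin.cons (c * x 0) (A *ᵥ Fin.tail x) := by
  funext i
  refine Fin.cases ?_ (fun j => ?_) i <;> simp [blk, Matrix.mulVec, dotProduct, Fin.sum_univ_succ, Fin.tail]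

theorem blk_det (c : F) (A : Matrix (Fin m) (Fin m) F) : (blk c A).det = c * A.det := by
  rw [Matrix.det_succ_row_zero, Fin.sum_univ_succ, Finset.sum_eq_zero fun j _ => by simp [blk]]
  have : (blk c A).submatrix Fin.succ ((0 : Fin (m + 1)).succAbove) = A := by
    ext i j
    simp [blk]
  rw [this]
  simp [blk]

/-- The element `diag(1, g)`. -/
def iota : SLn m F →* SLn (m + 1) F :=
  MonoidHom.mk' (fun g => ⟨blk 1 g.1, by rw [blk_det, g.2, one_mul]⟩) fun g h => sl_ext fun x => by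
    show blk 1 (g.1 * h.1) *ᵥ x = (blk 1 g.1 * blk 1 h.1) *ᵥ x
    rw [← Matrix.mulVec_mulVec]
    simp [blk_mulVec, Matrix.mulVec_mulVec]

theorem iota_apply (g : SLn m F) (x : Fin (m + 1) → F) : iota g • x = Fin.cons (x 0) (g • Fin.tail x) := by
  show blk 1 g.1 *ᵥ x = _
  rw [blk_mulVec, one_mul, smul_eq]

theorem iota_tv (a f : Fin m → F) (h : f ⬝ᵥ a = 0) :
    iota (tv a f h) = tv (Fin.cons 0 a) (Fin.cons 0 f) (by simp [dotProduct, Fin.sum_univ_succ]; exact h) :=
  sl_ext fun x => by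
    rw [iota_apply, tv_apply, tv_apply]
    funext i
    refine Fin.cases ?_ (fun j => ?_) i <;> simp [dotProduct, Fin.sum_univ_succ, Fin.tail]

/-- Functionals vanishing at the first coordinate vector are moved transitively by its stabiliser. -/
theorem exists_move_fun {f φ f' φ' : Fin (m + 3) → F} (h : LinearIndependent F ![f, φ])
    (h' : LinearIndependent F ![f', φ']) (hf : f 0 = 0) (hφ : φ 0 = 0) (hf' : f' 0 = 0) (hφ' : φ' 0 = 0) :
    ∃ (g : SLn (m + 3) F) (t : F), t ≠ 0 ∧ g • (e 0 : Fin (m + 3) → F) = t • e 0 ∧ pull g f = f' ∧ pull g φ = φ' := by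
  have key : ∀ f φ : Fin (m + 3) → F, LinearIndependent F ![f, φ] → f 0 = 0 → φ 0 = 0 →
      ∃ (g : SLn (m + 3) F) (t : F), t ≠ 0 ∧ g • (e 0 : Fin (m + 3) → F) = t • e 0 ∧
        pull g (e 1) = f ∧ pull g (e 2) = φ := by
    intro f φ h hf hφ
    have hts : ∀ u : Fin (m + 3) → F, u 0 = 0 → Fin.cons 0 (Fin.tail u) = u := fun u hu => by
      rw [← hu, Fin.cons_self_tail]
    have hli : LinearIndependent F ![Fin.tail f, Fin.tail φ] := by
      rw [LinearIndependent.pair_iff] at h ⊢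
      intro a b hab
      refine h a b ?_
      rw [← hts f hf, ← hts φ hφ]
      funext i
      refine Fin.cases ?_ (fun j => ?_) i
      · simp
      · simpa using congrFun hab j
    obtain ⟨w, hw, hwv⟩ := extend_li _ hli (by omega)
    have hd : (Matrix.of w).det ≠ 0 :=
      IsUnit.ne_zero ((Matrix.isUnit_iff_isUnit_det _).1 (Matrix.linearIndependent_rows_iff_isUnit.1 hw))
    let g : SLn (m + 3) F := ⟨blk (Matrix.of w).det⁻¹ (Matrix.of w), by rw [blk_det, inv_mul_cancel₀ hd]⟩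
    refine ⟨g, (Matrix.of w).det⁻¹, inv_ne_zero hd, ?_, ?_, ?_⟩
    · show blk _ _ *ᵥ _ = _
      rw [blk_mulVec]
      funext i
      refine Fin.cases ?_ (fun j => ?_) i
      · simp
      · have ht : Fin.tail (e 0 : Fin (m + 3) → F) = 0 := funext fun k => by simp [Fin.tail, Fin.succ_ne_zero]
        simp [ht, Fin.succ_ne_zero]
    · show e 1 ᵥ* blk _ _ = _
      rw [Matrix.single_one_vecMul, ← hts f hf]
      exact congrArg (Fin.cons (α := fun _ => F) 0) (hwv 0)
    · show e 2 ᵥ* blk _ _ = _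
      rw [Matrix.single_one_vecMul, ← hts φ hφ]
      exact congrArg (Fin.cons (α := fun _ => F) 0) (hwv 1)
  obtain ⟨g, t, ht, hg0, hg1, hg2⟩ := key f φ h hf hφ
  obtain ⟨g', t', ht', hg0', hg1', hg2'⟩ := key f' φ' h' hf' hφ'
  have hinv : g⁻¹ • (e 0 : Fin (m + 3) → F) = t⁻¹ • e 0 := by
    conv_lhs => rw [show (e 0 : Fin (m + 3) → F) = t⁻¹ • g • e 0 by rw [hg0, inv_smul_smul₀ ht]]
    rw [sl_smul_smul, inv_smul_smul]
  refine ⟨g⁻¹ * g', t' * t⁻¹, mul_ne_zero ht' (inv_ne_zero ht), ?_, ?_, ?_⟩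
  · rw [mul_smul, hg0', sl_smul_smul, hinv, smul_smul]
  · rw [← hg1, pull_pull, ← mul_assoc, mul_inv_cancel, one_mul, hg1']
  · rw [← hg2, pull_pull, ← mul_assoc, mul_inv_cancel, one_mul, hg2']

/-- Elements fixing the first coordinate vector. -/
theorem stab_decomp (g : SLn (m + 1) F) (hg : g • (e 0 : Fin (m + 1) → F) = e 0) :
    ∃ (g' : SLn m F) (r : Fin m → F),
      g = iota g' * tv (e 0) (Fin.cons 0 r) (by simp) := by
  have hcol : ∀ i, g.1 i 0 = (e 0 : Fin (m + 1) → F) i := fun i => by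
    rw [← hg, smul_eq, Matrix.mulVec_single_one]
    rfl
  set A : Matrix (Fin m) (Fin m) F := g.1.submatrix Fin.succ Fin.succ with hA
  have hdet : A.det = 1 := by
    have h := g.2
    rw [Matrix.det_succ_column_zero, Fin.sum_univ_succ, Finset.sum_eq_zero fun j _ => by simp [hcol]] at h
    simpa [hcol, hA] using h
  refine ⟨mkSL A hdet, fun j => g.1 0 j.succ, sl_ext fun x => ?_⟩
  rw [mul_smul, iota_apply, tv_apply, mkSL_apply]
  funext i
  refine Fin.cases ?_ (fun j => ?_) i
  · simp [smul_eq, Matrix.mulVec, dotProduct, Fin.sum_univ_succ, hcol]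
  · simp [smul_eq, Matrix.mulVec, dotProduct, Fin.sum_univ_succ, hcol, A, Fin.tail, Fin.succ_ne_zero]

end Cfsg.Agent.SLDeg
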