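import Mathlib
import Cfsg.Agent.Classical.LinearMove

/-!
Characters of subspaces of a coordinate space over a finite field.
-/

set_option autoImplicit false
set_option linter.unusedSectionVars false

namespace Cfsg.Agent.SLDeg

open Matrix Module

variable {n : ℕ} {F : Type*} [Field F]

/-- The orthogonal of a vector for the dot product. -/
def Perp (a : Fin n → F) : Submodule F (Fin n → F) where
  carrier := {x | x ⬝ᵥ a = 0}
  zero_mem' := zero_dotProduct a
  add_mem' := fun {x y} hx hy => by simp only [Set.mem_ofPred_eq] at *; rw [add_dotProduct, hx, hy, add_zero]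
  smul_mem' := fun c x hx => by simp only [Set.mem_ofPred_eq] at *; rw [smul_dotProduct, hx, smul_zero]

theorem mem_perp {a x : Fin n → F} : x ∈ Perp a ↔ x ⬝ᵥ a = 0 := Iff.rfl

theorem mem_perp' {a x : Fin n → F} : x ∈ Perp a ↔ a ⬝ᵥ x = 0 := by rw [mem_perp, dotProduct_comm]

variable [Finite F]

theorem card_perp {a : Fin n → F} (ha : a ≠ 0) : Nat.card (Perp a) = Nat.card F ^ (n - 1) := by
  let L : (Fin n → F) →ₗ[F] F :=
    { toFun := fun x => x ⬝ᵥ a
      map_add' := fun x y => add_dotProduct x y a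
      map_smul' := fun c x => smul_dotProduct c x a }
  have hL : L ≠ 0 := by
    intro h0
    refine ha (funext fun i => ?_)
    have := LinearMap.congr_fun h0 (Pi.single i 1)
    simpa [L] using this
  have hk : LinearMap.ker L = Perp a := Submodule.ext fun x => Iff.rfl
  have := Module.Dual.finrank_ker_add_one_of_ne_zero hL
  rw [Module.natCard_eq_pow_finrank (K := F) (V := Perp a), ← hk]
  congr 1
  rw [Module.finrank_fin_fun] at this
  omega

theorem exists_ne_one {ψ : AddChar F ℂ} (hψ : ψ ≠ 1) {c : F} (hc : c ≠ 0) : ∃ t, ψ (t * c) ≠ 1 := by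
  by_contra h
  push Not at h
  refine hψ (DFunLike.ext _ _ fun x => ?_)
  have := h (x / c)
  rwa [div_mul_cancel₀ _ hc] at this

theorem char_repr {ψ : AddChar F ℂ} (hψ : ψ ≠ 1) (χ : AddChar (Fin n → F) ℂ) :
    ∃ w : Fin n → F, ∀ x, χ x = ψ (x ⬝ᵥ w) := by
  classical
  let Φ : (Fin n → F) → AddChar (Fin n → F) ℂ := fun w =>
    { toFun := fun x => ψ (x ⬝ᵥ w)
      map_zero_eq_one' := by rw [zero_dotProduct, AddChar.map_zero_eq_one]
      map_add_eq_mul' := fun x y => by rw [add_dotProduct, AddChar.map_add_eq_mul] }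
  have hinj : Function.Injective Φ := by
    intro w w' h
    by_contra hne
    obtain ⟨i, hi⟩ := Function.ne_iff.1 hne
    obtain ⟨t, ht⟩ := exists_ne_one hψ (sub_ne_zero.2 hi)
    refine ht ?_
    have h1 : ψ (t * w i) = ψ (t * w' i) := by
      have := DFunLike.congr_fun h (Pi.single i t)
      simpa [Φ] using this
    rw [mul_sub, sub_eq_add_neg, AddChar.map_add_eq_mul, h1, ← AddChar.map_add_eq_mul, add_neg_cancel,
      AddChar.map_zero_eq_one]
  let _ := Fintype.ofFinite F
  have hcard : Nat.card (Fin n → F) = Nat.card (AddChar (Fin n → F) ℂ) := by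
    rw [Nat.card_eq_fintype_card, Nat.card_eq_fintype_card, AddChar.card_eq]
  obtain ⟨w, hw⟩ := ((Nat.bijective_iff_injective_and_card _).2 ⟨hinj, hcard⟩).2 χ
  exact ⟨w, fun x => by rw [← hw]; rfl⟩

theorem char_repr_sub {ψ : AddChar F ℂ} (hψ : ψ ≠ 1) (P : Submodule F (Fin n → F)) (χ : AddChar P ℂ) :
    ∃ w : Fin n → F, ∀ x : P, χ x = ψ ((x : Fin n → F) ⬝ᵥ w) := by
  obtain ⟨π, hπ⟩ := P.subtype.exists_leftInverse_of_injective P.ker_subtype
  obtain ⟨w, hw⟩ := char_repr hψ (χ.compAddMonoidHom π.toAddMonoidHom)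
  refine ⟨w, fun x => ?_⟩
  rw [← hw (x : Fin n → F), AddChar.compAddMonoidHom_apply]
  exact congrArg χ (LinearMap.congr_fun hπ x).symm

theorem char_eq_imp {ψ : AddChar F ℂ} (hψ : ψ ≠ 1) {a w w' : Fin n → F}
    (h : ∀ x ∈ Perp a, ψ (x ⬝ᵥ w) = ψ (x ⬝ᵥ w')) : w - w' ∈ Submodule.span F {a} := by
  classical
  by_contra hne
  obtain ⟨φ, hφ, hφa⟩ := Classical.exists_dual_one (Submodule.span F {a}) hne
  obtain ⟨t, ht⟩ := exists_ne_one hψ (one_ne_zero (α := F))
  refine ht ?_
  have hmem : t • φ ∈ Perp a := (Perp a).smul_mem t (hφa a (Submodule.mem_span_singleton_self a))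
  have h1 := h _ hmem
  rw [show t * 1 = (t • φ) ⬝ᵥ w + -((t • φ) ⬝ᵥ w') by
    rw [← sub_eq_add_neg, ← dotProduct_sub, smul_dotProduct, hφ, smul_eq_mul],
    AddChar.map_add_eq_mul, h1, ← AddChar.map_add_eq_mul, add_neg_cancel, AddChar.map_zero_eq_one]

/-- A sum over a group of a function of a surjective homomorphism. -/
theorem sum_comp_surj {A B M : Type*} [AddCommGroup A] [AddCommGroup B] [Fintype A] [Fintype B]
    [AddCommMonoid M] (φ : A →+ B) (hφ : Function.Surjective φ) (h : B → M) :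
    Fintype.card B • (∑ x, h (φ x)) = Fintype.card A • ∑ y, h y := by
  classical
  have key : ∀ y, (Finset.univ.filter fun x => φ x = y).card = (Finset.univ.filter fun x => φ x = 0).card := fun y => by
    obtain ⟨x₀, hx₀⟩ := hφ y
    refine Finset.card_bij' (fun x _ => x - x₀) (fun x _ => x + x₀) ?_ ?_ ?_ ?_ <;> simp_all
  set N := (Finset.univ.filter fun x => φ x = 0).card
  have h1 : (∑ x, h (φ x)) = N • ∑ y, h y := by
    rw [← Finset.sum_fiberwise Finset.univ φ (fun x => h (φ x)), Finset.smul_sum]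
    refine Finset.sum_congr rfl fun y _ => ?_
    rw [Finset.sum_congr rfl (g := fun _ => h y) fun x hx => by rw [(Finset.mem_filter.1 hx).2], Finset.sum_const, key y]
  have h2 : Fintype.card A = Fintype.card B * N := by
    rw [← Finset.card_univ, Finset.card_eq_sum_card_fiberwise (f := φ) (t := Finset.univ) (fun x _ => Finset.mem_univ _),
      Finset.sum_congr rfl fun y _ => key y, Finset.sum_const, smul_eq_mul, Finset.card_univ]
  rw [h1, h2, mul_smul]

end Cfsg.Agent.SLDeg
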