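import Cfsg.Agent.SLDeg.Mat
import Cfsg.Agent.SLDeg.Chars
import Cfsg.Agent.Char.Gen

/-!
The decomposition of the permutation character of a special linear group on the nonzero vectors.
-/

set_option autoImplicit false
set_option linter.unusedSectionVars false

namespace Cfsg.Agent.SLDeg.Perm

open Matrix Module Cfsg.Agent.SLDeg Cfsg.Agent.Char
open scoped ComplexConjugate

/-- In a transitive action the elements agreeing with a map at a point average to one point. -/
theorem sum_agree {G₀ Y : Type*} [Group G₀] [Fintype G₀] [MulAction G₀ Y] [Fintype Y] [DecidableEq Y] (S : Finset Y)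
    (hS : S.Nonempty) (hinv : ∀ (g : G₀) (y : Y), y ∈ S → g • y ∈ S) (htr : ∀ y ∈ S, ∀ z ∈ S, ∃ g : G₀, g • y = z)
    (σ : Y → Y) (hσ : ∀ y ∈ S, σ y ∈ S) :
    ∑ g : G₀, (S.filter fun y => g • y = σ y).card = Fintype.card G₀ := by
  classical
  simp only [Finset.card_filter]
  rw [Finset.sum_comm]
  simp only [← Finset.card_filter]
  set k : Y → Y → ℕ := fun y z => (Finset.univ.filter fun g : G₀ => g • y = z).card with hk
  show ∑ y ∈ S, k y (σ y) = _
  have hconst : ∀ y ∈ S, ∀ z ∈ S, ∀ z' ∈ S, k y z = k y z' := by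
    intro y _ z hz z' hz'
    obtain ⟨h, hh⟩ := htr z hz z' hz'
    refine Finset.card_bij' (fun g _ => h * g) (fun g _ => h⁻¹ * g) ?_ ?_ ?_ ?_
    · intro g hg
      simp only [Finset.mem_filter, Finset.mem_univ, true_and] at hg ⊢
      rw [mul_smul, hg, hh]
    · intro g hg
      simp only [Finset.mem_filter, Finset.mem_univ, true_and] at hg ⊢
      rw [mul_smul, hg, ← hh, inv_smul_smul]
    · intro g _; exact inv_mul_cancel_left h g
    · intro g _; exact mul_inv_cancel_left h g
  have htot : ∀ y ∈ S, S.card * k y (σ y) = Fintype.card G₀ := by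
    intro y hy
    have h1 : (Finset.univ : Finset G₀).card = ∑ z ∈ S, k y z :=
      Finset.card_eq_sum_card_fiberwise fun g _ => hinv g y hy
    rw [Finset.sum_eq_card_nsmul fun z hz => hconst y hy z hz (σ y) (hσ y hy), Finset.card_univ, smul_eq_mul] at h1
    exact h1.symm
  refine Nat.eq_of_mul_eq_mul_left hS.card_pos ?_
  rw [Finset.mul_sum, Finset.sum_congr rfl htot, Finset.sum_const, smul_eq_mul]

variable {m : ℕ} {F : Type*} [Field F] [Fintype F] [DecidableEq F]

local notation "V" => (Fin (m + 3) → F)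
local notation "G" => SLn (m + 3) F

/-- The nonzero vectors moved by `g` as multiples by `c`. -/
def Nc (c : Fˣ) (g : G) : ℕ := (Finset.univ.filter fun v : V => v ≠ 0 ∧ g • v = (c : F) • v).card

theorem sl_ne_zero (g : G) {v : V} (hv : v ≠ 0) : g • v ≠ 0 := fun h0 =>
  hv (sl_injective g (h0.trans (sl_smul_zero g).symm))

theorem sum_Nc (c : Fˣ) : ∑ g : G, Nc c g = Fintype.card G := by
  classical
  have h := sum_agree (G₀ := G) (Finset.univ.filter fun v : V => v ≠ 0) ⟨e 0, by
      simp only [Finset.mem_filter, Finset.mem_univ, true_and]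
      exact fun h0 => by simpa using congrFun h0 0⟩
    (fun g y hy => by
      simp only [Finset.mem_filter, Finset.mem_univ, true_and] at hy ⊢
      exact sl_ne_zero g hy)
    (fun y hy z hz => by
      simp only [Finset.mem_filter, Finset.mem_univ, true_and] at hy hz
      obtain ⟨u, hu⟩ := exists_third y y
      obtain ⟨w, hw⟩ := exists_third z z
      rw [Set.pair_eq_singleton] at hu hw
      obtain ⟨g₁, h₁, -⟩ := exists_move2 (li_pair hy hu)
      obtain ⟨g₂, h₂, -⟩ := exists_move2 (li_pair hz hw)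
      exact ⟨g₂ * g₁⁻¹, by rw [mul_smul, ← h₁, inv_smul_smul, h₂]⟩)
    (fun v => (c : F) • v) fun y hy => by
      simp only [Finset.mem_filter, Finset.mem_univ, true_and] at hy ⊢
      exact smul_ne_zero c.ne_zero hy
  simp only [Finset.filter_filter] at h
  exact h

theorem li_units {v w : V} (c d : Fˣ) (h : LinearIndependent F ![v, w]) :
    LinearIndependent F ![(c : F) • v, (d : F) • w] := by
  rw [LinearIndependent.pair_iff] at h ⊢
  intro p r hpr
  obtain ⟨h1, h2⟩ := h (p * c) (r * d) (by rw [← hpr, smul_smul, smul_smul])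
  exact ⟨(mul_eq_zero.1 h1).resolve_right c.ne_zero, (mul_eq_zero.1 h2).resolve_right d.ne_zero⟩

theorem li_g {v w : V} (g : G) (h : LinearIndependent F ![v, w]) : LinearIndependent F ![g • v, g • w] := by
  rw [LinearIndependent.pair_iff] at h ⊢
  intro p r hpr
  refine h p r (sl_injective g ?_)
  simpa [sl_smul_add, sl_smul_smul, sl_smul_zero] using hpr

theorem sum_Nc_mul (c d : Fˣ) : (∑ g : G, Nc c g * Nc d g : ℕ) =
    Fintype.card G + (if c = d then Fintype.card G * (Fintype.card F - 1) else 0) := by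
  classical
  set S := (Finset.univ : Finset (V × V)).filter fun p => LinearIndependent F ![p.1, p.2] with hS
  have hA := sum_agree (G₀ := G) S ⟨(e 0, e 1), by
      simp only [hS, Finset.mem_filter, Finset.mem_univ, true_and]
      exact li_pair (fun h0 => by simpa using congrFun h0 0) fun hm => by
        obtain ⟨r, hr⟩ := Submodule.mem_span_singleton.1 hm
        simpa using congrFun hr (Fin.succ 0)⟩
    (fun g y hy => by
      simp only [hS, Finset.mem_filter, Finset.mem_univ, true_and] at hy ⊢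
      exact li_g g hy)
    (fun y hy z hz => by
      simp only [hS, Finset.mem_filter, Finset.mem_univ, true_and] at hy hz
      obtain ⟨g₁, h₁, h₁'⟩ := exists_move2 hy
      obtain ⟨g₂, h₂, h₂'⟩ := exists_move2 hz
      exact ⟨g₂ * g₁⁻¹, Prod.ext (by simp [mul_smul, ← h₁, h₂]) (by simp [mul_smul, ← h₁', h₂'])⟩)
    (fun p => ((c : F) • p.1, (d : F) • p.2)) fun y hy => by
      simp only [hS, Finset.mem_filter, Finset.mem_univ, true_and] at hy ⊢
      exact li_units c d hy
  have hkey : ∀ g : G, Nc c g * Nc d g = (S.filter fun p => g • p = ((c : F) • p.1, (d : F) • p.2)).card +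
      (if c = d then Nc c g * (Fintype.card F - 1) else 0) := by
    intro g
    set T := (Finset.univ.filter fun v : V => v ≠ 0 ∧ g • v = (c : F) • v) ×ˢ
      (Finset.univ.filter fun v : V => v ≠ 0 ∧ g • v = (d : F) • v) with hT
    have h1 : Nc c g * Nc d g = T.card := (Finset.card_product _ _).symm
    rw [h1, ← Finset.card_filter_add_card_filter_not (s := T) (fun p : V × V => LinearIndependent F ![p.1, p.2])]
    congr 1
    · congr 1
      ext ⟨v, w⟩
      simp only [hT, hS, Finset.mem_filter, Finset.mem_product, Finset.mem_univ, true_and, Prod.smul_mk, Prod.mk.injEq]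
      constructor
      · rintro ⟨⟨⟨-, h2⟩, -, h4⟩, h5⟩
        exact ⟨h5, h2, h4⟩
      · rintro ⟨h5, h2, h4⟩
        exact ⟨⟨⟨h5.ne_zero 0, h2⟩, h5.ne_zero 1, h4⟩, h5⟩
    · by_cases hcd : c = d
      · subst hcd
        rw [if_pos rfl, show Fintype.card F - 1 = (Finset.univ : Finset Fˣ).card by
          rw [Finset.card_univ, Fintype.card_units], Nc, ← Finset.card_product]
        refine (Finset.card_nbij' (fun p => (p.1, (p.2 : F) • p.1)) (fun p => (p.1,
          @dite _ (∃ r : Fˣ, (r : F) • p.1 = p.2) (_root_.Classical.propDecidable _) (fun h => h.choose) fun _ => 1)) ?_ ?_ ?_ ?_).symm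
        · rintro ⟨v, r⟩ hp
          simp only [Finset.mem_coe, hT, Finset.mem_filter, Finset.mem_product, Finset.mem_univ, true_and, and_true] at hp ⊢
          refine ⟨⟨hp, smul_ne_zero r.ne_zero hp.1, ?_⟩, fun h => (li_pair_iff.1 h).2
            (Submodule.mem_span_singleton.2 ⟨r, rfl⟩)⟩
          rw [sl_smul_smul, hp.2, smul_comm]
        · rintro ⟨v, w⟩ hp
          simp only [Finset.mem_coe, hT, Finset.mem_filter, Finset.mem_product, Finset.mem_univ, true_and, and_true] at hp ⊢
          exact hp.1.1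
        · rintro ⟨v, r⟩ hp
          simp only [Finset.mem_coe, Finset.mem_filter, Finset.mem_product, Finset.mem_univ, true_and, and_true] at hp
          have hex : ∃ r' : Fˣ, (r' : F) • v = (r : F) • v := ⟨r, rfl⟩
          simp only [dif_pos hex]
          exact Prod.ext rfl (Units.ext (smul_left_injective F hp.1 hex.choose_spec))
        · rintro ⟨v, w⟩ hp
          simp only [Finset.mem_coe, hT, Finset.mem_filter, Finset.mem_product, Finset.mem_univ, true_and] at hp
          obtain ⟨⟨⟨hv, -⟩, hw, -⟩, hli⟩ := hp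
          have hm : w ∈ Submodule.span F {v} := by
            by_contra hm
            exact hli (li_pair hv hm)
          obtain ⟨r, hr⟩ := Submodule.mem_span_singleton.1 hm
          have hr0 : r ≠ 0 := fun h0 => hw (by rw [← hr, h0, zero_smul])
          have hex : ∃ r' : Fˣ, (r' : F) • v = w := ⟨Units.mk0 r hr0, hr⟩
          simp only [dif_pos hex]
          exact Prod.ext rfl hex.choose_spec
      · rw [if_neg hcd, Finset.card_eq_zero, Finset.filter_eq_empty_iff]
        rintro ⟨v, w⟩ hp hli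
        simp only [hT, Finset.mem_filter, Finset.mem_product, Finset.mem_univ, true_and] at hp
        refine hli (li_pair hp.1.1 fun hm => ?_)
        obtain ⟨r, hr⟩ := Submodule.mem_span_singleton.1 hm
        refine hcd (Units.ext (smul_left_injective F hp.2.1 ?_))
        show (c : F) • w = (d : F) • w
        change r • v = w at hr
        rw [← hp.2.2, ← hr, sl_smul_smul, hp.1.2, smul_comm]
  rw [Finset.sum_congr rfl fun g _ => hkey g, Finset.sum_add_distrib, hA]
  congr 1
  by_cases hcd : c = d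
  · simp only [if_pos hcd]
    rw [← Finset.sum_mul, sum_Nc]
  · simp [if_neg hcd]

theorem Nc_inv (c : Fˣ) (g : G) : Nc c g⁻¹ = Nc c⁻¹ g := by
  rw [Nc, Nc]
  congr 1
  refine Finset.filter_congr fun v _ => and_congr_right fun _ => ⟨fun h => ?_, fun h => ?_⟩
  · rw [inv_smul_eq_iff, sl_smul_smul] at h
    rw [Units.val_inv_eq_inv_val]
    conv_rhs => rw [h, inv_smul_smul₀ c.ne_zero]
  · rw [inv_smul_eq_iff, sl_smul_smul, h, smul_smul, Units.mul_inv, one_smul]

theorem Nc_one_one (c : Fˣ) : Nc c (1 : G) = if c = 1 then Fintype.card F ^ (m + 3) - 1 else 0 := by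
  classical
  rw [Nc]
  split
  · rename_i hc
    rw [Finset.filter_congr (q := fun v => v ≠ 0) fun v _ => by simp [hc], Finset.filter_ne',
      Finset.card_erase_of_mem (Finset.mem_univ _), Finset.card_univ, Fintype.card_fun, Fintype.card_fin]
  · rename_i hc
    rw [Finset.card_eq_zero, Finset.filter_eq_empty_iff]
    rintro v - ⟨hv, h⟩
    rw [one_smul] at h
    exact hc (Units.ext (smul_left_injective F hv (h.symm.trans (one_smul F v).symm)))

/-- The correction term. -/
noncomputable def δ (θ : Fˣ →* ℂˣ) : ℂ := @ite _ (θ = 1) (_root_.Classical.propDecidable _) 1 0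

/-- The summands of the permutation character. -/
noncomputable def chi (θ : Fˣ →* ℂˣ) (g : G) : ℂ :=
  (Fintype.card Fˣ : ℂ)⁻¹ * ∑ c : Fˣ, (θ c : ℂ) * (Nc c g : ℂ) - δ θ

theorem cardU_ne : (Fintype.card Fˣ : ℂ) ≠ 0 := Nat.cast_ne_zero.2 Fintype.card_ne_zero

theorem sum_theta (θ : Fˣ →* ℂˣ) : ∑ c : Fˣ, (θ c : ℂ) = (Fintype.card Fˣ : ℂ) * δ θ := by
  classical
  rw [δ]
  split
  · rename_i h
    subst h
    simp
  · rename_i h
    rw [mul_zero]
    refine sum_hom_units_eq_zero ((Units.coeHom ℂ).comp θ) fun h1 => h (MonoidHom.ext fun c => Units.ext ?_)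
    exact DFunLike.congr_fun h1 c

variable (m F) in
/-- The permutation representation on functions. -/
def permF : Representation ℂ (SLn (m + 3) F) ((Fin (m + 3) → F) → ℂ) where
  toFun g := LinearMap.funLeft ℂ ℂ fun v => g⁻¹ • v
  map_one' := LinearMap.ext fun f => funext fun v => by simp
  map_mul' g g' := LinearMap.ext fun f => funext fun v => by simp [mul_smul]

theorem permF_apply (g : G) (f : V → ℂ) (v : V) : permF m F g f v = f (g⁻¹ • v) := rfl

/-- The sum over the nonzero vectors. -/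
noncomputable def tot (f : V → ℂ) : ℂ := ∑ w ∈ Finset.univ.filter (fun w : V => w ≠ 0), f w

theorem tot_perm {G' : Type*} [Group G'] [MulAction G' V] (h0 : ∀ g : G', g • (0 : V) = 0) (g : G') (f : V → ℂ) :
    tot (fun v => f (g • v)) = tot f := by
  refine Finset.sum_bij' (fun v _ => g • v) (fun v _ => g⁻¹ • v) ?_ ?_ ?_ ?_ ?_
  · intro v hv
    simp only [Finset.mem_filter, Finset.mem_univ, true_and] at hv ⊢
    exact fun h => hv ((MulAction.injective g) (h.trans (h0 g).symm))
  · intro v hv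
    simp only [Finset.mem_filter, Finset.mem_univ, true_and] at hv ⊢
    exact fun h => hv ((MulAction.injective g⁻¹) (h.trans (h0 g⁻¹).symm))
  · intro v _; exact inv_smul_smul g v
  · intro v _; exact smul_inv_smul g v
  · intro v _; rfl

variable (m) in
/-- The subrepresentation for a character of the scalars. -/
def sub (θ : Fˣ →* ℂˣ) : Subrepresentation (permF m F) where
  toSubmodule :=
    { carrier := {f | f 0 = 0 ∧ (∀ (c : Fˣ) v, (θ c : ℂ) * f ((c : F) • v) = f v) ∧ δ θ * tot f = 0}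
      zero_mem' := ⟨rfl, fun c v => by simp, by simp [tot]⟩
      add_mem' := fun {f f'} hf hf' => ⟨by simp [hf.1, hf'.1],
        fun c v => by rw [Pi.add_apply, mul_add, hf.2.1, hf'.2.1, Pi.add_apply], by
        have : tot (f + f') = tot f + tot f' := Finset.sum_add_distrib
        rw [this, mul_add, hf.2.2, hf'.2.2, add_zero]⟩
      smul_mem' := fun r f hf => ⟨by simp [hf.1],
        fun c v => by rw [Pi.smul_apply, smul_eq_mul, mul_left_comm, hf.2.1]; simp, by
        have : tot (r • f) = r * tot f := (Finset.mul_sum _ _ _).symm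
        rw [this, mul_left_comm, hf.2.2, mul_zero]⟩ }
  apply_mem_toSubmodule g f hf := by
    refine ⟨by rw [permF_apply, sl_smul_zero]; exact hf.1,
      fun c v => by rw [permF_apply, permF_apply, sl_smul_smul, hf.2.1], ?_⟩
    show δ θ * tot (fun v => f (g⁻¹ • v)) = 0
    rw [tot_perm sl_smul_zero]
    exact hf.2.2

/-- The projection on that subrepresentation. -/
noncomputable def Q (θ : Fˣ →* ℂˣ) : (V → ℂ) →ₗ[ℂ] (V → ℂ) where
  toFun f v := if v = 0 then 0 else
    (Fintype.card Fˣ : ℂ)⁻¹ * ∑ c : Fˣ, (θ c : ℂ) * f ((c : F) • v) -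
      δ θ * (((Finset.univ.filter fun w : V => w ≠ 0).card : ℂ)⁻¹ * tot f)
  map_add' f f' := funext fun v => by
    have : tot (f + f') = tot f + tot f' := Finset.sum_add_distrib
    simp only [Pi.add_apply, this, mul_add, Finset.sum_add_distrib]
    split <;> ring
  map_smul' r f := funext fun v => by
    have : tot (r • f) = r * tot f := (Finset.mul_sum _ _ _).symm
    simp only [Pi.smul_apply, smul_eq_mul, this, RingHom.id_apply]
    split
    · rw [mul_zero]
    · rw [Finset.sum_congr rfl fun c _ => mul_left_comm (θ c : ℂ) r (f ((c : F) • v)), ← Finset.mul_sum]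
      ring

theorem cardX_ne : ((Finset.univ.filter fun w : V => w ≠ 0).card : ℂ) ≠ 0 :=
  Nat.cast_ne_zero.2 (Finset.card_pos.2 ⟨e 0, by
    simp only [Finset.mem_filter, Finset.mem_univ, true_and]
    exact fun h0 => by simpa using congrFun h0 0⟩).ne'

theorem Q_apply (θ : Fˣ →* ℂˣ) (f : V → ℂ) {v : V} (hv : v ≠ 0) : Q θ f v =
    (Fintype.card Fˣ : ℂ)⁻¹ * ∑ c : Fˣ, (θ c : ℂ) * f ((c : F) • v) -
      δ θ * (((Finset.univ.filter fun w : V => w ≠ 0).card : ℂ)⁻¹ * tot f) := if_neg hv

theorem Q_zero (θ : Fˣ →* ℂˣ) (f : V → ℂ) : Q θ f 0 = 0 := if_pos rfl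

theorem Q_mem (θ : Fˣ →* ℂˣ) (f : V → ℂ) : Q θ f ∈ (sub m θ).toSubmodule := by
  classical
  refine ⟨Q_zero θ f, fun d v => ?_, ?_⟩
  · rcases eq_or_ne v 0 with hv | hv
    · rw [hv, smul_zero, Q_zero, mul_zero]
    rw [Q_apply θ f hv, Q_apply θ f (smul_ne_zero d.ne_zero hv), mul_sub]
    congr 1
    · rw [mul_left_comm, Finset.mul_sum]
      congr 1
      refine Fintype.sum_equiv (Equiv.mulRight d) _ _ fun c => ?_
      rw [Equiv.coe_mulRight, map_mul, Units.val_mul, Units.val_mul, smul_smul]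
      ring
    · rw [δ]
      split
      · rename_i h
        subst h
        simp
      · ring
  · rw [δ]
    split
    · rename_i h
      subst h
      rw [one_mul, tot, Finset.sum_congr rfl fun v hv => Q_apply _ f (Finset.mem_filter.1 hv).2, Finset.sum_sub_distrib,
        Finset.sum_const, nsmul_eq_mul, δ, if_pos rfl, one_mul, ← mul_assoc, mul_inv_cancel₀ cardX_ne, one_mul,
        ← Finset.mul_sum, Finset.sum_comm]
      have : ∀ c : Fˣ, ∑ v ∈ Finset.univ.filter (fun w : V => w ≠ 0), (((1 : Fˣ →* ℂˣ) c : ℂˣ) : ℂ) * f ((c : F) • v)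
          = tot f := fun c => by
        simp only [MonoidHom.one_apply, Units.val_one, one_mul]
        exact tot_perm (G' := Fˣ) (fun g => smul_zero g) c f
      rw [Finset.sum_congr rfl fun c _ => this c, Finset.sum_const, Finset.card_univ, nsmul_eq_mul, ← mul_assoc,
        inv_mul_cancel₀ cardU_ne, one_mul, sub_self]
    · rw [zero_mul]

theorem Q_id (θ : Fˣ →* ℂˣ) {f : V → ℂ} (hf : f ∈ (sub m θ).toSubmodule) : Q θ f = f := funext fun v => by
  obtain ⟨h0, h1, h2⟩ := hf
  rcases eq_or_ne v 0 with hv | hv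
  · rw [hv, Q_zero, h0]
  rw [Q_apply θ f hv, mul_left_comm (δ θ), h2, mul_zero, sub_zero, Finset.sum_congr rfl fun c _ => h1 c v,
    Finset.sum_const, Finset.card_univ, nsmul_eq_mul, ← mul_assoc, inv_mul_cancel₀ cardU_ne, one_mul]

set_option maxHeartbeats 800000 in
theorem character_sub (θ : Fˣ →* ℂˣ) (g : G) : (sub m θ).toRepresentation.character g = chi θ g := by
  classical
  show LinearMap.trace ℂ _ ((sub m θ).toRepresentation g) = _
  have hmem : ∀ f, (permF m F g ∘ₗ Q θ) f ∈ (sub m θ).toSubmodule := fun f =>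
    (sub m θ).apply_mem_toSubmodule g (Q_mem θ f)
  have hres : (sub m θ).toRepresentation g = (permF m F g ∘ₗ Q θ).restrict (fun x _ => hmem x) := by
    refine LinearMap.ext fun x => Subtype.ext ?_
    show permF m F g x.1 = permF m F g (Q θ x.1)
    rw [Q_id θ x.2]
  rw [hres, LinearMap.trace_restrict_eq_of_forall_mem _ _ hmem, LinearMap.trace_eq_matrix_trace ℂ (Pi.basisFun ℂ _),
    Matrix.trace]
  simp only [Matrix.diag, LinearMap.toMatrix_apply, Pi.basisFun_repr, Pi.basisFun_apply, LinearMap.comp_apply,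
    permF_apply]
  set X := Finset.univ.filter (fun w : V => w ≠ 0) with hX
  have hterm : ∀ v : V, Q θ (Pi.single v 1) (g⁻¹ • v) = if v ≠ 0 then
      ((Fintype.card Fˣ : ℂ)⁻¹ * ∑ c : Fˣ, (θ c : ℂ) * (if g • v = (c : F) • v then 1 else 0) -
        δ θ * ((X.card : ℂ)⁻¹)) else 0 := by
    intro v
    split
    · rename_i hv
      rw [Q_apply θ _ (sl_ne_zero _ hv), ← hX,
        show tot (Pi.single v (1 : ℂ)) = 1 by
          rw [tot, Finset.sum_eq_single_of_mem v (Finset.mem_filter.2 ⟨Finset.mem_univ _, hv⟩)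
            fun w _ hw => by simp [hw], Pi.single_eq_same], mul_one]
      congr 2
      refine Finset.sum_congr rfl fun c _ => ?_
      congr 1
      rw [Pi.single_apply]
      refine if_congr ⟨fun h => ?_, fun h => ?_⟩ rfl rfl
      · have h2 := congrArg (g • ·) h
        simp only [sl_smul_smul, smul_inv_smul] at h2
        exact h2.symm
      · refine sl_injective g ?_
        show g • ((c : F) • g⁻¹ • v) = g • v
        rw [sl_smul_smul, smul_inv_smul, h]
    · rename_i hv
      rw [not_not] at hv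
      rw [hv, sl_smul_zero, Q_zero]
  rw [Finset.sum_congr rfl fun v _ => hterm v, ← Finset.sum_filter, ← hX, Finset.sum_sub_distrib, Finset.sum_const,
    nsmul_eq_mul, chi, ← mul_assoc, mul_comm (X.card : ℂ), mul_assoc, mul_inv_cancel₀ cardX_ne, mul_one,
    ← Finset.mul_sum, Finset.sum_comm]
  congr 2
  refine Finset.sum_congr rfl fun c _ => ?_
  rw [← Finset.mul_sum, Finset.sum_boole, hX, Finset.filter_filter]
  rfl

theorem chi_inv (θ : Fˣ →* ℂˣ) (g : G) : chi θ g⁻¹ =
    (Fintype.card Fˣ : ℂ)⁻¹ * ∑ c : Fˣ, (θ c⁻¹ : ℂ) * (Nc c g : ℂ) - δ θ := by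
  rw [chi]
  congr 2
  refine Fintype.sum_equiv (Equiv.inv Fˣ) _ _ fun c => ?_
  simp [Nc_inv]

theorem chi_inner (θ θ' : Fˣ →* ℂˣ) :
    classInner (chi (m := m) θ) (chi θ') = @ite _ (θ = θ') (_root_.Classical.propDecidable _) 1 0 := by
  classical
  set u : ℂ := (Fintype.card Fˣ : ℂ) with hu
  have hu0 : u ≠ 0 := cardU_ne
  set N : ℂ := (Fintype.card G : ℂ) with hN
  have hN0 : N ≠ 0 := Nat.cast_ne_zero.2 Fintype.card_ne_zero
  have hconj : ∀ g : G, conj (chi θ' g) = chi θ' g⁻¹ := fun g => by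
    rw [← character_sub, ← character_sub, character_inv]
  have hsum : ∀ c : Fˣ, (∑ g : G, (Nc c g : ℂ)) = N := fun c => by
    rw [← Nat.cast_sum, sum_Nc]
  have hprod : ∀ c d : Fˣ, (∑ g : G, (Nc c g : ℂ) * (Nc d g : ℂ)) = N + if c = d then N * u else 0 := fun c d => by
    rw [hu, Fintype.card_units, hN]
    simp only [← Nat.cast_mul, ← Nat.cast_sum, sum_Nc_mul]
    split <;> simp
  have hinv' : ∑ d : Fˣ, (θ' d⁻¹ : ℂ) = u * δ θ' := by
    rw [hu, ← sum_theta]
    exact Fintype.sum_equiv (Equiv.inv Fˣ) _ _ fun d => rfl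
  have hA : ∑ g : G, (∑ c : Fˣ, (θ c : ℂ) * (Nc c g : ℂ)) * (∑ d : Fˣ, (θ' d⁻¹ : ℂ) * (Nc d g : ℂ)) =
      N * (u * δ θ) * (u * δ θ') + N * u * ∑ c : Fˣ, (θ c : ℂ) * (θ' c⁻¹ : ℂ) := by
    simp only [Finset.sum_mul_sum]
    rw [Finset.sum_comm]
    have h1 : ∀ c : Fˣ, ∑ g : G, ∑ d : Fˣ, (θ c : ℂ) * (Nc c g : ℂ) * ((θ' d⁻¹ : ℂ) * (Nc d g : ℂ)) =
        (θ c : ℂ) * (N * (u * δ θ')) + (θ c : ℂ) * (θ' c⁻¹ : ℂ) * (N * u) := by
      intro c
      rw [Finset.sum_comm, Finset.sum_congr rfl (g := fun d => (θ c : ℂ) * (θ' d⁻¹ : ℂ) * N +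
        if c = d then (θ c : ℂ) * (θ' d⁻¹ : ℂ) * (N * u) else 0) fun d _ => ?_]
      · rw [Finset.sum_add_distrib, Finset.sum_ite_eq, if_pos (Finset.mem_univ _), ← Finset.sum_mul, ← Finset.mul_sum,
          hinv']
        ring
      · rw [Finset.sum_congr rfl (g := fun g => (θ c : ℂ) * (θ' d⁻¹ : ℂ) * ((Nc c g : ℂ) * (Nc d g : ℂ))) fun g _ => by ring,
          ← Finset.mul_sum, hprod]
        split <;> ring
    rw [Finset.sum_congr rfl fun c _ => h1 c, Finset.sum_add_distrib, ← Finset.sum_mul, ← Finset.sum_mul, sum_theta]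
    ring
  have hB : ∀ φ : Fˣ → ℂ, ∑ g : G, ∑ c : Fˣ, φ c * (Nc c g : ℂ) = N * ∑ c, φ c := fun φ => by
    rw [Finset.sum_comm, Finset.mul_sum]
    refine Finset.sum_congr rfl fun c _ => ?_
    rw [← Finset.mul_sum, hsum, mul_comm]
  have horth : ∑ c : Fˣ, (θ c : ℂ) * (θ' c⁻¹ : ℂ) = if θ = θ' then u else 0 := by
    have h1 : ∀ c, (θ c : ℂ) * (θ' c⁻¹ : ℂ) = ((θ * θ'⁻¹) c : ℂˣ) := fun c => by simp
    rw [Finset.sum_congr rfl fun c _ => h1 c, sum_theta, δ]
    by_cases h : θ = θ'
    · rw [if_pos h, if_pos (mul_inv_eq_one.2 h), mul_one]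
    · rw [if_neg h, if_neg fun h2 => h (mul_inv_eq_one.1 h2), mul_zero]
  rw [classInner, Nat.card_eq_fintype_card, ← hN]
  have hexp : ∀ g : G, chi θ g * conj (chi θ' g) =
      u⁻¹ * u⁻¹ * ((∑ c : Fˣ, (θ c : ℂ) * (Nc c g : ℂ)) * (∑ d : Fˣ, (θ' d⁻¹ : ℂ) * (Nc d g : ℂ)))
        - δ θ' * u⁻¹ * (∑ c : Fˣ, (θ c : ℂ) * (Nc c g : ℂ)) - δ θ * u⁻¹ * (∑ d : Fˣ, (θ' d⁻¹ : ℂ) * (Nc d g : ℂ))
        + δ θ * δ θ' := fun g => by
    rw [hconj, chi_inv, chi, ← hu]
    ring
  rw [Finset.sum_congr rfl fun g _ => hexp g, Finset.sum_add_distrib, Finset.sum_sub_distrib, Finset.sum_sub_distrib,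
    ← Finset.mul_sum, ← Finset.mul_sum, ← Finset.mul_sum, hA, hB, hB, sum_theta, hinv', horth, Finset.sum_const,
    Finset.card_univ, nsmul_eq_mul, ← hN, ← hu]
  split
  · field_simp
    ring
  · field_simp
    ring

theorem chi_isIrr (θ : Fˣ →* ℂˣ) : IsIrrCharacter G (chi θ) := by
  have hchar : IsCharacter G (chi θ) := by
    have := isCharacter_of_rep (sub m θ).toRepresentation
    rwa [show (sub m θ).toRepresentation.character = chi θ from funext (character_sub θ)] at this
  rw [isIrr_iff_norm_one hchar, chi_inner]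
  simp

theorem chi_injective : Function.Injective (chi (m := m) (F := F)) := by
  intro θ θ' h
  have h1 := chi_inner (m := m) θ θ'
  rw [h, chi_inner] at h1
  by_contra hne
  simp [hne] at h1

theorem chi_one (θ : Fˣ →* ℂˣ) :
    chi θ (1 : G) = (Fintype.card Fˣ : ℂ)⁻¹ * ((Fintype.card F ^ (m + 3) - 1 : ℕ) : ℂ) - δ θ := by
  rw [chi, Finset.sum_eq_single (1 : Fˣ)]
  · rw [Nc_one_one, if_pos rfl, map_one, Units.val_one, one_mul]
  · intro c _ hc
    rw [Nc_one_one, if_neg hc, Nat.cast_zero, mul_zero]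
  · simp

theorem sum_chi [Fintype (Fˣ →* ℂˣ)] (g : G) : 1 + ∑ θ : Fˣ →* ℂˣ, chi θ g = (Nc 1 g : ℂ) := by
  classical
  have hcard : Fintype.card (Fˣ →* ℂˣ) = Fintype.card Fˣ := by
    rw [← Nat.card_eq_fintype_card, CommGroup.card_monoidHom_of_hasEnoughRootsOfUnity Fˣ ℂ, Nat.card_eq_fintype_card]
  have hdual : ∀ c : Fˣ, ∑ θ : Fˣ →* ℂˣ, (θ c : ℂ) = if c = 1 then (Fintype.card Fˣ : ℂ) else 0 := by
    intro c
    split
    · rename_i hc
      subst hc
      simp [hcard]
    · rename_i hc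
      obtain ⟨φ, hφ⟩ := CommGroup.exists_apply_ne_one_of_hasEnoughRootsOfUnity Fˣ ℂ hc
      have h1 : (φ c : ℂ) * ∑ θ : Fˣ →* ℂˣ, (θ c : ℂ) = ∑ θ : Fˣ →* ℂˣ, (θ c : ℂ) := by
        rw [Finset.mul_sum]
        exact Fintype.sum_equiv (Equiv.mulLeft φ) _ _ fun θ => by simp
      by_contra hne
      exact hφ (Units.ext (mul_right_cancel₀ hne (h1.trans (one_mul _).symm)))
  simp only [chi]
  rw [Finset.sum_sub_distrib, ← Finset.mul_sum, Finset.sum_comm, show (∑ θ : Fˣ →* ℂˣ, δ θ) = 1 by
    refine (Finset.sum_eq_single (1 : Fˣ →* ℂˣ) (fun θ _ h => ?_) ?_).trans ?_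
    · exact if_neg h
    · simp
    · exact if_pos rfl]
  simp only [← Finset.sum_mul, hdual, ite_mul, zero_mul, Finset.sum_ite_eq', Finset.mem_univ, if_true]
  rw [← mul_assoc, inv_mul_cancel₀ cardU_ne, one_mul]
  ring

end Cfsg.Agent.SLDeg.Perm
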