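import Cfsg.Agent.SLDeg.Eigs

/-!
An eigenline of an axis group is fixed by the transvections with centres in both kernels.
-/

set_option autoImplicit false
set_option linter.unusedSectionVars false

namespace Cfsg.Agent.SLDeg

open Matrix Module SUDeg
open scoped InnerProductSpace

variable {n m : ℕ} {F : Type*} [Field F] [Fintype F]
variable {E : Type*} [NormedAddCommGroup E] [InnerProductSpace ℂ E] [FiniteDimensional ℂ E]

theorem eq_of_dot {u w : Fin n → F} (h : ∀ z, u ⬝ᵥ z = w ⬝ᵥ z) : u = w := funext fun i => by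
  simpa using h (Pi.single i 1)

theorem pull_tv_fix (a h : Fin n → F) (hh : h ⬝ᵥ a = 0) {f : Fin n → F} (hf : f ⬝ᵥ a = 0) :
    pull (tv a h hh) f = f := eq_of_dot fun z => by
  rw [pull_dot, tv_apply, dotProduct_add, dotProduct_smul, hf, smul_zero, add_zero]

theorem exists_unit_pow_ne_one (k : ℕ) (hk : ¬ (Fintype.card F - 1 ∣ k)) : ∃ c : F, c ≠ 0 ∧ c ^ k ≠ 1 := by
  obtain ⟨g, hg⟩ := IsCyclic.exists_generator (α := Fˣ)
  refine ⟨g, g.ne_zero, fun h => hk ?_⟩
  have h1 : g ^ k = 1 := Units.ext (by rw [Units.val_pow_eq_pow_val, h, Units.val_one])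
  rw [← Nat.card_eq_fintype_card, ← Nat.card_units, ← orderOf_eq_card_of_forall_mem_zpowers hg]
  exact orderOf_dvd_of_pow_eq_one h1

/-- A vector in the common kernel of some functionals outside a given line. -/
theorem exists_kernel {k : ℕ} (L : Fin k → Fin n → F) (a : Fin n → F) (hk : k + 1 < n) :
    ∃ b, (∀ i, L i ⬝ᵥ b = 0) ∧ b ∉ Submodule.span F {a} := by
  classical
  by_contra hc
  push Not at hc
  let T : (Fin n → F) →ₗ[F] (Fin k → F) := Matrix.mulVecLin (Matrix.of L)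
  have h1 := LinearMap.finrank_range_add_finrank_ker T
  have h2 : finrank F (LinearMap.range T) ≤ k := (Submodule.finrank_le _).trans_eq (Module.finrank_fin_fun F)
  have h3 : LinearMap.ker T ≤ Submodule.span F {a} := fun b hb =>
    hc b fun i => congrFun (LinearMap.mem_ker.1 hb) i
  have h4 := Submodule.finrank_mono h3
  have h5 := finrank_span_le_card (R := F) ({a} : Set (Fin n → F))
  rw [Set.toFinset_singleton, Finset.card_singleton] at h5
  rw [Module.finrank_fin_fun] at h1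
  omega

variable {π : Representation ℂ (SLn n F) E} {ψ : AddChar F ℂ} {C : Submodule ℂ E}

/-- An element multiplying both functionals by the same scalar acts by a scalar on an eigenline. -/
theorem line_scalar (hC : Inv π C) {f φ : Fin n → F} (hline : finrank ℂ (colEig π ψ C f φ) ≤ 1) {x : E}
    (hx : x ∈ colEig π ψ C f φ) (hx0 : x ≠ 0) (g : SLn n F) {c : F} (hc : c ≠ 0) (hf : pull g f = c • f)
    (hφ : pull g φ = c • φ) : ∃ s : ℂ, s ≠ 0 ∧ π g x = s • x := by
  obtain ⟨hxC, hxe⟩ := mem_colEig.1 hx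
  have hx' : x ∈ colEig π ψ C (c • f) (c • φ) := mem_colEig.2 ⟨hxC, fun a ha => by
    have ha' : f ⬝ᵥ (c • a) = 0 := by rwa [smul_dotProduct, ← dotProduct_smul] at ha
    rw [tv_smul c ha ha', hxe _ ha', smul_dotProduct, ← dotProduct_smul]⟩
  have hgx := colEig_move (f' := f) (φ' := φ) hC g hf hφ hx'
  have hle : Submodule.span ℂ {x} = colEig π ψ C f φ :=
    Submodule.eq_of_le_of_finrank_le ((Submodule.span_singleton_le_iff_mem _ _).2 hx)
      (by rw [finrank_span_singleton hx0]; exact hline)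
  rw [← hle] at hgx
  obtain ⟨s, hs⟩ := Submodule.mem_span_singleton.1 hgx
  exact ⟨s, fun h0 => hx0 (rho_injective π g (by rw [map_zero, ← hs, h0, zero_smul])), hs.symm⟩

/-- The commutator argument. -/
theorem fixed_of_commutator (hC : Inv π C) {f φ a h b : Fin n → F}
    (hline : finrank ℂ (colEig π ψ C f φ) ≤ 1) {x : E} (hx : x ∈ colEig π ψ C f φ) (hx0 : x ≠ 0)
    (hfa : f ⬝ᵥ a = 0) (hφa : φ ⬝ᵥ a = 0) (hha : h ⬝ᵥ a = 0) (hfb : f ⬝ᵥ b = 0) (hφb : φ ⬝ᵥ b = 0)
    (hhb : h ⬝ᵥ b = 0) (hb : b ∉ Submodule.span F {a}) : π (tv a h hha) x = x := by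
  obtain ⟨f₁, hf₁, hf₁a⟩ := Classical.exists_dual_one _ hb
  have hf₁a' : f₁ ⬝ᵥ a = 0 := hf₁a a (Submodule.mem_span_singleton_self a)
  obtain ⟨s, hs, hsx⟩ := line_scalar hC hline hx hx0 (tv a f₁ hf₁a') one_ne_zero
    (by rw [pull_tv_fix _ _ _ hfa, one_smul]) (by rw [pull_tv_fix _ _ _ hφa, one_smul])
  obtain ⟨r, hr, hrx⟩ := line_scalar hC hline hx hx0 (tv b h hhb) one_ne_zero
    (by rw [pull_tv_fix _ _ _ hfb, one_smul]) (by rw [pull_tv_fix _ _ _ hφb, one_smul])
  have key : tv a f₁ hf₁a' * tv b h hhb = tv a h hha * (tv b h hhb * tv a f₁ hf₁a') := sl_ext fun z => by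
    simp only [mul_smul, tv_apply, dotProduct_add, dotProduct_smul, hf₁, hha, hhb, smul_eq_mul, mul_zero, mul_one,
      add_zero]
    module
  have h1 := congrArg (fun g => π g x) key
  simp only [rho_mul, hsx, hrx, map_smul] at h1
  rw [smul_smul, smul_smul, mul_comm r s] at h1
  exact (smul_right_injective E (mul_ne_zero hs hr) h1).symm

/-- The scaling argument. -/
theorem fixed_of_scaling (hC : Inv π C) {f φ a h : Fin n → F}
    (hline : finrank ℂ (colEig π ψ C f φ) ≤ 1) {x : E} (hx : x ∈ colEig π ψ C f φ) (hx0 : x ≠ 0)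
    (hfa : f ⬝ᵥ a = 0) (hφa : φ ⬝ᵥ a = 0) (hha : h ⬝ᵥ a = 0) {d : SLn n F} {c l u : F} (hc : c ≠ 0)
    (hf : pull d f = c • f) (hφ : pull d φ = c • φ) (hda : d • a = l • a) (hdh : pull d h = u • h) (hne : l ≠ u) :
    π (tv a h hha) x = x := by
  set t : F := (u - l)⁻¹
  have hd : ∀ r : F, (r • h) ⬝ᵥ a = 0 := fun r => by rw [smul_dotProduct, hha, smul_zero]
  obtain ⟨s, hs, hsx⟩ := line_scalar hC hline hx hx0 d hc hf hφ
  obtain ⟨r, hr, hrx⟩ := line_scalar hC hline hx hx0 (tv a ((u * t) • h) (hd _)) one_ne_zero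
    (by rw [pull_tv_fix _ _ _ hfa, one_smul]) (by rw [pull_tv_fix _ _ _ hφa, one_smul])
  have hdt : (t • h) ⬝ᵥ (d • a) = 0 := by rw [hda, dotProduct_smul, hd, smul_zero]
  have hla : (t • h) ⬝ᵥ (l • a) = 0 := by rw [dotProduct_smul, hd, smul_zero]
  have h1 := congrArg (fun g => π g x) (conj_tv d a (t • h) hdt)
  simp only [rho_mul, hsx, map_smul] at h1
  rw [tv_congr (f' := (u * t) • h) _ (hd _) rfl (by rw [pull_smul, hdh, smul_smul, mul_comm]), hrx, map_smul, hsx,
    tv_congr hdt hla hda rfl, ← tv_smul l (by rw [smul_dotProduct, hd, smul_zero]) hla,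
    tv_congr (f' := (l * t) • h) _ (hd _) rfl (smul_smul l t h), smul_comm, ← hrx] at h1
  have h2 := smul_right_injective E hs h1
  have hsplit : tv a ((u * t) • h) (hd _) = tv a ((l * t) • h) (hd _) * tv a h hha := by
    rw [tv_mul_right]
    refine tv_congr _ _ rfl ?_
    rw [show u * t = l * t + 1 by
      rw [← sub_eq_iff_eq_add', ← sub_mul, mul_inv_cancel₀ (sub_ne_zero.2 hne.symm)], add_smul, one_smul]
  rw [hsplit, rho_mul] at h2
  exact rho_injective π _ h2

theorem exists_dual_single {a : Fin n → F} (ha : a ≠ 0) : ∃ ℓ : Fin n → F, ℓ ⬝ᵥ a = 1 := by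
  obtain ⟨ℓ, h, -⟩ := Classical.exists_dual_one (⊥ : Submodule F (Fin n → F)) (by simpa using ha : a ∉ ⊥)
  exact ⟨ℓ, h⟩

/-- The second hypothesis of `Good` follows from the first one outside the small exceptions. -/
theorem good_of_line {π : Representation ℂ (SLn (m + 3) F) E} (hC : Inv π C)
    (h3 : m = 0 → Fintype.card F ≠ 2 ∧ Fintype.card F ≠ 4) (h4 : m = 1 → 3 < Fintype.card F)
    (hline : ∀ f φ : Fin (m + 3) → F, LinearIndependent F ![f, φ] → finrank ℂ (colEig π ψ C f φ) ≤ 1) :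
    Good π ψ C := by
  classical
  refine ⟨hline, fun f φ a hli hfa hφa x hx => mem_fixRow.2 ⟨(mem_colEig.1 hx).1, fun h hha => ?_⟩⟩
  rcases eq_or_ne x 0 with hx0 | hx0
  · rw [hx0, map_zero]
  have hl := hline f φ hli
  rcases eq_or_ne a 0 with ha0 | ha0
  · rw [tv_congr hha (dotProduct_zero h) ha0 rfl, tv_zero_left, map_one, Module.End.one_apply]
  by_cases hA : ∃ b, f ⬝ᵥ b = 0 ∧ φ ⬝ᵥ b = 0 ∧ h ⬝ᵥ b = 0 ∧ b ∉ Submodule.span F {a}
  · obtain ⟨b, h1, h2, h3', h4'⟩ := hA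
    exact fixed_of_commutator hC hl hx hx0 hfa hφa hha h1 h2 h3' h4'
  push Not at hA
  rcases m with _ | _ | m
  · -- dimension three
    obtain ⟨c, hc, hc3⟩ := exists_unit_pow_ne_one (F := F) 3 (fun hdvd => by
      obtain ⟨h2, h4'⟩ := h3 rfl
      have hq := Fintype.one_lt_card (α := F)
      have := Nat.le_of_dvd (by norm_num) hdvd
      have hq3 : Fintype.card F = 3 := by omega
      rw [hq3] at hdvd
      norm_num at hdvd)
    obtain ⟨ℓ, hℓ⟩ := exists_dual_single ha0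
    set α : F := (c ^ 3)⁻¹ - 1 with hα
    let d : SLn (0 + 3) F := mkSL (c • (1 + Matrix.vecMulVec a (α • ℓ))) (by
      rw [Matrix.det_smul, Classical.det_one_add_vecMulVec, smul_dotProduct, hℓ, Fintype.card_fin, smul_eq_mul,
        mul_one, hα, add_sub_cancel, mul_inv_cancel₀ (pow_ne_zero _ hc)])
    have hd : ∀ z, d • z = c • (z + (α * (ℓ ⬝ᵥ z)) • a) := fun z => by
      rw [mkSL_apply, Matrix.smul_mulVec, Matrix.add_mulVec, Matrix.one_mulVec, Matrix.vecMulVec_mulVec,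
        op_smul_eq_smul, smul_dotProduct, smul_eq_mul]
    have hp : ∀ w : Fin (0 + 3) → F, w ⬝ᵥ a = 0 → pull d w = c • w := fun w hw => eq_of_dot fun z => by
      rw [pull_dot, hd, dotProduct_smul, dotProduct_add, dotProduct_smul, hw, smul_zero, add_zero, smul_dotProduct]
    refine fixed_of_scaling hC hl hx hx0 hfa hφa hha (d := d) (c := c) (l := c * (1 + α)) (u := c) hc
      (hp f hfa) (hp φ hφa) ?_ (hp h hha) ?_
    · rw [hd, hℓ, mul_one, mul_smul, add_smul, one_smul]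
    · intro h1
      refine hc3 ?_
      have h2 : (c ^ 3)⁻¹ = 1 := by
        have := mul_left_cancel₀ hc (h1.trans (mul_one c).symm)
        rw [hα, add_sub_cancel] at this
        exact this
      rwa [inv_eq_one] at h2
  · -- dimension four
    obtain ⟨c, hc, hc2⟩ := exists_unit_pow_ne_one (F := F) 2 (fun hdvd => by
      have := Nat.le_of_dvd (by norm_num) hdvd
      have := h4 rfl
      omega)
    obtain ⟨b, hb, hba⟩ := exists_kernel ![f, φ] a (by omega)
    have hhb : h ⬝ᵥ b ≠ 0 := fun h0 => hba (hA b (hb 0) (hb 1) h0)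
    set b₀ := (h ⬝ᵥ b)⁻¹ • b with hb₀
    have hhb₀ : h ⬝ᵥ b₀ = 1 := by rw [hb₀, dotProduct_smul, smul_eq_mul, inv_mul_cancel₀ hhb]
    have hfb : f ⬝ᵥ b₀ = 0 := by rw [hb₀, dotProduct_smul, show f ⬝ᵥ b = 0 from hb 0, smul_zero]
    have hφb : φ ⬝ᵥ b₀ = 0 := by rw [hb₀, dotProduct_smul, show φ ⬝ᵥ b = 0 from hb 1, smul_zero]
    obtain ⟨ℓ, hℓ, hℓb⟩ := Classical.exists_dual_one (Submodule.span F {b₀}) (fun hm : a ∈ _ => by
      obtain ⟨r, hr⟩ := Submodule.mem_span_singleton.1 hm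
      rw [← hr, dotProduct_smul, hhb₀, smul_eq_mul, mul_one] at hha
      exact ha0 (by rw [← hr, hha, zero_smul]))
    have hℓb' : ℓ ⬝ᵥ b₀ = 0 := hℓb _ (Submodule.mem_span_singleton_self _)
    let d : SLn (1 + 3) F := mkSL ((1 + Matrix.vecMulVec a ((c - 1) • ℓ)) * (1 + Matrix.vecMulVec b₀ ((c⁻¹ - 1) • h))) (by
      rw [Matrix.det_mul, Classical.det_one_add_vecMulVec, Classical.det_one_add_vecMulVec, smul_dotProduct, hℓ,
        smul_dotProduct, hhb₀, smul_eq_mul, smul_eq_mul, mul_one, mul_one, add_sub_cancel, add_sub_cancel,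
        mul_inv_cancel₀ hc])
    have hd : ∀ z, d • z = z + ((c - 1) * (ℓ ⬝ᵥ z)) • a + ((c⁻¹ - 1) * (h ⬝ᵥ z)) • b₀ := fun z => by
      rw [mkSL_apply, ← Matrix.mulVec_mulVec, Matrix.add_mulVec _ _ z, Matrix.one_mulVec, Matrix.vecMulVec_mulVec,
        op_smul_eq_smul, Matrix.add_mulVec, Matrix.one_mulVec, Matrix.vecMulVec_mulVec, op_smul_eq_smul]
      simp only [smul_dotProduct, dotProduct_add, dotProduct_smul, hℓb', smul_eq_mul, mul_zero, add_zero]
      module
    have hp : ∀ w : Fin (1 + 3) → F, w ⬝ᵥ a = 0 → w ⬝ᵥ b₀ = 0 → pull d w = w := fun w hw hw' => eq_of_dot fun z => by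
      rw [pull_dot, hd, dotProduct_add, dotProduct_add, dotProduct_smul, dotProduct_smul, hw, hw', smul_zero,
        smul_zero, add_zero, add_zero]
    refine fixed_of_scaling hC hl hx hx0 hfa hφa hha (d := d) (c := (1 : F)) (l := c) (u := c⁻¹) one_ne_zero
      (by rw [hp f hfa hfb, one_smul]) (by rw [hp φ hφa hφb, one_smul]) ?_ ?_ ?_
    · rw [hd, hℓ, hha, mul_one, mul_zero, zero_smul, add_zero, sub_smul, one_smul, add_sub_cancel]
    · refine eq_of_dot fun z => ?_
      rw [pull_dot, hd, dotProduct_add, dotProduct_add, dotProduct_smul, dotProduct_smul, hha, hhb₀, smul_dotProduct,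
        smul_zero, add_zero, smul_eq_mul, smul_eq_mul]
      ring
    · intro h1
      exact hc2 (by rw [sq]; nth_rewrite 2 [h1]; exact mul_inv_cancel₀ hc)
  · -- dimension five or more
    obtain ⟨b, hb, hba⟩ := exists_kernel ![f, φ, h] a (by omega)
    exact absurd (hA b (hb 0) (hb 1) (hb 2)) hba

end Cfsg.Agent.SLDeg
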