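import Cfsg.Agent.SLDeg.Rec
import Cfsg.Agent.SLDeg.Fixed

/-!
The smallest degree of a nontrivial irreducible representation of a special linear group.
-/

set_option autoImplicit false
set_option linter.unusedSectionVars false

namespace Cfsg.Agent.SLDeg

open Matrix Module SUDeg
open scoped InnerProductSpace

variable {m : ℕ} {F : Type*} [Field F] [Fintype F]

theorem exists_addChar_ne_one : ∃ ψ : AddChar F ℂ, ψ ≠ 1 := by
  classical
  by_contra hc
  push Not at hc
  haveI : Subsingleton (AddChar F ℂ) := ⟨fun a b => (hc a).trans (hc b).symm⟩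
  have h1 : Fintype.card (AddChar F ℂ) ≤ 1 := Fintype.card_le_one_iff_subsingleton.2 inferInstance
  rw [AddChar.card_eq] at h1
  have := Fintype.one_lt_card (α := F)
  omega

theorem target_le (q j : ℕ) (hq : 2 ≤ q) : (q ^ (j + 1) - q) / (q - 1) ≤ 2 * (q ^ j - 1) := by
  refine Nat.div_le_of_le_mul ?_
  have h1 : q ^ (j + 1) - q = q * (q ^ j - 1) := by rw [Nat.mul_sub, mul_one, ← pow_succ']
  rw [h1, ← mul_assoc]
  exact Nat.mul_le_mul_right _ (by omega)

theorem points_eq (q n P : ℕ) (hq : 2 ≤ q) (hn : 1 ≤ n) (h : q ^ n = P * (q - 1) + 1) :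
    (q ^ n - q) / (q - 1) + 1 = P := by
  have hP : 1 ≤ P := by
    by_contra h0
    have : q ≤ q ^ n := Nat.le_self_pow (by omega) q
    rw [show P = 0 by omega] at h
    omega
  obtain ⟨P', rfl⟩ : ∃ P', P = P' + 1 := ⟨P - 1, by omega⟩
  rw [add_mul, one_mul] at h
  rw [show q ^ n - q = P' * (q - 1) by omega, Nat.mul_div_cancel _ (by omega)]

theorem no_trivial {k : ℕ} {G : Type*} [Group G] (ρ : Representation ℂ G (Fin k → ℂ)) (hirr : ρ.IsIrreducible)
    (hk : 2 ≤ k) {v : Fin k → ℂ} (hv : ∀ g, ρ g v = v) : v = 0 := by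
  by_contra h0
  let S : Subrepresentation ρ := ⟨Submodule.span ℂ {v}, fun g x hx => by
    obtain ⟨c, rfl⟩ := Submodule.mem_span_singleton.1 hx
    rw [map_smul, hv]
    exact Submodule.smul_mem _ _ (Submodule.mem_span_singleton_self v)⟩
  rcases IsSimpleOrder.eq_bot_or_eq_top S with h1 | h1
  · have h2 : S.toSubmodule = ⊥ := by rw [h1]; rfl
    exact h0 (Submodule.span_singleton_eq_bot.1 h2)
  · have h2 : S.toSubmodule = ⊤ := by rw [h1]; rfl
    have h3 := finrank_span_singleton (K := ℂ) h0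
    change Module.finrank ℂ S.toSubmodule = 1 at h3
    rw [h2, finrank_top, Module.finrank_fintype_fun_eq_card, Fintype.card_fin] at h3
    omega

variable {E : Type*} [NormedAddCommGroup E] [InnerProductSpace ℂ E] [FiniteDimensional ℂ E]

/-- An invariant subspace without fixed vectors is large. -/
theorem target_le_finrank {π : Representation ℂ (SLn (m + 3) F) E} {C : Submodule ℂ E} (hU : IsUni π) (hI : Inv π C)
    (hfix : ∀ x ∈ C, (∀ g, π g x = x) → x = 0) (hC : C ≠ ⊥)
    (h3 : m = 0 → Fintype.card F ≠ 2 ∧ Fintype.card F ≠ 4) (h4 : m = 1 → 3 < Fintype.card F) :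
    (Fintype.card F ^ (m + 3) - Fintype.card F) / (Fintype.card F - 1) ≤ finrank ℂ C := by
  classical
  by_contra hlt
  push Not at hlt
  have hq : 2 ≤ Fintype.card F := Fintype.one_lt_card
  obtain ⟨ψ, hψ⟩ := exists_addChar_ne_one (F := F)
  have hline : ∀ f φ : Fin (m + 3) → F, LinearIndependent F ![f, φ] → finrank ℂ (colEig π ψ C f φ) ≤ 1 := by
    intro f φ hli
    by_contra h1
    have h2 := mult_mul_le hψ hI (π := π) hli
    rw [Nat.card_eq_fintype_card] at h2
    have h5 : (Fintype.card F ^ (m + 3) - Fintype.card F) / (Fintype.card F - 1)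
        ≤ 2 * (Fintype.card F ^ (m + 2) - 1) := target_le (Fintype.card F) (m + 2) hq
    have h6 := Nat.mul_le_mul_left (Fintype.card F ^ (m + 2) - 1) (Nat.lt_of_not_le h1)
    omega
  obtain ⟨z', hz'C, hz'0, hz'⟩ := struct m π ψ C hU hI hψ (good_of_line hI h3 h4 hline) hfix hC
  set z := (‖z'‖⁻¹ : ℂ) • z' with hz
  have hzC : z ∈ C := C.smul_mem _ hz'C
  have hzn : ‖z‖ = 1 := by
    rw [hz, norm_smul, norm_inv, Complex.norm_real, norm_norm, inv_mul_cancel₀ (norm_ne_zero_iff.2 hz'0)]
  have hzfix : ∀ g : SLn (m + 3) F, g • (e 0 : Fin (m + 3) → F) = e 0 → π g z = z := fun g hg => by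
    rw [hz, map_smul, hz' g hg]
  have hex : ∀ a : Fin (m + 3) → F, a ≠ 0 → ∃ g : SLn (m + 3) F, g • (e 0 : Fin (m + 3) → F) = a := by
    intro a ha
    obtain ⟨w, hw⟩ := exists_third a a
    rw [Set.pair_eq_singleton] at hw
    obtain ⟨g, g0, -⟩ := exists_move2 (li_pair ha hw)
    exact ⟨g, g0⟩
  let za : (Fin (m + 3) → F) → E := fun a => if ha : a ≠ 0 then π (hex a ha).choose z else 0
  have hza : ∀ g : SLn (m + 3) F, za (g • e 0) = π g z := by
    intro g
    have ha : g • (e 0 : Fin (m + 3) → F) ≠ 0 := fun h0 => by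
      have h1 := congrArg (g⁻¹ • ·) h0
      simp only [inv_smul_smul, sl_smul_zero] at h1
      simpa using congrFun h1 0
    simp only [za, dif_pos ha]
    set g' := (hex _ ha).choose
    have hg' : g' • (e 0 : Fin (m + 3) → F) = g • e 0 := (hex _ ha).choose_spec
    conv_lhs => rw [show g' = g * (g⁻¹ * g') by rw [mul_inv_cancel_left]]
    rw [rho_mul, hzfix (g⁻¹ * g') (by rw [mul_smul, hg', inv_smul_smul])]
  set κ := ⟪z, za (e 1)⟫_ℂ with hκdef
  have hpair : ∀ a b : Fin (m + 3) → F, LinearIndependent F ![a, b] → ⟪za a, za b⟫_ℂ = κ := by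
    intro a b hab
    obtain ⟨g, g0, g1⟩ := exists_move2 hab
    obtain ⟨k, hk⟩ := hex (e 1) fun h0 => by simpa using congrFun h0 1
    rw [← g0, ← g1, hza, ← hk, ← mul_smul, hza, rho_mul, hU, hκdef, ← hk, hza]
  by_cases hκ : κ = 1
  · refine (by rw [hzn]; exact one_ne_zero : ‖z‖ ≠ 0) ?_
    rw [norm_eq_zero]
    refine hfix z hzC fun g => ?_
    have hnorm : ∀ g : SLn (m + 3) F, ‖π g z‖ = 1 := fun g => by rw [norm_rho hU, hzn]
    have heq : ∀ a b : Fin (m + 3) → F, LinearIndependent F ![a, b] → za a = za b := by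
      intro a b hab
      obtain ⟨g₁, hg₁⟩ := hex a (li_pair_iff.1 hab).1
      obtain ⟨g₂, hg₂⟩ := hex b (hab.ne_zero 1)
      have h1 := hpair a b hab
      rw [← hg₁, ← hg₂, hza, hza, hκ] at h1
      rw [← hg₁, ← hg₂, hza, hza]
      exact (inner_eq_one_iff_of_norm_eq_one (hnorm g₁) (hnorm g₂)).1 h1
    have he0 : (e 0 : Fin (m + 3) → F) ≠ 0 := fun h0 => by simpa using congrFun h0 0
    have hg0 : g • (e 0 : Fin (m + 3) → F) ≠ 0 := fun h0 => he0 (sl_injective g (h0.trans (sl_smul_zero g).symm))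
    obtain ⟨c, hc⟩ := exists_third (g • (e 0 : Fin (m + 3) → F)) (e 0)
    have h1 := heq (g • e 0) c (li_pair hg0 fun hm => hc (Submodule.span_mono (by simp) hm))
    have h2 := heq (e 0) c (li_pair he0 fun hm => hc (Submodule.span_mono (by simp) hm))
    rw [← h2, hza] at h1
    rw [h1]
    simpa using hza 1
  · let P := Projectivization F (Fin (m + 3) → F)
    haveI : Finite P := Quotient.finite _
    let _ := Fintype.ofFinite P
    have hzC' : ∀ p : P, za p.rep ∈ C := fun p => by
      obtain ⟨g, hg⟩ := hex p.rep p.rep_nonzero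
      rw [← hg, hza]
      exact hI g z hzC
    have h1 := simplex_rank C (fun p : P => za p.rep) hzC' hκ (fun p => by
        obtain ⟨g, hg⟩ := hex p.rep p.rep_nonzero
        rw [← hg, hza, hU, inner_self_eq_norm_sq_to_K, hzn]
        simp)
      fun p p' hpp => hpair _ _ (li_pair p.rep_nonzero fun hm => hpp (by
        obtain ⟨c, hc'⟩ := Submodule.mem_span_singleton.1 hm
        have hc0 : c ≠ 0 := fun h0 => p'.rep_nonzero (by rw [← hc', h0, zero_smul])
        rw [← Projectivization.mk_rep p, ← Projectivization.mk_rep p', Projectivization.mk_eq_mk_iff']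
        exact ⟨c⁻¹, by rw [← hc', inv_smul_smul₀ hc0]⟩))
    have h2 := Projectivization.card' F (Fin (m + 3) → F)
    rw [Nat.card_fun, Nat.card_eq_fintype_card (α := Fin (m + 3)), Fintype.card_fin,
      Nat.card_eq_fintype_card (α := P), Nat.card_eq_fintype_card (α := F)] at h2
    have h5 := points_eq (Fintype.card F) (m + 3) (Fintype.card P) hq (by omega) h2
    omega

/-- The degree bound. -/
theorem degree_ge [DecidableEq F] (h3 : m = 0 → Fintype.card F ≠ 2 ∧ Fintype.card F ≠ 4)
    (h4 : m = 1 → 3 < Fintype.card F) (k : ℕ) (ρ : Representation ℂ (SLn (m + 3) F) (Fin k → ℂ))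
    (hirr : ρ.IsIrreducible) (hk : 2 ≤ k) :
    (Fintype.card F ^ (m + 3) - Fintype.card F) / (Fintype.card F - 1) ≤ k := by
  classical
  let π : Representation ℂ (SLn (m + 3) F) (EuclideanSpace ℂ (SLn (m + 3) F × Fin k)) :=
    { toFun := fun g =>
        { toFun := fun x => (EuclideanSpace.equiv _ ℂ).symm fun p => x (p.1 * g, p.2)
          map_add' := fun x y => rfl
          map_smul' := fun c x => rfl }
      map_one' := LinearMap.ext fun x => by
        ext p
        simp
      map_mul' := fun g g' => LinearMap.ext fun x => by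
        ext p
        simp [mul_assoc] }
  let T : (Fin k → ℂ) →ₗ[ℂ] EuclideanSpace ℂ (SLn (m + 3) F × Fin k) :=
    { toFun := fun v => (EuclideanSpace.equiv _ ℂ).symm fun p => ρ p.1 v p.2
      map_add' := fun v w => by ext p; simp
      map_smul' := fun c v => by ext p; simp }
  have hT : ∀ g v, π g (T v) = T (ρ g v) := fun g v => by
    ext p
    simp [π, T, map_mul]
  have hTinj : Function.Injective T := fun v w h => funext fun i => by
    have h1 := congrArg (fun x : EuclideanSpace ℂ (SLn (m + 3) F × Fin k) => x (1, i)) h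
    simpa [T] using h1
  have hU : IsUni π := fun g x y => by
    rw [PiLp.inner_apply, PiLp.inner_apply]
    exact Fintype.sum_equiv ((Equiv.mulRight g).prodCongr (Equiv.refl (Fin k))) _
      (fun p => ⟪x p, y p⟫_ℂ) fun p => rfl
  have hfinrank : finrank ℂ (LinearMap.range T) = k := by
    rw [LinearMap.finrank_range_of_inj hTinj, Module.finrank_fin_fun]
  have := target_le_finrank (π := π) (C := LinearMap.range T) hU ?_ ?_ ?_ h3 h4
  · rwa [hfinrank] at this
  · rintro g _ ⟨v, rfl⟩
    exact ⟨ρ g v, (hT g v).symm⟩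
  · rintro _ ⟨v, rfl⟩ hv
    rw [no_trivial ρ hirr hk (v := v) fun g => hTinj (by rw [← hT]; exact hv g), map_zero]
  · intro h0
    have h1 : finrank ℂ (LinearMap.range T) = 0 := Submodule.finrank_eq_zero.2 h0
    omega

end Cfsg.Agent.SLDeg
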