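import Cfsg.Agent.SLDeg.Line

/-!
No flag vector exists in the standing situation.
-/

set_option autoImplicit false
set_option linter.unusedSectionVars false

namespace Cfsg.Agent.SLDeg

open Matrix Module SUDeg
open scoped InnerProductSpace ComplexConjugate

variable {m : ℕ} {F : Type*} [Field F] [Fintype F]
variable {E : Type*} [NormedAddCommGroup E] [InnerProductSpace ℂ E] [FiniteDimensional ℂ E]
variable {π : Representation ℂ (SLn (m + 3) F) E} {ψ : AddChar F ℂ} {C : Submodule ℂ E} {v : E} {η μ : F → ℂ}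

theorem flag_coeff_ne_zero {g : SLn (m + 3) F} {x y t : F} (g0 : g • (e 0 : Fin (m + 3) → F) = x • e 0)
    (g1 : g • (e 1 : Fin (m + 3) → F) = y • e 1 + t • e 0) : x ≠ 0 ∧ y ≠ 0 := by
  have hli := li_move g (li_ee (F := F) (ne01 (m := m)))
  rw [g0, g1] at hli
  have hx : x ≠ 0 := fun h0 => hli.ne_zero 0 (by simp [h0])
  exact ⟨hx, fun h0 => (li_pair_iff.1 hli).2 (Submodule.mem_span_singleton.2 ⟨t / x, by
    rw [h0, zero_smul, zero_add, smul_smul, div_mul_cancel₀ _ hx]⟩)⟩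

theorem flag_triv (hv : IsFlag π C v η μ) (hη : ∀ x : F, x ≠ 0 → η x = 1) (hμ : ∀ x : F, x ≠ 0 → μ x = 1) :
    IsFlag π C v (fun _ => 1) (fun _ => 1) :=
  ⟨hv.mem, hv.norm_eq, rfl, fun g x y t g0 g1 => by
    obtain ⟨hx, hy⟩ := flag_coeff_ne_zero g0 g1
    rw [hv.act g x y t g0 g1, hη x hx, hμ y hy]⟩

/-- Exactly one trivial character is impossible. -/
theorem no_flag_one (h : Ctx π ψ C) (hv : IsFlag π C v η μ) {x₀ : F} (hx₀ : x₀ ≠ 0)
    (hone : ((∀ x : F, x ≠ 0 → η x = 1) ∧ μ x₀ ≠ 1) ∨ ((∀ x : F, x ≠ 0 → μ x = 1) ∧ η x₀ ≠ 1)) : False := by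
  rcases hone with ⟨hη, hne⟩ | ⟨hμ, hne⟩
  · refine kill1 h hv (kq_zero h.uni hv ne01.symm (x := (1 : F)) (y := x₀) one_ne_zero hx₀ ?_)
      (kq_zero h.uni hv ne12 (x := x₀) (y := (1 : F)) hx₀ one_ne_zero ?_)
    · rw [dg1, dg0, hη _ hx₀, hη _ one_ne_zero, mu_one hv, one_mul, one_mul]
      exact fun h1 => hne h1.symm
    · rw [dg1, dg2, mul_one, hη _ hx₀, hη _ one_ne_zero, mu_one hv, one_mul, one_mul, mu_inv hv hx₀]
      exact fun h1 => hne (inv_eq_one.1 h1)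
  · refine kill1 h hv (kq_zero h.uni hv ne01.symm (x := (1 : F)) (y := x₀) one_ne_zero hx₀ ?_)
      (kq_zero h.uni hv ne12 (x := (1 : F)) (y := x₀) one_ne_zero hx₀ ?_)
    · rw [dg1, dg0, hv.eta_one, hμ _ hx₀, hμ _ one_ne_zero, one_mul, mul_one]
      exact hne
    · rw [dg1, dg2, one_mul, hv.eta_one, hμ _ hx₀, hμ _ (inv_ne_zero hx₀), one_mul, mul_one]
      exact hne

/-- In dimension three the characters are not both nontrivial. -/
theorem no_flag_two {π : Representation ℂ (SLn (0 + 3) F) E} (h : Ctx π ψ C) (hv : IsFlag π C v η μ)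
    {x₀ y₀ : F} (hx₀ : x₀ ≠ 0) (hy₀ : y₀ ≠ 0) (hη : η x₀ ≠ 1) (hμ : μ y₀ ≠ 1) : False := by
  classical
  have hn0 : ∀ {x s : F}, x ≠ 0 → s ≠ 0 → η x * μ s ≠ 0 := fun hx hs h0 => by
    have := flag_norm h.uni hv hx hs
    rw [h0, norm_zero] at this
    exact zero_ne_one this
  have h02 : kq π v (e 0) (e 2) = 0 :=
    kq_zero h.uni hv ne02 (x := y₀) (y := (1 : F)) hy₀ one_ne_zero (by
      rw [dg0, dg2, mul_one, mu_one hv, mu_inv hv hy₀]
      intro h1
      exact hμ (inv_eq_one.1 (mul_left_cancel₀ (left_ne_zero_of_mul (hn0 hy₀ hy₀)) h1)))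
  have h21 : kq π v (e 2) (e 1) = 0 :=
    kq_zero h.uni hv ne12.symm (x := (1 : F)) (y := x₀) one_ne_zero hx₀ (by
      rw [dg1, dg2, one_mul, hv.eta_one, eta_inv hv hx₀]
      intro h1
      exact hη (inv_eq_one.1 (mul_right_cancel₀ (right_ne_zero_of_mul (hn0 hx₀ hx₀)) h1)))
  by_cases h20 : kq π v (e 2) (e 0) = 0
  · exact kill2 h hv h02 h20 h21
  have hrel : ∀ x y : F, x ≠ 0 → y ≠ 0 → η (x * y)⁻¹ * μ x = η x * μ y := fun x y hx hy => by
    by_contra hne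
    exact h20 (kq_zero h.uni hv ne02.symm hx hy (by rw [dg0, dg2]; exact hne))
  have hμη : μ x₀ = (η x₀)⁻¹ := by
    have := hrel 1 x₀ one_ne_zero hx₀
    rw [one_mul, mu_one hv, hv.eta_one, mul_one, one_mul, eta_inv hv hx₀] at this
    exact this.symm
  have hη0 : η x₀ ≠ 0 := left_ne_zero_of_mul (hn0 hx₀ hx₀)
  have hcube : η x₀ * η x₀ * η x₀ = 1 := by
    have := hrel x₀ 1 hx₀ one_ne_zero
    rw [mul_one, mu_one hv, eta_inv hv hx₀, hμη, mul_one] at this
    field_simp at this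
    linear_combination (-1 : ℂ) * this
  have h10 : kq π v (e 1) (e 0) = 0 :=
    kq_zero h.uni hv ne01.symm (x := (1 : F)) (y := x₀) one_ne_zero hx₀ (by
      rw [dg1, dg0, hv.eta_one, mu_one hv, mul_one, one_mul, hμη]
      intro h1
      refine hη ?_
      have h2 : η x₀ * η x₀ = 1 := by
        nth_rewrite 1 [h1]
        rw [inv_mul_cancel₀ hη0]
      calc η x₀ = η x₀ * η x₀ * η x₀ := by rw [h2, one_mul]
        _ = 1 := hcube)
  have hfr := frame h hv 0 0 0 le_rfl (fun y hy => by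
      obtain ⟨r, hr, hk, -, -, -⟩ := kq_third h.uni hv hy
      rw [h02, eq_comm, mul_eq_zero] at hk
      rw [Complex.ofReal_zero]
      exact hk.resolve_left (conj_ne_zero' h.uni hv hr).2)
    (fun a y ha hy ha0 hli => by
      rw [(kq_plane h.uni hv ha hy hli ha0).1 h10, Complex.ofReal_zero])
    (fun x hx s t hs => by
      obtain ⟨r, hr, hk⟩ := kq_generic h.uni hv (t := t) hx hs
      rw [h21, eq_comm, mul_eq_zero] at hk
      rw [Complex.ofReal_zero]
      exact hk.resolve_left (conj_ne_zero' h.uni hv hr).1)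
  have hN := real_bound h hv
  set Q : ℝ := (Fintype.card F : ℝ) with hQ
  have hQ2 : (2 : ℝ) ≤ Q := by rw [hQ]; exact_mod_cast Fintype.one_lt_card (α := F)
  set N : ℝ := (finrank ℂ C : ℝ)
  simp only [zero_add, sub_zero, mul_zero, add_zero, mul_one, pow_one] at hfr hN
  have h1 : (Q ^ 3 - 1) * (Q ^ 3 - Q) ≤ (3 * Q * (Q - 1)) * (Q ^ 3 - Q) := by
    have h2 : N * (Q - 1) * (3 * Q * (Q - 1)) ≤ (Q ^ 3 - Q) * (3 * Q * (Q - 1)) :=
      mul_le_mul_of_nonneg_right (by linarith) (mul_nonneg (by linarith) (by linarith))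
    nlinarith
  have h3 : 0 < Q ^ 3 - Q := by nlinarith
  have h4 : Q ^ 3 - 1 ≤ 3 * Q * (Q - 1) := le_of_mul_le_mul_right h1 h3
  have h5 : 0 < (Q - 1) ^ 3 := pow_pos (by linarith) 3
  nlinarith

/-- There is no flag vector. -/
theorem no_flag (h : Ctx π ψ C) (hv : IsFlag π C v η μ) : False := by
  classical
  by_cases hη : ∀ x : F, x ≠ 0 → η x = 1
  · by_cases hμ : ∀ x : F, x ≠ 0 → μ x = 1
    · exact no_flag_triv h (flag_triv hv hη hμ)
    · push Not at hμ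
      obtain ⟨y₀, hy₀, hne⟩ := hμ
      exact no_flag_one h hv hy₀ (Or.inl ⟨hη, hne⟩)
  · push Not at hη
    obtain ⟨x₀, hx₀, hne⟩ := hη
    rcases Nat.eq_zero_or_pos m with hm | hm
    · subst hm
      by_cases hμ : ∀ x : F, x ≠ 0 → μ x = 1
      · exact no_flag_one h hv hx₀ (Or.inr ⟨hμ, hne⟩)
      · push Not at hμ
        obtain ⟨y₀, hy₀, hne'⟩ := hμ
        exact no_flag_two h hv hx₀ hy₀ hne hne'
    · exact hne (eta_trivial h hv hm hx₀)

end Cfsg.Agent.SLDeg
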