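import Mathlib
import Cfsg.Agent.SUDeg.Eigen

/-!
Gram matrix inequalities for finite families in a complex inner product space.
-/

set_option autoImplicit false
set_option linter.unusedSectionVars false

namespace Cfsg.Agent.SLDeg

open Module
open scoped InnerProductSpace ComplexConjugate

variable {E : Type*} [NormedAddCommGroup E] [InnerProductSpace ℂ E] [FiniteDimensional ℂ E]
variable {ι : Type*} [Fintype ι]

/-- The trace inequality for the Gram matrix of vectors in a subspace. -/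
theorem gram_trace (C : Submodule ℂ E) (x : ι → E) (hx : ∀ i, x i ∈ C) :
    (∑ i, ‖x i‖ ^ 2) ^ 2 ≤ (finrank ℂ C : ℝ) * ∑ i, ∑ j, ‖⟪x i, x j⟫_ℂ‖ ^ 2 := by
  set b := stdOrthonormalBasis ℂ C with hb
  have hpar : ∀ i, ‖x i‖ ^ 2 = ∑ k, ‖⟪(b k : E), x i⟫_ℂ‖ ^ 2 := fun i => by
    have h := b.sum_sq_norm_inner_right ⟨x i, hx i⟩
    exact h.symm
  set a : Fin (finrank ℂ C) → ℝ := fun k => ∑ i, ‖⟪(b k : E), x i⟫_ℂ‖ ^ 2
  set y : Fin (finrank ℂ C) → E := fun k => ∑ i, ⟪x i, (b k : E)⟫_ℂ • x i with hy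
  have h1 : ∑ i, ‖x i‖ ^ 2 = ∑ k, a k := by
    rw [Finset.sum_congr rfl fun i _ => hpar i, Finset.sum_comm]
  have hbn : ∀ k, ‖(b k : E)‖ = 1 := fun k => b.orthonormal.1 k
  have h2 : ∀ k, a k ≤ ‖y k‖ := fun k => by
    have h3 : ⟪(b k : E), y k⟫_ℂ = (a k : ℂ) := by
      simp only [a, hy, inner_sum, inner_smul_right, Complex.ofReal_sum, Complex.ofReal_pow]
      refine Finset.sum_congr rfl fun i _ => ?_
      rw [← inner_conj_symm (x i) (b k : E)]
      exact RCLike.conj_mul _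
    have h4 := norm_inner_le_norm (𝕜 := ℂ) (b k : E) (y k)
    rw [h3, hbn, one_mul, Complex.norm_real, Real.norm_eq_abs] at h4
    exact (le_abs_self _).trans h4
  have h5 : ∀ k, ‖y k‖ ^ 2 =
      RCLike.re (∑ i, ∑ j, conj ⟪x i, (b k : E)⟫_ℂ * (⟪x j, (b k : E)⟫_ℂ * ⟪x i, x j⟫_ℂ)) := fun k => by
    rw [norm_sq_eq_re_inner (𝕜 := ℂ)]
    congr 1
    simp only [hy, sum_inner, inner_smul_left, inner_sum, inner_smul_right, Finset.mul_sum]
    rw [Finset.sum_comm]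
    exact Finset.sum_congr rfl fun i _ => Finset.sum_congr rfl fun j _ => by ring
  have h6 : ∑ k, ‖y k‖ ^ 2 = ∑ i, ∑ j, ‖⟪x i, x j⟫_ℂ‖ ^ 2 := by
    rw [Finset.sum_congr rfl fun k _ => h5 k, ← map_sum, Finset.sum_comm, map_sum]
    refine Finset.sum_congr rfl fun i _ => ?_
    rw [Finset.sum_comm, map_sum]
    refine Finset.sum_congr rfl fun j _ => ?_
    have hexp : ∑ k, ⟪x j, (b k : E)⟫_ℂ * ⟪(b k : E), x i⟫_ℂ = ⟪x j, x i⟫_ℂ := by
      have h := b.sum_inner_mul_inner ⟨x j, hx j⟩ ⟨x i, hx i⟩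
      simpa using h
    simp only [inner_conj_symm]
    rw [show ∑ k, ⟪(b k : E), x i⟫_ℂ * (⟪x j, (b k : E)⟫_ℂ * ⟪x i, x j⟫_ℂ)
        = (∑ k, ⟪x j, (b k : E)⟫_ℂ * ⟪(b k : E), x i⟫_ℂ) * ⟪x i, x j⟫_ℂ by
      rw [Finset.sum_mul]; exact Finset.sum_congr rfl fun k _ => by ring, hexp, ← inner_conj_symm (x j) (x i),
      RCLike.conj_mul]
    norm_cast
  rw [h1, ← h6]
  have h7 := sq_sum_le_card_mul_sum_sq (s := (Finset.univ : Finset (Fin (finrank ℂ C)))) (f := a)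
  rw [Finset.card_univ, Fintype.card_fin] at h7
  refine h7.trans (mul_le_mul_of_nonneg_left (Finset.sum_le_sum fun k _ => ?_) (Nat.cast_nonneg _))
  exact pow_le_pow_left₀ (Finset.sum_nonneg fun i _ => sq_nonneg _) (h2 k) 2

/-- A Bessel inequality from a bound on the row sums of a Gram matrix. -/
theorem gram_bessel (x : ι → E) (b R : ℝ) (hb : b ≤ 0) (hR0 : 0 ≤ R)
    (hR : ∀ i, ∑ j, ‖⟪x i, x j⟫_ℂ - (b : ℂ)‖ ≤ R) (y : E) :
    ∑ i, ‖⟪x i, y⟫_ℂ‖ ^ 2 ≤ R * ‖y‖ ^ 2 := by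
  set c : ι → ℂ := fun i => ⟪x i, y⟫_ℂ
  set S : ℝ := ∑ i, ‖c i‖ ^ 2 with hS
  set u : E := ∑ i, c i • x i with hu
  have h1 : ⟪u, y⟫_ℂ = (S : ℂ) := by
    simp only [hu, hS, sum_inner, inner_smul_left, Complex.ofReal_sum, Complex.ofReal_pow]
    exact Finset.sum_congr rfl fun i _ => RCLike.conj_mul _
  have h2 : ‖u‖ ^ 2 ≤ R * S := by
    have e1 : (‖u‖ ^ 2 : ℝ) = RCLike.re ((∑ i, ∑ j, conj (c i) * (c j * (⟪x i, x j⟫_ℂ - (b : ℂ))))
        + (b : ℂ) * (conj (∑ i, c i) * ∑ i, c i)) := by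
      rw [norm_sq_eq_re_inner (𝕜 := ℂ)]
      congr 1
      simp only [hu, sum_inner, inner_smul_left, inner_sum, inner_smul_right, Finset.mul_sum]
      simp only [map_sum, Finset.mul_sum, Finset.sum_mul]
      rw [Finset.sum_comm, Finset.sum_comm (f := fun (i : ι) (j : ι) => (b : ℂ) * (conj (c j) * c i)),
        ← Finset.sum_add_distrib]
      refine Finset.sum_congr rfl fun i _ => ?_
      rw [← Finset.sum_add_distrib]
      exact Finset.sum_congr rfl fun j _ => by ring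
    rw [e1, map_add, RCLike.conj_mul]
    have e2 : RCLike.re ((b : ℂ) * ((‖∑ i, c i‖ : ℂ)) ^ 2) ≤ 0 := by
      have : (b : ℂ) * ((‖∑ i, c i‖ : ℂ)) ^ 2 = ((b * ‖∑ i, c i‖ ^ 2 : ℝ) : ℂ) := by push_cast; ring
      rw [this]
      exact (Complex.ofReal_re _).trans_le (mul_nonpos_of_nonpos_of_nonneg hb (sq_nonneg _))
    refine (add_le_add (RCLike.re_le_norm _) e2).trans ?_
    rw [add_zero]
    refine (norm_sum_le _ _).trans ((Finset.sum_le_sum fun i _ => norm_sum_le _ _).trans ?_)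
    have hsym : ∀ i j, ‖⟪x i, x j⟫_ℂ - (b : ℂ)‖ = ‖⟪x j, x i⟫_ℂ - (b : ℂ)‖ := fun i j => by
      rw [← Complex.norm_conj (⟪x j, x i⟫_ℂ - (b : ℂ)), map_sub, inner_conj_symm, Complex.conj_ofReal]
    have e3 : ∀ i j, ‖conj (c i) * (c j * (⟪x i, x j⟫_ℂ - (b : ℂ)))‖ ≤
        (‖c i‖ ^ 2 / 2) * ‖⟪x i, x j⟫_ℂ - (b : ℂ)‖ + (‖c j‖ ^ 2 / 2) * ‖⟪x j, x i⟫_ℂ - (b : ℂ)‖ := fun i j => by
      rw [norm_mul, norm_mul, Complex.norm_conj, ← hsym i j]
      nlinarith [mul_nonneg (sq_nonneg (‖c i‖ - ‖c j‖)) (norm_nonneg (⟪x i, x j⟫_ℂ - (b : ℂ)))]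
    refine (Finset.sum_le_sum fun i _ => Finset.sum_le_sum fun j _ => e3 i j).trans ?_
    simp only [Finset.sum_add_distrib]
    rw [Finset.sum_comm (f := fun i j => ‖c j‖ ^ 2 / 2 * ‖⟪x j, x i⟫_ℂ - (b : ℂ)‖)]
    have e4 : ∑ i, ∑ j, ‖c i‖ ^ 2 / 2 * ‖⟪x i, x j⟫_ℂ - (b : ℂ)‖ ≤ R * S / 2 := by
      rw [hS, Finset.mul_sum, Finset.sum_div]
      refine Finset.sum_le_sum fun i _ => ?_
      rw [← Finset.mul_sum]
      refine (mul_le_mul_of_nonneg_left (hR i) (by positivity)).trans_eq ?_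
      ring
    linarith
  have hS0 : 0 ≤ S := Finset.sum_nonneg fun i _ => sq_nonneg _
  have h3 : S ≤ ‖u‖ * ‖y‖ := by
    have := norm_inner_le_norm (𝕜 := ℂ) u y
    rwa [h1, Complex.norm_real, Real.norm_eq_abs, abs_of_nonneg hS0] at this
  rcases eq_or_lt_of_le hS0 with h0 | h0
  · show S ≤ _
    rw [← h0]
    positivity
  · show S ≤ _
    refine le_of_mul_le_mul_left ?_ h0
    calc S * S ≤ (‖u‖ * ‖y‖) ^ 2 := by rw [← sq]; exact pow_le_pow_left₀ hS0 h3 2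
      _ ≤ S * (R * ‖y‖ ^ 2) := by rw [mul_pow]; nlinarith [sq_nonneg ‖y‖]

/-- A regular simplex spans a space of codimension at most one in its coordinate space. -/
theorem simplex_rank (C : Submodule ℂ E) (x : ι → E) (hx : ∀ i, x i ∈ C) {κ : ℂ} (hκ : κ ≠ 1)
    (h1 : ∀ i, ⟪x i, x i⟫_ℂ = 1) (h2 : ∀ i j, i ≠ j → ⟪x i, x j⟫_ℂ = κ) :
    Fintype.card ι ≤ finrank ℂ C + 1 := by
  classical
  let L : (ι → ℂ) →ₗ[ℂ] C × ℂ := LinearMap.prod
    (LinearMap.codRestrict C (Fintype.linearCombination ℂ x) fun c => by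
      rw [Fintype.linearCombination_apply]
      exact C.sum_mem fun i _ => C.smul_mem _ (hx i))
    (Fintype.linearCombination ℂ fun _ : ι => (1 : ℂ))
  have hinj : Function.Injective L := (injective_iff_map_eq_zero L).2 fun c hc => funext fun i => by
    obtain ⟨hc1, hc2⟩ := Prod.ext_iff.1 hc
    have hs : ∑ j, c j = 0 := by simpa [L, Fintype.linearCombination_apply] using hc2
    have hv : ∑ j, c j • x j = 0 := by
      have := congrArg Subtype.val hc1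
      simpa [L, Fintype.linearCombination_apply] using this
    have := congrArg (fun v => ⟪x i, v⟫_ℂ) hv
    simp only [inner_zero_right, inner_sum, inner_smul_right] at this
    rw [← Finset.add_sum_erase _ _ (Finset.mem_univ i), h1,
      Finset.sum_congr rfl (g := fun j => c j * κ) fun j hj => by rw [h2 i j (Finset.ne_of_mem_erase hj).symm],
      ← Finset.sum_mul] at this
    rw [← Finset.add_sum_erase _ _ (Finset.mem_univ i)] at hs
    have h3 : c i * (1 - κ) = 0 := by linear_combination this - κ * hs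
    exact (mul_eq_zero.1 h3).resolve_right (sub_ne_zero.2 (Ne.symm hκ))
  have := LinearMap.finrank_le_finrank_of_injective hinj
  simpa using this

variable {A : Type*} [AddCommGroup A] [Finite A] {W : Type*} [AddCommGroup W] [Module ℂ W] [FiniteDimensional ℂ W]

theorem finrank_le_sum {φ : AddChar A (Module.End ℂ W)} {C : Submodule ℂ W} (hC : ∀ a, ∀ v ∈ C, φ a v ∈ C)
    (S : Finset (AddChar A ℂ)) (hS : ∀ χ, χ ∉ S → SUDeg.eig φ C χ = ⊥) :
    finrank ℂ C ≤ ∑ χ ∈ S, finrank ℂ (SUDeg.eig φ C χ) := by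
  classical
  let Φ : ((χ : S) → SUDeg.eig φ C χ.1) →ₗ[ℂ] W := ∑ χ : S, (SUDeg.eig φ C χ.1).subtype ∘ₗ LinearMap.proj χ
  have hle : C ≤ LinearMap.range Φ := fun v hv => by
    obtain ⟨_, hs⟩ := SUDeg.sum_proj (φ := φ) v
    refine ⟨fun χ => ⟨SUDeg.proj φ χ.1 v, SUDeg.proj_mem hC χ.1 hv⟩, ?_⟩
    simp only [Φ, LinearMap.sum_apply, LinearMap.comp_apply, LinearMap.proj_apply, Submodule.subtype_apply]
    rw [Finset.sum_coe_sort S fun χ => SUDeg.proj φ χ v]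
    conv_rhs => rw [← hs]
    refine Finset.sum_subset (Finset.subset_univ _) fun χ _ hχ => ?_
    have := SUDeg.proj_mem hC χ hv
    rwa [hS χ hχ, Submodule.mem_bot] at this
  refine (Submodule.finrank_mono hle).trans ((LinearMap.finrank_range_le Φ).trans ?_)
  rw [Module.finrank_pi_fintype, Finset.sum_coe_sort S fun χ => finrank ℂ (SUDeg.eig φ C χ)]

end Cfsg.Agent.SLDeg
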