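import Cfsg.Agent.SLDeg.Mat
import Cfsg.Agent.SLDeg.Chars
import Cfsg.Agent.SLDeg.Inner

/-!
Eigenspaces of the transvection groups with a given centre or axis.
-/

set_option autoImplicit false
set_option linter.unusedSectionVars false

namespace Cfsg.Agent.SLDeg

open Matrix Module SUDeg
open scoped InnerProductSpace

variable {n m : ℕ} {F : Type*} [Field F] [Finite F]
variable {E : Type*} [NormedAddCommGroup E] [InnerProductSpace ℂ E] [FiniteDimensional ℂ E]
variable (π : Representation ℂ (SLn n F) E)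

/-- A unitary representation. -/
def IsUni : Prop := ∀ g x y, ⟪π g x, π g y⟫_ℂ = ⟪x, y⟫_ℂ

/-- An invariant subspace. -/
def Inv (C : Submodule ℂ E) : Prop := ∀ g, ∀ v ∈ C, π g v ∈ C

theorem rho_mul (g h : SLn n F) (v : E) : π (g * h) v = π g (π h v) := by rw [map_mul]; rfl

theorem rho_inv_self (g : SLn n F) (v : E) : π g⁻¹ (π g v) = v := by
  rw [← rho_mul, inv_mul_cancel, map_one, Module.End.one_apply]

theorem rho_injective (g : SLn n F) : Function.Injective (π g) := fun v w h => by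
  rw [← rho_inv_self π g v, h, rho_inv_self]

/-- Transvections with a given centre. -/
def rowAct (a : Fin n → F) : AddChar (Perp a) (Module.End ℂ E) where
  toFun f := π (tv a f (mem_perp.1 f.2))
  map_zero_eq_one' := (congrArg π ((tv_congr _ (zero_dotProduct a) rfl rfl).trans (tv_zero_right a))).trans (map_one π)
  map_add_eq_mul' f f' := (congrArg π (tv_mul_right (mem_perp.1 f.2) (mem_perp.1 f'.2)).symm).trans (map_mul π _ _)

/-- Transvections with a given axis. -/
def colAct (f : Fin n → F) : AddChar (Perp f) (Module.End ℂ E) where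
  toFun a := π (tv a f (mem_perp'.1 a.2))
  map_zero_eq_one' := (congrArg π ((tv_congr _ (dotProduct_zero f) rfl rfl).trans (tv_zero_left f))).trans (map_one π)
  map_add_eq_mul' a a' := (congrArg π (tv_mul_left (mem_perp'.1 a.2) (mem_perp'.1 a'.2)).symm).trans (map_mul π _ _)

theorem rowAct_apply {a : Fin n → F} (f : Perp a) : rowAct π a f = π (tv a f (mem_perp.1 f.2)) := rfl

theorem colAct_apply {f : Fin n → F} (a : Perp f) : colAct π f a = π (tv a f (mem_perp'.1 a.2)) := rfl

/-- The character given by a vector. -/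
def chr (ψ : AddChar F ℂ) (a w : Fin n → F) : AddChar (Perp a) ℂ where
  toFun x := ψ ((x : Fin n → F) ⬝ᵥ w)
  map_zero_eq_one' := by rw [ZeroMemClass.coe_zero, zero_dotProduct, AddChar.map_zero_eq_one]
  map_add_eq_mul' x y := by rw [Submodule.coe_add, add_dotProduct, AddChar.map_add_eq_mul]

theorem chr_apply (ψ : AddChar F ℂ) (a w : Fin n → F) (x : Perp a) : chr ψ a w x = ψ ((x : Fin n → F) ⬝ᵥ w) := rfl

/-- Vectors fixed by the transvections with centre `a`. -/
def fixRow (C : Submodule ℂ E) (a : Fin n → F) : Submodule ℂ E := eig (rowAct π a) C 1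

/-- The eigenspaces for transvections with centre `a`. -/
def rowEig (ψ : AddChar F ℂ) (C : Submodule ℂ E) (a w : Fin n → F) : Submodule ℂ E :=
  eig (rowAct π a) C (chr ψ a w)

/-- The eigenspaces for transvections with axis `f`. -/
def colEig (ψ : AddChar F ℂ) (C : Submodule ℂ E) (f φ : Fin n → F) : Submodule ℂ E :=
  eig (colAct π f) C (chr ψ f φ)

variable {π} {ψ : AddChar F ℂ} {C : Submodule ℂ E}

theorem mem_fixRow {a : Fin n → F} {v : E} :
    v ∈ fixRow π C a ↔ v ∈ C ∧ ∀ (f : Fin n → F) (hf : f ⬝ᵥ a = 0), π (tv a f hf) v = v := by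
  rw [fixRow, mem_eig]
  refine and_congr_right fun _ => ⟨fun h f hf => ?_, fun h f => ?_⟩
  · have := h ⟨f, hf⟩
    rwa [AddChar.one_apply, one_smul] at this
  · rw [rowAct_apply, h, AddChar.one_apply, one_smul]

theorem mem_rowEig {a w : Fin n → F} {v : E} :
    v ∈ rowEig π ψ C a w ↔
      v ∈ C ∧ ∀ (f : Fin n → F) (hf : f ⬝ᵥ a = 0), π (tv a f hf) v = ψ (f ⬝ᵥ w) • v := by
  rw [rowEig, mem_eig]
  exact and_congr_right fun _ => ⟨fun h f hf => h ⟨f, hf⟩, fun h f => h f f.2⟩

theorem mem_colEig {f φ : Fin n → F} {v : E} :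
    v ∈ colEig π ψ C f φ ↔
      v ∈ C ∧ ∀ (a : Fin n → F) (ha : f ⬝ᵥ a = 0), π (tv a f ha) v = ψ (φ ⬝ᵥ a) • v := by
  rw [colEig, mem_eig]
  refine and_congr_right fun _ => ⟨fun h a ha => ?_, fun h a => ?_⟩
  · rw [dotProduct_comm φ a]
    exact h ⟨a, mem_perp'.2 ha⟩
  · rw [colAct_apply, h, chr_apply, dotProduct_comm]

theorem rowEig_move (hC : Inv π C) (g : SLn n F) {a w a' w' : Fin n → F} (ha : g • a = a') (hw : g • w = w')
    {v : E} (hv : v ∈ rowEig π ψ C a w) : π g v ∈ rowEig π ψ C a' w' := by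
  obtain ⟨hvC, hv⟩ := mem_rowEig.1 hv
  refine mem_rowEig.2 ⟨hC g v hvC, fun f hf => ?_⟩
  subst ha hw
  rw [← rho_mul, ← conj_tv, rho_mul, hv, map_smul, pull_dot]

theorem fixRow_move (hC : Inv π C) (g : SLn n F) {a a' : Fin n → F} (ha : g • a = a') {v : E}
    (hv : v ∈ fixRow π C a) : π g v ∈ fixRow π C a' := by
  obtain ⟨hvC, hv⟩ := mem_fixRow.1 hv
  refine mem_fixRow.2 ⟨hC g v hvC, fun f hf => ?_⟩
  subst ha
  rw [← rho_mul, ← conj_tv, rho_mul, hv]

theorem colEig_move (hC : Inv π C) (g : SLn n F) {f φ f' φ' : Fin n → F} (hf : pull g f' = f) (hφ : pull g φ' = φ)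
    {v : E} (hv : v ∈ colEig π ψ C f φ) : π g v ∈ colEig π ψ C f' φ' := by
  obtain ⟨hvC, hv⟩ := mem_colEig.1 hv
  refine mem_colEig.2 ⟨hC g v hvC, fun a ha => ?_⟩
  subst hf hφ
  have ha' : f' ⬝ᵥ (g • g⁻¹ • a) = 0 := by rwa [smul_inv_smul]
  rw [tv_congr ha ha' (smul_inv_smul g a).symm rfl, ← rho_mul, ← conj_tv g _ _ ha', rho_mul, hv, map_smul, pull_dot,
    smul_inv_smul]

theorem finrank_le_of_move {g : SLn n F} {U U' : Submodule ℂ E} (h : ∀ v ∈ U, π g v ∈ U') :
    finrank ℂ U ≤ finrank ℂ U' :=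
  LinearMap.finrank_le_finrank_of_injective (f := LinearMap.restrict (π g) h)
    fun v w e => Subtype.ext (rho_injective π g (congrArg Subtype.val e))

/-- Transpose. -/
def tr (g : SLn n F) : SLn n F := mkSL g.1ᵀ (by rw [Matrix.det_transpose]; exact g.2)

theorem pull_tr (g : SLn n F) (f : Fin n → F) : pull (tr g) f = g • f := Matrix.vecMul_transpose g.1 f

theorem exists_pull {f φ f' φ' : Fin (m + 3) → F} (h : LinearIndependent F ![f, φ])
    (h' : LinearIndependent F ![f', φ']) : ∃ g : SLn (m + 3) F, pull g f' = f ∧ pull g φ' = φ := by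
  obtain ⟨a, ha0, ha1⟩ := exists_move2 h
  obtain ⟨b, hb0, hb1⟩ := exists_move2 h'
  refine ⟨tr (a * b⁻¹), ?_, ?_⟩ <;> rw [pull_tr, mul_smul]
  · rw [← hb0, inv_smul_smul, ha0]
  · rw [← hb1, inv_smul_smul, ha1]

variable (π ψ C)

/-- The hypotheses passed through the induction: eigenspaces of axis groups are at most lines, and are fixed by the
transvection groups with centres in the kernels of both functionals. -/
structure Good : Prop where
  line : ∀ f φ : Fin n → F, LinearIndependent F ![f, φ] → finrank ℂ (colEig π ψ C f φ) ≤ 1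
  fixed : ∀ f φ a : Fin n → F, LinearIndependent F ![f, φ] → f ⬝ᵥ a = 0 → φ ⬝ᵥ a = 0 →
    colEig π ψ C f φ ≤ fixRow π C a

end Cfsg.Agent.SLDeg
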