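import Cfsg.Agent.SLDeg.Mult

/-!
The family of vectors obtained from a vector fixed by the stabiliser of a point and a line.
-/

set_option autoImplicit false
set_option linter.unusedSectionVars false

namespace Cfsg.Agent.SLDeg

open Matrix Module SUDeg
open scoped InnerProductSpace ComplexConjugate

variable {m : ℕ} {F : Type*} [Field F] [Finite F]
variable {E : Type*} [NormedAddCommGroup E] [InnerProductSpace ℂ E] [FiniteDimensional ℂ E]
variable (π : Representation ℂ (SLn (m + 3) F) E) (ψ : AddChar F ℂ) (C : Submodule ℂ E)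

/-- The standing hypotheses: no nonzero vector of `C` is fixed by the stabiliser of a nonzero vector. -/
structure Ctx : Prop where
  uni : IsUni π
  inv : Inv π C
  psi : ψ ≠ 1
  good : Good π ψ C
  noStab : ∀ v ∈ C, (∀ g : SLn (m + 3) F, g • (e 0 : Fin (m + 3) → F) = e 0 → π g v = v) → v = 0

/-- A unit eigenvector of the stabiliser of the standard point and line. -/
structure IsFlag (v : E) (η μ : F → ℂ) : Prop where
  mem : v ∈ C
  norm_eq : ‖v‖ = 1
  eta_one : η 1 = 1
  act : ∀ (g : SLn (m + 3) F) (x y t : F), g • (e 0 : Fin (m + 3) → F) = x • e 0 →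
    g • (e 1 : Fin (m + 3) → F) = y • e 1 + t • e 0 → π g v = (η x * μ y) • v

/-- Diagonal elements. -/
def hel (x y : Fˣ) : SLn (m + 3) F :=
  mkSL (Matrix.diagonal (Fin.cons (x : F) (Fin.cons (y : F) (Fin.cons (((x * y)⁻¹ : Fˣ) : F) 1)))) (by
    rw [Matrix.det_diagonal, Fin.prod_univ_succ, Fin.prod_univ_succ, Fin.prod_univ_succ]
    simp only [Fin.cons_zero, Fin.cons_succ, Pi.one_apply, Finset.prod_const_one, mul_one]
    rw [Units.val_inv_eq_inv_val, Units.val_mul]
    field_simp [x.ne_zero, y.ne_zero])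

theorem hel_apply (x y : Fˣ) (v : Fin (m + 3) → F) (i : Fin (m + 3)) :
    ((hel x y : SLn (m + 3) F) • v) i = (Fin.cons (x : F) (Fin.cons (y : F) (Fin.cons (((x * y)⁻¹ : Fˣ) : F) 1)) : Fin (m + 3) → F) i * v i :=
  Matrix.mulVec_diagonal _ v i

theorem hel_single (x y : Fˣ) (i : Fin (m + 3)) : (hel x y : SLn (m + 3) F) • (e i : Fin (m + 3) → F) =
    (Fin.cons (x : F) (Fin.cons (y : F) (Fin.cons (((x * y)⁻¹ : Fˣ) : F) 1)) : Fin (m + 3) → F) i • e i := by
  funext j
  rw [hel_apply]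
  by_cases h : j = i
  · subst h; simp
  · simp [h]

theorem hel_e0 (x y : Fˣ) : (hel x y : SLn (m + 3) F) • (e 0 : Fin (m + 3) → F) = (x : F) • e 0 := by rw [hel_single]; rfl

theorem hel_e1 (x y : Fˣ) : (hel x y : SLn (m + 3) F) • (e 1 : Fin (m + 3) → F) = (y : F) • e 1 := by
  rw [hel_single, show (1 : Fin (m + 3)) = Fin.succ 0 from rfl]; rfl

theorem hel_e2 (x y : Fˣ) : (hel x y : SLn (m + 3) F) • (e 2 : Fin (m + 3) → F) = (((x * y)⁻¹ : Fˣ) : F) • e 2 := by
  rw [hel_single, show (2 : Fin (m + 3)) = Fin.succ (Fin.succ 0) from Fin.ext (by rw [two_val]; rfl)]; rfl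

variable {π ψ C} {v : E} {η μ : F → ℂ}

theorem flag_one (hv : IsFlag π C v η μ) : η 1 * μ 1 = 1 := by
  have h := hv.act 1 1 1 0 (by simp) (by simp)
  rw [map_one, Module.End.one_apply] at h
  have hv0 : v ≠ 0 := fun h0 => by simpa [h0] using hv.norm_eq
  exact (smul_left_injective ℂ hv0 (h.symm.trans (one_smul ℂ v).symm))

variable (π C v)

/-- The translates of a flag vector. -/
noncomputable def fam (a y : Fin (m + 3) → F) : E :=
  @dite _ (LinearIndependent F ![a, y]) (_root_.Classical.propDecidable _)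
    (fun h => π (exists_move2 h).choose v) fun _ => 0

/-- Matrix entries. -/
noncomputable def kq (a y : Fin (m + 3) → F) : ℂ := ⟪fam π v a y, v⟫_ℂ

variable {π C v}

theorem li_e01 : LinearIndependent F ![(e 0 : Fin (m + 3) → F), e 1] :=
  li_pair (fun h => by simpa using congrFun h 0) fun h => by
    obtain ⟨r, hr⟩ := Submodule.mem_span_singleton.1 h
    simpa using congrFun hr (Fin.succ 0)

theorem li_move (g : SLn (m + 3) F) {a y : Fin (m + 3) → F} (h : LinearIndependent F ![a, y]) :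
    LinearIndependent F ![g • a, g • y] := by
  rw [LinearIndependent.pair_iff] at h ⊢
  intro s t hst
  refine h s t (sl_injective g ?_)
  simpa [sl_smul_add, sl_smul_smul, sl_smul_zero] using hst

theorem fam_eq (hv : IsFlag π C v η μ) {g : SLn (m + 3) F} {a y : Fin (m + 3) → F} {t : F}
    (h0 : g • (e 0 : Fin (m + 3) → F) = a) (h1 : g • (e 1 : Fin (m + 3) → F) = y + t • a) :
    fam π v a y = π g v := by
  have hli : LinearIndependent F ![a, y] := by
    have h := li_move g (li_e01 (m := m) (F := F))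
    rw [h0, h1] at h
    rw [LinearIndependent.pair_iff] at h ⊢
    intro s r hsr
    obtain ⟨h2, h3⟩ := h (s - r * t) r (by rw [← hsr]; module)
    exact ⟨by rw [h3, zero_mul, sub_zero] at h2; exact h2, h3⟩
  rw [fam, dif_pos hli]
  obtain ⟨hg0, hg1⟩ := (exists_move2 hli).choose_spec
  set g' := (exists_move2 hli).choose
  have e0 : (g⁻¹ * g') • (e 0 : Fin (m + 3) → F) = (1 : F) • e 0 := by
    rw [mul_smul, hg0, ← h0, inv_smul_smul, one_smul]
  have e1 : (g⁻¹ * g') • (e 1 : Fin (m + 3) → F) = (1 : F) • e 1 + (-t) • e 0 := by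
    rw [mul_smul, hg1, show y = g • ((1 : F) • e 1 + (-t) • e 0) by
      rw [sl_smul_add, sl_smul_smul, sl_smul_smul, h0, h1]; module, inv_smul_smul]
  conv_lhs => rw [show g' = g * (g⁻¹ * g') by rw [mul_inv_cancel_left]]
  rw [rho_mul, hv.act _ 1 1 (-t) e0 e1, flag_one hv, one_smul]

theorem fam_exists (hv : IsFlag π C v η μ) {a y : Fin (m + 3) → F} (h : LinearIndependent F ![a, y]) :
    ∃ g : SLn (m + 3) F, g • (e 0 : Fin (m + 3) → F) = a ∧ g • (e 1 : Fin (m + 3) → F) = y ∧ fam π v a y = π g v := by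
  obtain ⟨g, h0, h1⟩ := exists_move2 h
  exact ⟨g, h0, h1, fam_eq hv (t := 0) h0 (by rw [h1, zero_smul, add_zero])⟩

theorem fam_move (hv : IsFlag π C v η μ) (g : SLn (m + 3) F) {a y : Fin (m + 3) → F}
    (h : LinearIndependent F ![a, y]) : π g (fam π v a y) = fam π v (g • a) (g • y) := by
  obtain ⟨g', h0, h1, he⟩ := fam_exists hv h
  rw [he, ← rho_mul, fam_eq hv (g := g * g') (t := 0) (by rw [mul_smul, h0]) (by rw [mul_smul, h1]; simp)]

theorem fam_shift (hv : IsFlag π C v η μ) (t : F) {a y : Fin (m + 3) → F} (h : LinearIndependent F ![a, y]) :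
    fam π v a (y + t • a) = fam π v a y := by
  obtain ⟨g, h0, h1, he⟩ := fam_exists hv h
  rw [he, fam_eq hv (g := g) (t := -t) h0 (by rw [h1]; module)]

theorem fam_scale (hv : IsFlag π C v η μ) {x s : F} (hx : x ≠ 0) (hs : s ≠ 0) {a y : Fin (m + 3) → F}
    (h : LinearIndependent F ![a, y]) : fam π v (x • a) (s • y) = (η x * μ s) • fam π v a y := by
  obtain ⟨g, h0, h1, he⟩ := fam_exists hv h
  rw [fam_eq hv (g := g * hel (Units.mk0 x hx) (Units.mk0 s hs)) (t := 0)
    (by rw [mul_smul, hel_e0, sl_smul_smul, h0]; rfl) (by rw [mul_smul, hel_e1, sl_smul_smul, h1]; simp),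
    rho_mul, hv.act _ x s 0 (hel_e0 _ _) (by rw [hel_e1]; simp), map_smul, he]

theorem fam_base (hv : IsFlag π C v η μ) : fam π v (e 0) (e 1) = v := by
  rw [fam_eq hv (g := 1) (t := 0) (by simp) (by simp), map_one, Module.End.one_apply]

theorem fam_mem (hC : Inv π C) (hv : IsFlag π C v η μ) (a y : Fin (m + 3) → F) : fam π v a y ∈ C := by
  rw [fam]
  split
  · exact hC _ v hv.mem
  · exact C.zero_mem

theorem norm_rho (hU : IsUni π) (g : SLn (m + 3) F) (x : E) : ‖π g x‖ = ‖x‖ := by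
  rw [← sq_eq_sq₀ (norm_nonneg _) (norm_nonneg _), norm_sq_eq_re_inner (𝕜 := ℂ), norm_sq_eq_re_inner (𝕜 := ℂ), hU]

theorem fam_norm (hU : IsUni π) (hv : IsFlag π C v η μ) {a y : Fin (m + 3) → F}
    (h : LinearIndependent F ![a, y]) : ‖fam π v a y‖ = 1 := by
  obtain ⟨g, -, -, he⟩ := fam_exists hv h
  rw [he, norm_rho hU, hv.norm_eq]

theorem flag_ne_zero (hv : IsFlag π C v η μ) : v ≠ 0 := fun h0 => by simpa [h0] using hv.norm_eq

theorem flag_norm (hU : IsUni π) (hv : IsFlag π C v η μ) {x y : F} (hx : x ≠ 0) (hy : y ≠ 0) :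
    ‖η x * μ y‖ = 1 := by
  have h := hv.act (hel (Units.mk0 x hx) (Units.mk0 y hy)) x y 0 (hel_e0 _ _) (by rw [hel_e1]; simp)
  have h2 := congrArg norm h
  rwa [norm_rho hU, norm_smul, hv.norm_eq, mul_one, eq_comm] at h2

theorem flag_mul (hv : IsFlag π C v η μ) {x y x' y' : F} (hx : x ≠ 0) (hy : y ≠ 0) (hx' : x' ≠ 0) (hy' : y' ≠ 0) :
    η (x * x') * μ (y * y') = (η x * μ y) * (η x' * μ y') := by
  have h := hv.act (hel (Units.mk0 x hx) (Units.mk0 y hy)) x y 0 (hel_e0 _ _) (by rw [hel_e1]; simp)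
  have h' := hv.act (hel (Units.mk0 x' hx') (Units.mk0 y' hy')) x' y' 0 (hel_e0 _ _) (by rw [hel_e1]; simp)
  have h2 := hv.act (hel (Units.mk0 x hx) (Units.mk0 y hy) * hel (Units.mk0 x' hx') (Units.mk0 y' hy'))
    (x * x') (y * y') 0 (by rw [mul_smul, hel_e0, sl_smul_smul, hel_e0, smul_smul, mul_comm]; rfl)
    (by rw [mul_smul, hel_e1, sl_smul_smul, hel_e1, smul_smul, mul_comm]; simp)
  rw [rho_mul, h', map_smul, h, smul_smul] at h2
  rw [← smul_left_injective ℂ (flag_ne_zero hv) h2]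
  ring

/-- Entries transform by the character under the stabiliser of the standard point and line. -/
theorem kq_move (hU : IsUni π) (hv : IsFlag π C v η μ) {g : SLn (m + 3) F} {x s t : F}
    (h0 : g • (e 0 : Fin (m + 3) → F) = x • e 0) (h1 : g • (e 1 : Fin (m + 3) → F) = s • e 1 + t • e 0)
    {a y : Fin (m + 3) → F} (h : LinearIndependent F ![a, y]) :
    kq π v a y = (η x * μ s) * kq π v (g • a) (g • y) := by
  rw [kq, kq, ← hU g, hv.act g x s t h0 h1, fam_move hv g h, inner_smul_right]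

theorem kq_scale (hv : IsFlag π C v η μ) {x s : F} (hx : x ≠ 0) (hs : s ≠ 0) {a y : Fin (m + 3) → F}
    (h : LinearIndependent F ![a, y]) : kq π v (x • a) (s • y) = conj (η x * μ s) * kq π v a y := by
  rw [kq, kq, fam_scale hv hx hs h, inner_smul_left]

theorem kq_shift (hv : IsFlag π C v η μ) (t : F) {a y : Fin (m + 3) → F} (h : LinearIndependent F ![a, y]) :
    kq π v a (y + t • a) = kq π v a y := by
  rw [kq, kq, fam_shift hv t h]

theorem kq_base (hv : IsFlag π C v η μ) : kq π v (e 0) (e 1) = 1 := by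
  rw [kq, fam_base hv, inner_self_eq_norm_sq_to_K, hv.norm_eq]
  simp

end Cfsg.Agent.SLDeg
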