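import Cfsg.Agent.SLDeg.Values

/-!
The frame inequality for the family.
-/

set_option autoImplicit false
set_option linter.unusedSectionVars false

namespace Cfsg.Agent.SLDeg

open Matrix Module SUDeg
open scoped InnerProductSpace ComplexConjugate

variable {m : ℕ} {F : Type*} [Field F]
variable {E : Type*} [NormedAddCommGroup E] [InnerProductSpace ℂ E] [FiniteDimensional ℂ E]
variable {π : Representation ℂ (SLn (m + 3) F) E} {ψ : AddChar F ℂ} {C : Submodule ℂ E} {v : E} {η μ : F → ℂ}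

theorem card_span_one [Fintype F] [DecidableEq F] {a : Fin (m + 3) → F} (ha : a ≠ 0)
    [DecidablePred (· ∈ Submodule.span F {a})] :
    (Finset.univ.filter fun y : Fin (m + 3) → F => y ∈ Submodule.span F {a}).card = Fintype.card F := by
  rw [show (Finset.univ.filter fun y : Fin (m + 3) → F => y ∈ Submodule.span F {a})
      = Finset.univ.image fun c : F => c • a by
    ext y; simp [Submodule.mem_span_singleton], Finset.card_image_of_injective _ (smul_left_injective F ha),
    Finset.card_univ]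

theorem card_span_two [Fintype F] [DecidableEq F] {a y : Fin (m + 3) → F} (h : LinearIndependent F ![a, y])
    [DecidablePred (· ∈ Submodule.span F {a, y})] :
    (Finset.univ.filter fun z : Fin (m + 3) → F => z ∈ Submodule.span F {a, y}).card = Fintype.card F ^ 2 := by
  rw [show (Finset.univ.filter fun z : Fin (m + 3) → F => z ∈ Submodule.span F {a, y})
      = Finset.univ.image fun c : F × F => c.1 • a + c.2 • y by
    ext z; simp [Submodule.mem_span_pair], Finset.card_image_of_injective _ ?_, Finset.card_univ, Fintype.card_prod, sq]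
  intro c c' hcc
  simp only at hcc
  obtain ⟨h1, h2⟩ := LinearIndependent.pair_iff.1 h (c.1 - c'.1) (c.2 - c'.2) (by
    rw [sub_smul, sub_smul, ← sub_eq_zero.2 hcc]; module)
  exact Prod.ext (sub_eq_zero.1 h1) (sub_eq_zero.1 h2)

variable [Fintype F]

/-- The values of a function at zero and elsewhere. -/
theorem sum_one_rest (h : F → ℂ) (c : ℂ) (h0 : h 0 = 1) (h1 : ∀ s, s ≠ 0 → h s = c) :
    ∑ s, h s = 1 + ((Fintype.card F : ℂ) - 1) * c := by
  classical
  rw [← Finset.add_sum_erase _ _ (Finset.mem_univ (0 : F)), h0,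
    Finset.sum_congr rfl (g := fun _ => c) fun s hs => h1 s (Finset.ne_of_mem_erase hs), Finset.sum_const,
    nsmul_eq_mul, Finset.card_erase_of_mem (Finset.mem_univ _), Finset.card_univ, Nat.cast_sub Fintype.card_pos]
  simp

theorem exists_perp_dual {a b c : Fin (m + 3) → F} (hb : b ∉ Submodule.span F {a, c}) :
    ∃ φ : Fin (m + 3) → F, φ ⬝ᵥ b = 1 ∧ φ ⬝ᵥ a = 0 ∧ φ ⬝ᵥ c = 0 := by
  classical
  obtain ⟨φ, h1, h2⟩ := Classical.exists_dual_one _ hb
  exact ⟨φ, h1, h2 a (Submodule.subset_span (Set.mem_insert _ _)),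
    h2 c (Submodule.subset_span (Set.mem_insert_of_mem _ rfl))⟩

/-- The two coordinates of a functional. -/
def coordHom (a : Fin (m + 3) → F) : Perp a →+ F × F where
  toFun f := ((f : Fin (m + 3) → F) ⬝ᵥ e 0, (f : Fin (m + 3) → F) ⬝ᵥ e 1)
  map_zero' := by simp
  map_add' f g := by simp [add_dotProduct]

theorem coordHom_surj {a : Fin (m + 3) → F} (ha : a ∉ plane) : Function.Surjective (coordHom a) := by
  intro p
  obtain ⟨φ, h1, h2, h3⟩ := exists_perp_dual (a := a) (b := (e 0 : Fin (m + 3) → F)) (c := e 1) fun hm => by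
    obtain ⟨r, s, hrs⟩ := Submodule.mem_span_pair.1 hm
    rcases eq_or_ne r 0 with h0 | h0
    · subst h0
      simpa [ne01, ne01.symm] using congrFun hrs 0
    · refine ha ?_
      rw [show a = r⁻¹ • ((e 0 : Fin (m + 3) → F) - s • e 1) by rw [← hrs]; simp [inv_smul_smul₀ h0]]
      exact Submodule.smul_mem _ _ (Submodule.sub_mem _ (Submodule.subset_span (Set.mem_insert _ _))
        (Submodule.smul_mem _ _ (Submodule.subset_span (Set.mem_insert_of_mem _ rfl))))
  obtain ⟨χ, k1, k2, k3⟩ := exists_perp_dual (a := a) (b := (e 1 : Fin (m + 3) → F)) (c := e 0) fun hm => by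
    obtain ⟨r, s, hrs⟩ := Submodule.mem_span_pair.1 hm
    rcases eq_or_ne r 0 with h0 | h0
    · subst h0
      simpa [ne01, ne01.symm] using congrFun hrs 1
    · refine ha ?_
      rw [show a = r⁻¹ • ((e 1 : Fin (m + 3) → F) - s • e 0) by rw [← hrs]; simp [inv_smul_smul₀ h0]]
      exact Submodule.smul_mem _ _ (Submodule.sub_mem _ (Submodule.subset_span (Set.mem_insert_of_mem _ rfl))
        (Submodule.smul_mem _ _ (Submodule.subset_span (Set.mem_insert _ _))))
  refine ⟨⟨p.1 • φ + p.2 • χ, by rw [mem_perp, add_dotProduct, smul_dotProduct, smul_dotProduct, h2, k2]; simp⟩, ?_⟩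
  show (_, _) = p
  simp only [add_dotProduct, smul_dotProduct, h1, k1, h3, k3, smul_eq_mul, mul_zero, mul_one, add_zero, zero_add]

/-- The first coordinate of a functional. -/
def coordHom₀ (a : Fin (m + 3) → F) : Perp a →+ F where
  toFun f := (f : Fin (m + 3) → F) ⬝ᵥ e 0
  map_zero' := by simp
  map_add' f g := by simp [add_dotProduct]

theorem coordHom₀_surj {a : Fin (m + 3) → F} (ha : a ≠ 0) (ha0 : a ∉ Submodule.span F {(e 0 : Fin (m + 3) → F)}) :
    Function.Surjective (coordHom₀ a) := by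
  intro p
  obtain ⟨φ, h1, h2, -⟩ := exists_perp_dual (a := a) (b := (e 0 : Fin (m + 3) → F)) (c := a) fun hm => by
    rw [Set.pair_eq_singleton] at hm
    obtain ⟨r, hr⟩ := Submodule.mem_span_singleton.1 hm
    have hr0 : r ≠ 0 := fun h0 => by
      subst h0
      simpa using congrFun hr 0
    exact ha0 (Submodule.mem_span_singleton.2 ⟨r⁻¹, by rw [← hr, inv_smul_smul₀ hr0]⟩)
  refine ⟨⟨p • φ, by rw [mem_perp, smul_dotProduct, h2]; simp⟩, ?_⟩
  show (p • φ) ⬝ᵥ e 0 = p
  rw [smul_dotProduct, h1, smul_eq_mul, mul_one]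

theorem plane_pair {a : Fin (m + 3) → F} (ha : a ∈ plane) (s t : F) :
    (e 0 : Fin (m + 3) → F) + s • a ∈ plane ∧ (e 1 : Fin (m + 3) → F) + t • a ∈ plane :=
  ⟨Submodule.add_mem _ (Submodule.subset_span (Set.mem_insert _ _)) (Submodule.smul_mem _ _ ha),
    Submodule.add_mem _ (Submodule.subset_span (Set.mem_insert_of_mem _ rfl)) (Submodule.smul_mem _ _ ha)⟩

/-- The inequality obtained from the frame of all translates. -/
theorem frame (h : Ctx π ψ C) (hv : IsFlag π C v η μ) (b c d : ℝ) (hb : b ≤ 0)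
    (hG : ∀ y : Fin (m + 3) → F, y ∉ plane → kq π v (e 0) y = (b : ℂ))
    (hc : ∀ a y : Fin (m + 3) → F, a ∈ plane → y ∈ plane → a ∉ Submodule.span F {(e 0 : Fin (m + 3) → F)} →
      LinearIndependent F ![a, y] → kq π v a y = (c : ℂ))
    (hd : ∀ x : Fin (m + 3) → F, x ∉ plane → ∀ s t : F, s ≠ 0 →
      kq π v (e 0 + s • x) (e 1 + t • x) = (d : ℂ)) :
    ((Fintype.card F : ℝ) ^ (m + 3) - 1) * ((Fintype.card F : ℝ) ^ (m + 3) - Fintype.card F) ≤
      finrank ℂ C * (((Fintype.card F : ℝ) ^ 2 - Fintype.card F) * (1 - b)) *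
        (((Fintype.card F : ℝ) - 1) * (2 + ((Fintype.card F : ℝ) - 1) * c) +
          ((Fintype.card F : ℝ) ^ (m + 1) - 1) *
            (1 + ((Fintype.card F : ℝ) - 1) * b + ((Fintype.card F : ℝ) ^ 2 - Fintype.card F) * d)) := by
  classical
  set q : ℕ := Fintype.card F with hq
  have hq1 : 1 < q := Fintype.one_lt_card
  set R : ℝ := ((q : ℝ) ^ 2 - q) * (1 - b) with hR
  have hR0 : 0 ≤ R := by
    have : (1 : ℝ) ≤ q := by exact_mod_cast hq1.le
    refine mul_nonneg ?_ (by linarith)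
    nlinarith
  set Ω : ℂ := ∑ a ∈ Finset.univ.erase (0 : Fin (m + 3) → F), ∑ f : Perp a, ⟪π (tv a f (mem_perp.1 f.2)) v, v⟫_ℂ with hΩ
  -- Bessel inequality in each fixed space
  have step : ∀ a : Fin (m + 3) → F, a ≠ 0 →
      (Fintype.card (Perp a) : ℝ) * ∑ y, ‖kq π v a y‖ ^ 2 ≤
        R * RCLike.re (∑ f : Perp a, ⟪π (tv a f (mem_perp.1 f.2)) v, v⟫_ℂ) := by
    intro a ha
    obtain ⟨hP, hPx⟩ := avg_facts h.uni h.inv hv (a := a)
    set P := ∑ f : Perp a, π (tv a f (mem_perp.1 f.2)) v with hPdef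
    let ι := {y : Fin (m + 3) → F // LinearIndependent F ![a, y]}
    have hrow : ∀ y : ι, ∑ y' : ι, ‖⟪fam π v a y.1, fam π v a y'.1⟫_ℂ - (b : ℂ)‖ ≤ R := by
      intro y
      have hoff : ∀ y' : ι, y'.1 ∉ Submodule.span F {a, y.1} →
          ⟪fam π v a y.1, fam π v a y'.1⟫_ℂ = (b : ℂ) := by
        intro y' hy'
        obtain ⟨g, g0, g1, he⟩ := fam_exists hv y.2
        set z := g⁻¹ • y'.1 with hz
        have hz0 : LinearIndependent F ![(e 0 : Fin (m + 3) → F), z] := by
          have := li_move g⁻¹ y'.2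
          rwa [show g⁻¹ • a = e 0 by rw [← g0, inv_smul_smul]] at this
        have hzp : z ∉ plane := fun hm => by
          refine hy' ?_
          obtain ⟨p, r, hpr⟩ := Submodule.mem_span_pair.1 hm
          refine Submodule.mem_span_pair.2 ⟨p, r, ?_⟩
          have h2 := congrArg (g • ·) hpr
          simp only [sl_smul_add, sl_smul_smul, g0, g1] at h2
          rw [hz, smul_inv_smul] at h2
          exact h2
        have hgz : fam π v a y'.1 = π g (fam π v (e 0) z) := by
          rw [fam_move hv g hz0, g0, hz, smul_inv_smul]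
        rw [he, hgz, h.uni, ← inner_conj_symm]
        show conj (kq π v (e 0) z) = _
        rw [hG z hzp, Complex.conj_ofReal]
      have h1 : ∀ y' : ι, ‖⟪fam π v a y.1, fam π v a y'.1⟫_ℂ - (b : ℂ)‖ ≤
          if y'.1 ∈ Submodule.span F {a, y.1} then 1 - b else 0 := by
        intro y'
        split
        · refine (norm_sub_le _ _).trans ?_
          rw [Complex.norm_real, Real.norm_eq_abs, abs_of_nonpos hb]
          have := norm_inner_le_norm (𝕜 := ℂ) (fam π v a y.1) (fam π v a y'.1)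
          rw [fam_norm h.uni hv y.2, fam_norm h.uni hv y'.2, one_mul] at this
          linarith
        · rename_i hy'
          rw [hoff y' hy', sub_self, norm_zero]
      refine (Finset.sum_le_sum fun y' _ => h1 y').trans ?_
      rw [Finset.sum_ite, Finset.sum_const_zero, add_zero, Finset.sum_const, nsmul_eq_mul, hR]
      refine mul_le_mul_of_nonneg_right ?_ (by linarith)
      have hsub : ((Finset.univ.filter fun y' : ι => y'.1 ∈ Submodule.span F {a, y.1}).map
          (Function.Embedding.subtype _)) ⊆ (Finset.univ.filter fun z : Fin (m + 3) → F => z ∈ Submodule.span F {a, y.1}) \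
            (Finset.univ.filter fun z : Fin (m + 3) → F => z ∈ Submodule.span F {a}) := by
        intro z hz
        simp only [Finset.mem_map, Finset.mem_filter, Finset.mem_univ, true_and, Function.Embedding.coe_subtype] at hz
        obtain ⟨y', hy', rfl⟩ := hz
        simp only [Finset.mem_sdiff, Finset.mem_filter, Finset.mem_univ, true_and]
        exact ⟨hy', (li_pair_iff.1 y'.2).2⟩
      have hcard := Finset.card_le_card hsub
      rw [Finset.card_map, Finset.card_sdiff_of_subset (by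
          intro z hz
          simp only [Finset.mem_filter, Finset.mem_univ, true_and] at hz ⊢
          exact Submodule.span_mono (by simp) hz), card_span_two y.2, card_span_one ha] at hcard
      have hle : q ≤ q ^ 2 := by nlinarith
      calc ((Finset.univ.filter fun y' : ι => y'.1 ∈ Submodule.span F {a, y.1}).card : ℝ)
          ≤ ((q ^ 2 - q : ℕ) : ℝ) := by exact_mod_cast hcard
        _ = (q : ℝ) ^ 2 - q := by rw [Nat.cast_sub hle, Nat.cast_pow]
    have hbes := gram_bessel (fun y : ι => fam π v a y.1) b R hb hR0 hrow P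
    have hfix : ∀ y : ι, ⟪fam π v a y.1, P⟫_ℂ = (Fintype.card (Perp a) : ℂ) * kq π v a y.1 := fun y =>
      hPx _ (fam_fixRow h hv y.2)
    have hnorm : ‖P‖ ^ 2 = (Fintype.card (Perp a) : ℝ) *
        RCLike.re (∑ f : Perp a, ⟪π (tv a f (mem_perp.1 f.2)) v, v⟫_ℂ) := by
      rw [norm_sq_eq_re_inner (𝕜 := ℂ), hPx P hP, ← sum_inner]
      rw [← hPdef, RCLike.re_to_complex, RCLike.re_to_complex, Complex.mul_re, Complex.natCast_re, Complex.natCast_im]
      simp
    have hsum : ∑ y : ι, ‖⟪fam π v a y.1, P⟫_ℂ‖ ^ 2 =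
        (Fintype.card (Perp a) : ℝ) ^ 2 * ∑ y, ‖kq π v a y‖ ^ 2 := by
      simp only [hfix, norm_mul, Complex.norm_natCast, mul_pow, ← Finset.mul_sum]
      congr 1
      rw [← Finset.sum_subtype (Finset.univ.filter fun y : Fin (m + 3) → F => LinearIndependent F ![a, y])
        (p := fun y => LinearIndependent F ![a, y]) (by simp) fun y => ‖kq π v a y‖ ^ 2, Finset.sum_filter]
      refine Finset.sum_congr rfl fun y _ => ?_
      split
      · rfl
      · rename_i hy
        rw [kq_not_li hy]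
        simp
    rw [hsum, hnorm] at hbes
    have hpos : (0 : ℝ) < Fintype.card (Perp a) := by exact_mod_cast Fintype.card_pos
    refine le_of_mul_le_mul_left ?_ hpos
    linarith
  have hperp : ∀ a : Fin (m + 3) → F, a ≠ 0 → Fintype.card (Perp a) = q ^ (m + 2) := fun a ha => by
    rw [← Nat.card_eq_fintype_card, card_perp ha, Nat.card_eq_fintype_card]
    rfl
  -- the value of Ω
  have hval : Ω = ((q : ℂ) ^ (m + 2)) * (((q : ℂ) - 1) * (2 + ((q : ℂ) - 1) * c) +
      ((q : ℂ) ^ (m + 1) - 1) * (1 + ((q : ℂ) - 1) * b + ((q : ℂ) ^ 2 - q) * d)) := by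
    have hterm : ∀ (a : Fin (m + 3) → F) (f : Perp a), ⟪π (tv a f (mem_perp.1 f.2)) v, v⟫_ℂ =
        kq π v (e 0 + ((f : Fin (m + 3) → F) ⬝ᵥ e 0) • a) (e 1 + ((f : Fin (m + 3) → F) ⬝ᵥ e 1) • a) := fun a f => by
      rw [tv_fam hv]; rfl
    have hA : ∀ a : Fin (m + 3) → F, a ≠ 0 → a ∈ Submodule.span F {(e 0 : Fin (m + 3) → F)} →
        ∑ f : Perp a, ⟪π (tv a f (mem_perp.1 f.2)) v, v⟫_ℂ = (q : ℂ) ^ (m + 2) := by
      intro a ha hm
      obtain ⟨r, rfl⟩ := Submodule.mem_span_singleton.1 hm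
      have hr : r ≠ 0 := fun h0 => ha (by rw [h0, zero_smul])
      rw [Finset.sum_eq_card_nsmul (b := 1), Finset.card_univ, hperp _ ha, nsmul_eq_mul, mul_one, Nat.cast_pow]
      intro f _
      rw [hterm]
      have h0 := mem_perp.1 f.2
      rw [dotProduct_smul, smul_eq_mul, mul_eq_zero] at h0
      rw [h0.resolve_left hr, zero_smul, add_zero, smul_smul, kq_shift hv _ (li_ee ne01), kq_base hv]
    have hB : ∀ a : Fin (m + 3) → F, a ∈ plane → a ∉ Submodule.span F {(e 0 : Fin (m + 3) → F)} →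
        (q : ℂ) * ∑ f : Perp a, ⟪π (tv a f (mem_perp.1 f.2)) v, v⟫_ℂ =
          (q : ℂ) ^ (m + 2) * (1 + ((q : ℂ) - 1) * c) := by
      intro a hap ha0
      have ha : a ≠ 0 := fun h0 => ha0 (by rw [h0]; exact Submodule.zero_mem _)
      let k : F → ℂ := fun s => if s = 0 then 1 else (c : ℂ)
      have hk : ∀ f : Perp a, ⟪π (tv a f (mem_perp.1 f.2)) v, v⟫_ℂ = k (coordHom₀ a f) := by
        intro f
        rw [hterm]
        show _ = k ((f : Fin (m + 3) → F) ⬝ᵥ e 0)
        obtain ⟨α, β, hαβ⟩ := Submodule.mem_span_pair.1 hap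
        have hβ : β ≠ 0 := fun h0 => ha0 (Submodule.mem_span_singleton.2 ⟨α, by rw [← hαβ, h0]; simp⟩)
        by_cases h0 : (f : Fin (m + 3) → F) ⬝ᵥ e 0 = 0
        · have h1 : (f : Fin (m + 3) → F) ⬝ᵥ e 1 = 0 := by
            have this := congrArg (fun z => (f : Fin (m + 3) → F) ⬝ᵥ z) hαβ
            simp only [dotProduct_add, dotProduct_smul, h0, smul_eq_mul, mul_zero, zero_add] at this
            rw [mem_perp.1 f.2] at this
            exact (mul_eq_zero.1 this).resolve_left hβ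
          rw [h0, h1]
          simp [k, kq_base hv]
        · simp only [k, if_neg h0]
          obtain ⟨hp1, hp2⟩ := plane_pair hap ((f : Fin (m + 3) → F) ⬝ᵥ e 0) ((f : Fin (m + 3) → F) ⬝ᵥ e 1)
          have hli := li_move (tv a f (mem_perp.1 f.2)) (li_ee (F := F) (ne01 (m := m)))
          rw [tv_apply, tv_apply] at hli
          refine hc _ _ hp1 hp2 (fun hm => ha0 ?_) hli
          have h2 := Submodule.smul_mem _ ((f : Fin (m + 3) → F) ⬝ᵥ e 0)⁻¹
            (Submodule.sub_mem _ hm (Submodule.mem_span_singleton_self (e 0 : Fin (m + 3) → F)))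
          rwa [add_sub_cancel_left, inv_smul_smul₀ h0] at h2
      have := sum_comp_surj (coordHom₀ a) (coordHom₀_surj ha ha0) k
      rw [nsmul_eq_mul, nsmul_eq_mul, hperp a ha] at this
      simp only [hk]
      rw [this, sum_one_rest k c (if_pos rfl) fun s hs => if_neg hs, Nat.cast_pow]
    have hD : ∀ a : Fin (m + 3) → F, a ∉ plane →
        (q : ℂ) ^ 2 * ∑ f : Perp a, ⟪π (tv a f (mem_perp.1 f.2)) v, v⟫_ℂ =
          (q : ℂ) ^ (m + 2) * (1 + ((q : ℂ) - 1) * b + ((q : ℂ) ^ 2 - q) * d) := by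
      intro a hap
      have ha : a ≠ 0 := fun h0 => hap (by rw [h0]; exact Submodule.zero_mem _)
      let k : F × F → ℂ := fun p => if p.1 = 0 then (if p.2 = 0 then 1 else (b : ℂ)) else (d : ℂ)
      have hk : ∀ f : Perp a, ⟪π (tv a f (mem_perp.1 f.2)) v, v⟫_ℂ = k (coordHom a f) := by
        intro f
        rw [hterm]
        show _ = k ((f : Fin (m + 3) → F) ⬝ᵥ e 0, (f : Fin (m + 3) → F) ⬝ᵥ e 1)
        by_cases h0 : (f : Fin (m + 3) → F) ⬝ᵥ e 0 = 0
        · by_cases h1 : (f : Fin (m + 3) → F) ⬝ᵥ e 1 = 0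
          · rw [h0, h1]
            simp [k, kq_base hv]
          · simp only [k, h0, h1, if_true, if_false, zero_smul, add_zero]
            refine hG _ fun hm => hap ?_
            have h2 := Submodule.smul_mem _ ((f : Fin (m + 3) → F) ⬝ᵥ e 1)⁻¹
              (Submodule.sub_mem _ hm (Submodule.subset_span (Set.mem_insert_of_mem _ rfl) :
                (e 1 : Fin (m + 3) → F) ∈ plane))
            rwa [add_sub_cancel_left, inv_smul_smul₀ h1] at h2
        · simp only [k, if_neg h0]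
          exact hd a hap _ _ h0
      have := sum_comp_surj (coordHom a) (coordHom_surj hap) k
      rw [nsmul_eq_mul, nsmul_eq_mul, hperp a ha, Fintype.card_prod, Fintype.sum_prod_type] at this
      simp only [hk]
      have hks : ∑ s : F, ∑ t : F, k (s, t) = 1 + ((q : ℂ) - 1) * b + ((q : ℂ) ^ 2 - q) * d := by
        rw [← Finset.add_sum_erase _ _ (Finset.mem_univ (0 : F))]
        have e1 : ∑ t : F, k (0, t) = 1 + ((q : ℂ) - 1) * b :=
          sum_one_rest (fun t => k (0, t)) b (by simp [k]) fun t ht => by simp [k, ht]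
        rw [e1, Finset.sum_congr rfl (g := fun _ => (q : ℂ) * d) fun s hs => by
          simp [k, Finset.ne_of_mem_erase hs, hq], Finset.sum_const, nsmul_eq_mul,
          Finset.card_erase_of_mem (Finset.mem_univ _), Finset.card_univ, Nat.cast_sub Fintype.card_pos]
        push_cast
        ring
      rw [hks, Nat.cast_pow, Nat.cast_mul] at this
      rw [← this, hq]
      ring
    set A₁ := (Finset.univ.filter fun a : Fin (m + 3) → F => a ∈ Submodule.span F {(e 0 : Fin (m + 3) → F)})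
    set A₂ := (Finset.univ.filter fun a : Fin (m + 3) → F => a ∈ (plane : Submodule F (Fin (m + 3) → F)))
    set G : (Fin (m + 3) → F) → ℂ := fun a => ∑ f : Perp a, ⟪π (tv a f (mem_perp.1 f.2)) v, v⟫_ℂ
    have h12 : A₁ ⊆ A₂ := fun a ha => by
      simp only [A₁, A₂, Finset.mem_filter, Finset.mem_univ, true_and] at ha ⊢
      exact Submodule.span_mono (by simp) ha
    have h01 : (0 : Fin (m + 3) → F) ∈ A₁ := by simp [A₁]
    have hdecomp : Ω = ∑ a ∈ A₁.erase 0, G a + ∑ a ∈ A₂ \ A₁, G a + ∑ a ∈ Finset.univ \ A₂, G a := by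
      rw [hΩ, show (Finset.univ.erase (0 : Fin (m + 3) → F)) = (A₁.erase 0 ∪ (A₂ \ A₁)) ∪ (Finset.univ \ A₂) by
        ext a
        by_cases h1 : a ∈ A₁ <;> by_cases h2 : a ∈ A₂ <;> simp [h1, h2] <;>
          first | exact absurd (h12 h1) h2 | (intro h0; exact h1 (h0 ▸ h01)) | skip,
        Finset.sum_union, Finset.sum_union]
      · rw [Finset.disjoint_left]
        intro a ha ha'
        exact (Finset.mem_sdiff.1 ha').2 (Finset.mem_of_mem_erase ha)
      · rw [Finset.disjoint_left]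
        intro a ha ha'
        rcases Finset.mem_union.1 ha with ha | ha
        · exact (Finset.mem_sdiff.1 ha').2 (h12 (Finset.mem_of_mem_erase ha))
        · exact (Finset.mem_sdiff.1 ha').2 (Finset.mem_sdiff.1 ha).1
    have hc1 : A₁.card = q := card_span_one fun h0 => by simpa using congrFun h0 0
    have hc2 : A₂.card = q ^ 2 := card_span_two (li_ee ne01)
    have hS1 : ∑ a ∈ A₁.erase 0, G a = ((q : ℂ) - 1) * (q : ℂ) ^ (m + 2) := by
      rw [Finset.sum_eq_card_nsmul (b := (q : ℂ) ^ (m + 2)), nsmul_eq_mul, Finset.card_erase_of_mem h01, hc1,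
        Nat.cast_sub hq1.le, Nat.cast_one]
      intro a ha
      exact hA a (Finset.ne_of_mem_erase ha) (Finset.mem_filter.1 (Finset.mem_of_mem_erase ha)).2
    have hqC : (q : ℂ) ≠ 0 := Nat.cast_ne_zero.2 (by omega)
    have hS2 : ∑ a ∈ A₂ \ A₁, G a = ((q : ℂ) - 1) * (q : ℂ) ^ (m + 2) * (1 + ((q : ℂ) - 1) * c) := by
      refine mul_left_cancel₀ hqC ?_
      rw [Finset.mul_sum, Finset.sum_eq_card_nsmul (b := (q : ℂ) ^ (m + 2) * (1 + ((q : ℂ) - 1) * c)), nsmul_eq_mul,
        Finset.card_sdiff_of_subset h12, hc1, hc2, Nat.cast_sub (by nlinarith), Nat.cast_pow]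
      · ring
      intro a ha
      obtain ⟨h2, h1⟩ := Finset.mem_sdiff.1 ha
      exact hB a (Finset.mem_filter.1 h2).2 fun hm => h1 (Finset.mem_filter.2 ⟨Finset.mem_univ _, hm⟩)
    have hS3 : ∑ a ∈ Finset.univ \ A₂, G a = ((q : ℂ) ^ (m + 1) - 1) * (q : ℂ) ^ (m + 2) *
        (1 + ((q : ℂ) - 1) * b + ((q : ℂ) ^ 2 - q) * d) := by
      refine mul_left_cancel₀ (pow_ne_zero 2 hqC) ?_
      rw [Finset.mul_sum, Finset.sum_eq_card_nsmul (b := (q : ℂ) ^ (m + 2) *
        (1 + ((q : ℂ) - 1) * b + ((q : ℂ) ^ 2 - q) * d)), nsmul_eq_mul,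
        Finset.card_sdiff_of_subset (Finset.subset_univ _), hc2, Finset.card_univ, Fintype.card_fun, Fintype.card_fin,
        Nat.cast_sub (Nat.pow_le_pow_right (by omega) (by omega)), Nat.cast_pow, Nat.cast_pow]
      · ring
      intro a ha
      obtain ⟨-, h2⟩ := Finset.mem_sdiff.1 ha
      exact hD a fun hm => h2 (Finset.mem_filter.2 ⟨Finset.mem_univ _, hm⟩)
    rw [hdecomp, hS1, hS2, hS3]
    ring
  -- the Gram matrix of all translates
  set K : ℝ := ∑ a, ∑ y, ‖kq π v a y‖ ^ 2 with hK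
  have hK1 : (q : ℝ) ^ (m + 2) * K ≤ R * RCLike.re Ω := by
    rw [hK, ← Finset.add_sum_erase _ _ (Finset.mem_univ (0 : Fin (m + 3) → F))]
    have hz : ∑ y, ‖kq π v (0 : Fin (m + 3) → F) y‖ ^ 2 = 0 := Finset.sum_eq_zero fun y _ => by
      rw [kq_not_li fun hli => hli.ne_zero 0 rfl]
      simp
    rw [hz, zero_add, hΩ, map_sum, Finset.mul_sum, Finset.mul_sum]
    refine Finset.sum_le_sum fun a ha => ?_
    have := step a (Finset.ne_of_mem_erase ha)
    rwa [hperp a (Finset.ne_of_mem_erase ha), Nat.cast_pow] at this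
  set Φ : ℝ := ((q : ℝ) ^ (m + 3) - 1) * ((q : ℝ) ^ (m + 3) - q) with hΦ
  let S := (Finset.univ.filter fun p : (Fin (m + 3) → F) × (Fin (m + 3) → F) => LinearIndependent F ![p.1, p.2])
  have hScard : (S.card : ℝ) = Φ := by
    have h1 : S.card = ∑ a ∈ Finset.univ.erase (0 : Fin (m + 3) → F),
        (Finset.univ.filter fun y : Fin (m + 3) → F => y ∉ Submodule.span F {a}).card := by
      rw [← Finset.card_sigma]
      refine Finset.card_bij' (fun p _ => ⟨p.1, p.2⟩) (fun p _ => (p.1, p.2)) ?_ ?_ (fun _ _ => rfl) (fun _ _ => rfl)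
      · intro p hp
        simp only [S, Finset.mem_filter, Finset.mem_univ, true_and] at hp
        obtain ⟨h1, h2⟩ := li_pair_iff.1 hp
        simp [h1, h2]
      · intro p hp
        simp only [Finset.mem_sigma, Finset.mem_erase, Finset.mem_filter, Finset.mem_univ, true_and, and_true] at hp
        simp only [S, Finset.mem_filter, Finset.mem_univ, true_and]
        exact li_pair hp.1 hp.2
    rw [h1, Finset.sum_eq_card_nsmul (b := q ^ (m + 3) - q), smul_eq_mul, Finset.card_erase_of_mem (Finset.mem_univ _),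
      Finset.card_univ, Fintype.card_fun, Fintype.card_fin, Nat.cast_mul,
      Nat.cast_sub (Nat.one_le_pow _ _ (by omega)), Nat.cast_sub (Nat.le_self_pow (by omega) q)]
    · push_cast
      rfl
    intro a ha
    rw [Finset.filter_not, Finset.card_sdiff_of_subset (Finset.filter_subset _ _),
      card_span_one (Finset.ne_of_mem_erase ha), Finset.card_univ, Fintype.card_fun, Fintype.card_fin]
  have hgt := gram_trace C (fun p : S => fam π v p.1.1 p.1.2) fun p => fam_mem h.inv hv _ _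
  have hlhs : ∑ p : S, ‖fam π v p.1.1 p.1.2‖ ^ 2 = Φ := by
    rw [Finset.sum_congr rfl (g := fun _ => (1 : ℝ)) fun p _ => by
      rw [fam_norm h.uni hv (Finset.mem_filter.1 p.2).2, one_pow], Finset.sum_const, nsmul_eq_mul, mul_one,
      Finset.card_univ, Fintype.card_coe, hScard]
  have hrhs : ∀ p : S, ∑ p' : S, ‖⟪fam π v p.1.1 p.1.2, fam π v p'.1.1 p'.1.2⟫_ℂ‖ ^ 2 ≤ K := by
    intro p
    obtain ⟨g, g0, g1, he⟩ := fam_exists hv (Finset.mem_filter.1 p.2).2
    have h1 : ∀ p' : S, ‖⟪fam π v p.1.1 p.1.2, fam π v p'.1.1 p'.1.2⟫_ℂ‖ ^ 2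
        = ‖kq π v (g⁻¹ • p'.1.1) (g⁻¹ • p'.1.2)‖ ^ 2 := fun p' => by
      rw [he, kq, ← fam_move hv g⁻¹ (Finset.mem_filter.1 p'.2).2, ← h.uni g (π g⁻¹ _), ← rho_mul,
        mul_inv_cancel, map_one, Module.End.one_apply, ← inner_conj_symm (fam π v p'.1.1 p'.1.2) (π g v),
        Complex.norm_conj]
    rw [Finset.sum_congr rfl fun p' _ => h1 p', hK, ← Fintype.sum_prod_type']
    rw [Finset.sum_coe_sort S fun p' => ‖kq π v (g⁻¹ • p'.1) (g⁻¹ • p'.2)‖ ^ 2]
    refine le_trans (Finset.sum_le_sum_of_subset_of_nonneg (Finset.subset_univ S) fun _ _ _ => sq_nonneg _) ?_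
    refine le_of_eq (Fintype.sum_equiv ((MulAction.toPerm g⁻¹).prodCongr (MulAction.toPerm g⁻¹)) _ _ fun x => rfl)
  rw [hlhs] at hgt
  have hgt' : Φ ^ 2 ≤ (finrank ℂ C : ℝ) * (Φ * K) := by
    refine hgt.trans (mul_le_mul_of_nonneg_left ?_ (Nat.cast_nonneg _))
    refine (Finset.sum_le_sum fun p _ => hrhs p).trans_eq ?_
    rw [Finset.sum_const, nsmul_eq_mul, Finset.card_univ, Fintype.card_coe, hScard]
  have hq' : (2 : ℝ) ≤ q := by exact_mod_cast hq1
  have hΦpos : 0 < Φ := by
    have h1 : (q : ℝ) ^ 2 ≤ (q : ℝ) ^ (m + 3) := pow_le_pow_right₀ (by linarith) (by omega)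
    exact mul_pos (by nlinarith) (by nlinarith)
  have hΦK : Φ ≤ (finrank ℂ C : ℝ) * K := le_of_mul_le_mul_left (by linarith) hΦpos
  have hre : RCLike.re Ω = (q : ℝ) ^ (m + 2) * (((q : ℝ) - 1) * (2 + ((q : ℝ) - 1) * c) +
      ((q : ℝ) ^ (m + 1) - 1) * (1 + ((q : ℝ) - 1) * b + ((q : ℝ) ^ 2 - q) * d)) := by
    rw [hval, ← Complex.ofReal_natCast]
    norm_cast
  rw [hre] at hK1
  have hpow : (0 : ℝ) < (q : ℝ) ^ (m + 2) := by positivity
  refine hΦK.trans ?_
  rw [mul_assoc]
  refine mul_le_mul_of_nonneg_left ?_ (Nat.cast_nonneg _)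
  refine le_of_mul_le_mul_left ?_ hpow
  linarith

end Cfsg.Agent.SLDeg
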