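import Cfsg.Agent.SLDeg.Values

/-!
Two incompatibilities for the entries of the family, and the first character of a flag vector.
-/

set_option autoImplicit false
set_option linter.unusedSectionVars false

namespace Cfsg.Agent.SLDeg

open Matrix Module SUDeg
open scoped InnerProductSpace ComplexConjugate

variable {m : ℕ} {F : Type*} [Field F] [Finite F]
variable {E : Type*} [NormedAddCommGroup E] [InnerProductSpace ℂ E] [FiniteDimensional ℂ E]
variable {π : Representation ℂ (SLn (m + 3) F) E} {ψ : AddChar F ℂ} {C : Submodule ℂ E} {v : E} {η μ : F → ℂ}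

theorem e0_plane : (e 0 : Fin (m + 3) → F) ∈ plane := Submodule.subset_span (Set.mem_insert _ _)

theorem e1_plane : (e 1 : Fin (m + 3) → F) ∈ plane := Submodule.subset_span (Set.mem_insert_of_mem _ rfl)

theorem e1_notMem : (e 1 : Fin (m + 3) → F) ∉ Submodule.span F {(e 0 : Fin (m + 3) → F)} :=
  (li_pair_iff.1 (li_ee ne01)).2

theorem e2_notMem_plane : (e 2 : Fin (m + 3) → F) ∉ plane := fun hm => by
  obtain ⟨p, r, hpr⟩ := Submodule.mem_span_pair.1 hm
  simpa [ne02, ne02.symm, ne12, ne12.symm] using congrFun hpr 2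

/-- A vector orthogonal to the fixed space of a centre group has zero average. -/
theorem avg_zero (h : Ctx π ψ C) (hv : IsFlag π C v η μ) {a : Fin (m + 3) → F} (ha : a ≠ 0) [Fintype (Perp a)]
    (hzero : ∀ y, LinearIndependent F ![a, y] → kq π v a y = 0) :
    ∑ f : Perp a, kq π v (e 0 + ((f : Fin (m + 3) → F) ⬝ᵥ e 0) • a) (e 1 + ((f : Fin (m + 3) → F) ⬝ᵥ e 1) • a) = 0 := by
  obtain ⟨hP, -⟩ := avg_facts h.uni h.inv hv (a := a)
  have hle : Submodule.span ℂ {x | ∃ y, LinearIndependent F ![a, y] ∧ fam π v a y = x} ≤ (ℂ ∙ v)ᗮ := by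
    refine Submodule.span_le.2 ?_
    rintro _ ⟨y, hy, rfl⟩
    rw [SetLike.mem_coe, Submodule.mem_orthogonal_singleton_iff_inner_left]
    exact hzero y hy
  have h1 := Submodule.mem_orthogonal_singleton_iff_inner_left.1 (hle (fixRow_le h hv ha hP))
  rw [sum_inner] at h1
  refine Eq.trans (Finset.sum_congr rfl fun f _ => ?_) h1
  rw [tv_fam hv]
  rfl

/-- The entries at the exchanged pair and at `(e 1, e 2)` cannot both vanish. -/
theorem kill1 (h : Ctx π ψ C) (hv : IsFlag π C v η μ) (h10 : kq π v (e 1) (e 0) = 0)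
    (h12 : kq π v (e 1) (e 2) = 0) : False := by
  classical
  let _ := Fintype.ofFinite (Perp (e 1 : Fin (m + 3) → F))
  have hzero : ∀ y, LinearIndependent F ![(e 1 : Fin (m + 3) → F), y] → kq π v (e 1) y = 0 := by
    intro y hy
    by_cases hyp : y ∈ plane
    · exact (kq_plane h.uni hv e1_plane hyp hy e1_notMem).1 h10
    · obtain ⟨r, hr, -, hk, -, -⟩ := kq_third h.uni hv hyp
      rw [h12, eq_comm, mul_eq_zero] at hk
      exact hk.resolve_left (conj_ne_zero' h.uni hv hr).2
  have hs := avg_zero h hv (fun h0 => by simpa using congrFun h0 1) hzero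
  have hterm : ∀ f : Perp (e 1 : Fin (m + 3) → F),
      kq π v (e 0 + ((f : Fin (m + 3) → F) ⬝ᵥ e 0) • e 1) (e 1 + ((f : Fin (m + 3) → F) ⬝ᵥ e 1) • e 1) =
        if (f : Fin (m + 3) → F) ⬝ᵥ e 0 = 0 then 1 else 0 := by
    intro f
    rw [mem_perp.1 f.2, zero_smul, add_zero]
    split
    · rename_i h0
      rw [h0]
      simp [kq_base hv]
    · rename_i h0
      have hp : (e 0 : Fin (m + 3) → F) + ((f : Fin (m + 3) → F) ⬝ᵥ e 0) • e 1 ∈ plane :=
        Submodule.add_mem _ e0_plane (Submodule.smul_mem _ _ e1_plane)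
      refine (kq_plane h.uni hv hp e1_plane ?_ fun hm => e1_notMem (F := F) (m := m) ?_).1 h10
      · have := li_move (tv (e 1) f (mem_perp.1 f.2)) (li_ee (F := F) (ne01 (m := m)))
        rwa [tv_apply, tv_apply, mem_perp.1 f.2, zero_smul, add_zero] at this
      · have h2 := Submodule.smul_mem _ ((f : Fin (m + 3) → F) ⬝ᵥ e 0)⁻¹
          (Submodule.sub_mem _ hm (Submodule.mem_span_singleton_self (e 0 : Fin (m + 3) → F)))
        rwa [add_sub_cancel_left, inv_smul_smul₀ h0] at h2
  simp only [hterm, Finset.sum_boole, Nat.cast_eq_zero, Finset.card_eq_zero] at hs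
  exact Finset.notMem_empty (0 : Perp (e 1 : Fin (m + 3) → F)) (hs ▸ by simp)

/-- In dimension three, three particular entries cannot all vanish. -/
theorem kill2 {π : Representation ℂ (SLn (0 + 3) F) E} (h : Ctx π ψ C) (hv : IsFlag π C v η μ)
    (h02 : kq π v (e 0) (e 2) = 0) (h20 : kq π v (e 2) (e 0) = 0) (h21 : kq π v (e 2) (e 1) = 0) : False := by
  classical
  let _ := Fintype.ofFinite (Perp (e 2 : Fin (0 + 3) → F))
  have hzero : ∀ y, LinearIndependent F ![(e 2 : Fin (0 + 3) → F), y] → kq π v (e 2) y = 0 := by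
    intro y hy
    set w : Fin (0 + 3) → F := y + (-(y 2)) • e 2 with hw
    have hyw : y = w + (y 2) • (e 2 : Fin (0 + 3) → F) := by rw [hw, neg_smul]; abel
    have hwp : w = y 0 • e 0 + y 1 • e 1 := by
      funext i
      fin_cases i <;> simp [hw]
    have hli : LinearIndependent F ![(e 2 : Fin (0 + 3) → F), w] := li_add _ hy
    rw [hyw, kq_shift hv _ hli]
    by_cases h1 : y 1 = 0
    · have h0 : y 0 ≠ 0 := fun h0 => by
        rw [hwp, h0, h1, zero_smul, zero_smul, add_zero] at hli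
        exact hli.ne_zero 1 rfl
      have hsc := kq_scale hv one_ne_zero h0 (li_ee (F := F) (ne02 (m := 0)).symm)
      rw [one_smul, h20, mul_zero] at hsc
      rw [hwp, h1, zero_smul, add_zero, hsc]
    · have hlu : LinearIndependent F ![(e 0 : Fin (0 + 3) → F), w] := li_pair (fun h0 => by simpa using congrFun h0 0)
        fun hm => by
          obtain ⟨c, hc⟩ := Submodule.mem_span_singleton.1 hm
          refine h1 ?_
          have := congrFun hc 1
          rw [hwp] at this
          simpa [eq_comm] using this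
      have hspan : (e 2 : Fin (0 + 3) → F) ∉ Submodule.span F {(e 0 : Fin (0 + 3) → F), w} := fun hm => by
        refine e2_notMem_plane (Submodule.span_le.2 ?_ hm)
        rintro u (rfl | rfl)
        · exact e0_plane
        · rw [hwp]
          exact Submodule.add_mem _ (Submodule.smul_mem _ _ e0_plane) (Submodule.smul_mem _ _ e1_plane)
      obtain ⟨g, r, hr, g0, g1, g2⟩ := exists_move3 (li_triple hlu hspan)
      have hk := kq_move h.uni hv (g := g) (x := 1) (s := y 1) (t := y 0) (by rw [g0, one_smul])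
        (by rw [g1, hwp]; abel) (li_ee (F := F) (ne12 (m := 0)).symm)
      rw [h21, g1, g2] at hk
      have hsc := kq_scale hv hr one_ne_zero hli
      rw [one_smul] at hsc
      rw [hsc, eq_comm] at hk
      have hn0 : ∀ {x s : F}, x ≠ 0 → s ≠ 0 → η x * μ s ≠ 0 := fun hx hs h0 => by
        have := flag_norm h.uni hv hx hs
        rw [h0, norm_zero] at this
        exact zero_ne_one this
      exact ((mul_eq_zero.1 ((mul_eq_zero.1 hk).resolve_left (hn0 one_ne_zero h1))).resolve_left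
        ((map_ne_zero _).2 (hn0 hr one_ne_zero)))
  have hs := avg_zero h hv (fun h0 => by simpa using congrFun h0 2) hzero
  have hterm : ∀ f : Perp (e 2 : Fin (0 + 3) → F),
      kq π v (e 0 + ((f : Fin (0 + 3) → F) ⬝ᵥ e 0) • e 2) (e 1 + ((f : Fin (0 + 3) → F) ⬝ᵥ e 1) • e 2) =
        if (f : Fin (0 + 3) → F) ⬝ᵥ e 0 = 0 ∧ (f : Fin (0 + 3) → F) ⬝ᵥ e 1 = 0 then 1 else 0 := by
    intro f
    split
    · rename_i h0
      rw [h0.1, h0.2]
      simp [kq_base hv]
    · rename_i h0
      by_cases hf0 : (f : Fin (0 + 3) → F) ⬝ᵥ e 0 = 0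
      · have hf1 : (f : Fin (0 + 3) → F) ⬝ᵥ e 1 ≠ 0 := fun h1 => h0 ⟨hf0, h1⟩
        rw [hf0, zero_smul, add_zero]
        obtain ⟨r, hr, hk, -, -, -⟩ := kq_third h.uni hv (z := e 1 + ((f : Fin (0 + 3) → F) ⬝ᵥ e 1) • e 2) fun hm => by
          refine e2_notMem_plane (F := F) (m := 0) ?_
          have h2 := Submodule.smul_mem _ ((f : Fin (0 + 3) → F) ⬝ᵥ e 1)⁻¹ (Submodule.sub_mem _ hm e1_plane)
          rwa [add_sub_cancel_left, inv_smul_smul₀ hf1] at h2
        rw [h02, eq_comm, mul_eq_zero] at hk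
        exact hk.resolve_left (conj_ne_zero' h.uni hv hr).2
      · obtain ⟨r, hr, hk⟩ := kq_generic h.uni hv (t := (f : Fin (0 + 3) → F) ⬝ᵥ e 1) e2_notMem_plane hf0
        rw [h21, eq_comm, mul_eq_zero] at hk
        exact hk.resolve_left (conj_ne_zero' h.uni hv hr).1
  simp only [hterm, Finset.sum_boole, Nat.cast_eq_zero, Finset.card_eq_zero] at hs
  exact Finset.notMem_empty (0 : Perp (e 2 : Fin (0 + 3) → F)) (hs ▸ by simp)

/-- From dimension four on the first character of a flag vector is trivial. -/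
theorem eta_trivial (h : Ctx π ψ C) (hv : IsFlag π C v η μ) (hm : 1 ≤ m) {x : F} (hx : x ≠ 0) : η x = 1 := by
  classical
  set l : Fin (m + 3) := Fin.last (m + 2) with hl
  have hlval : (l : ℕ) = m + 2 := rfl
  have hl0 : l ≠ 0 := by rw [ne_eq, Fin.ext_iff, hlval]; simp
  have hl1 : l ≠ 1 := by rw [ne_eq, Fin.ext_iff, hlval, one_val]; omega
  have hl2 : l ≠ 2 := by rw [ne_eq, Fin.ext_iff, hlval, two_val]; omega
  have hli : LinearIndependent F ![(e l : Fin (m + 3) → F), e 1] := li_ee hl1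
  obtain ⟨w, hw, hw0⟩ : ∃ w ∈ colEig π ψ C (e l) (e 1 : Fin (m + 3) → F), w ≠ 0 := by
    obtain ⟨g₀, hg₀⟩ : ∃ g : SLn (m + 3) F, π g v ≠ v := by
      by_contra hc
      push Not at hc
      exact flag_ne_zero hv (h.noStab v hv.mem fun g _ => hc g)
    obtain ⟨a, f, haf, u, hu, hmv⟩ : ∃ (a f : Fin (m + 3) → F) (haf : f ⬝ᵥ a = 0), ∃ u ∈ C, π (tv a f haf) u ≠ u := by
      by_contra hc
      push Not at hc
      let θ : SLn (m + 3) F →* Module.End ℂ C :=
        { toFun := fun g => LinearMap.restrict (π g) (h.inv g)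
          map_one' := LinearMap.ext fun x => Subtype.ext (by simp [LinearMap.restrict_apply])
          map_mul' := fun g g' => LinearMap.ext fun x => Subtype.ext (by simp [map_mul, LinearMap.restrict_apply]) }
      have ht := hom_trivial θ (fun a f haf => LinearMap.ext fun x => Subtype.ext (hc a f haf x x.2)) g₀
      exact hg₀ (congrArg Subtype.val (LinearMap.congr_fun ht ⟨v, hv.mem⟩))
    obtain ⟨χ, hχ, hne⟩ := exists_eig_nontrivial (φ := colAct π f) (fun b x hx => h.inv _ x hx) hu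
      (a := ⟨a, mem_perp'.2 haf⟩) hmv
    obtain ⟨φ, hfφ, rfl⟩ := chr_nontrivial h.psi (fun h0 => by
      subst h0
      rw [tv_zero_right, map_one, Module.End.one_apply] at hmv
      exact hmv rfl) hχ
    obtain ⟨u₁, hu₁, hu₁0⟩ := (Submodule.ne_bot_iff _).1 hne
    obtain ⟨g, hg1, hg2⟩ := exists_pull hfφ hli
    exact ⟨π g u₁, colEig_move h.inv g hg1 hg2 hu₁, fun h0 => hu₁0 (rho_injective π g (by rw [h0, map_zero]))⟩
  obtain ⟨hwC, hwχ⟩ := mem_colEig.1 hw
  have hfix : ∀ a : Fin (m + 3) → F, a l = 0 → a 1 = 0 → w ∈ fixRow π C a := fun a h1 h2 =>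
    h.good.fixed (e l) (e 1) a hli (by simpa using h1) (by simpa using h2) hw
  have hwrow := hfix (e 0) (by simp [hl0]) (by simp [ne01.symm])
  obtain ⟨y, hy, hyne⟩ : ∃ y, LinearIndependent F ![(e 0 : Fin (m + 3) → F), y] ∧ ⟪w, fam π v (e 0) y⟫_ℂ ≠ 0 := by
    by_contra hc
    push Not at hc
    refine hw0 (inner_self_eq_zero (𝕜 := ℂ).1 ?_)
    have hle : Submodule.span ℂ (Set.range (fam π v (e 0 : Fin (m + 3) → F))) ≤ (ℂ ∙ w)ᗮ := Submodule.span_le.2 (by
      rintro _ ⟨y, rfl⟩
      rw [SetLike.mem_coe, Submodule.mem_orthogonal_singleton_iff_inner_right]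
      by_cases hy : LinearIndependent F ![(e 0 : Fin (m + 3) → F), y]
      · exact hc y hy
      · rw [fam, dif_neg hy, inner_zero_right])
    exact Submodule.mem_orthogonal_singleton_iff_inner_right.1 (hle (fixRow_e0_le h hv hwrow))
  have hshift : ∀ (a : Fin (m + 3) → F) (ha : (e l : Fin (m + 3) → F) ⬝ᵥ a = 0) (z : Fin (m + 3) → F),
      LinearIndependent F ![(e 0 : Fin (m + 3) → F), z] →
        ⟪w, fam π v (e 0) z⟫_ℂ = conj (ψ (a 1)) * ⟪w, fam π v (e 0) (z + z l • a)⟫_ℂ := by
    intro a ha z hz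
    rw [← h.uni (tv a (e l) ha), fam_move hv _ hz, hwχ a ha, inner_smul_left, tv_fix ha (by simp [hl0]), tv_apply,
      single_one_dotProduct, single_one_dotProduct]
  have hs : y l ≠ 0 := by
    intro h0
    obtain ⟨t, ht⟩ := exists_ne_one h.psi (one_ne_zero (α := F))
    rw [mul_one] at ht
    refine hyne ?_
    have := hshift (t • e 1) (by simp [hl1]) y hy
    rw [h0, zero_smul, add_zero] at this
    simp only [Pi.smul_apply, Pi.single_eq_same, smul_eq_mul, mul_one] at this
    by_contra hne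
    refine ht ((RingHom.injective (starRingEnd ℂ)) ?_)
    rw [map_one]
    exact mul_right_cancel₀ hne (this.symm.trans (one_mul _).symm)
  set s := y l with hsdef
  have hsl : LinearIndependent F ![(e 0 : Fin (m + 3) → F), s • e l] := by
    simpa using li_smul one_ne_zero hs (li_ee (F := F) hl0.symm)
  have hne' : ⟪w, fam π v (e 0) (s • e l : Fin (m + 3) → F)⟫_ℂ ≠ 0 := by
    set a : Fin (m + 3) → F := s⁻¹ • (y - s • e l) with ha
    have hal : (e l : Fin (m + 3) → F) ⬝ᵥ a = 0 := by simp [ha, hsdef]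
    have h1 := hshift a hal (s • e l) hsl
    have hsum : s • (e l : Fin (m + 3) → F) + (s • e l : Fin (m + 3) → F) l • a = y := by
      simp [ha, smul_smul, mul_inv_cancel₀ hs]
    rw [hsum] at h1
    intro h0
    rw [h0, eq_comm, mul_eq_zero, map_eq_zero] at h1
    rcases h1 with h1 | h1
    · have := congrArg (‖·‖) h1
      simp at this
    · exact hyne h1
  -- the element scaling the first and third coordinates
  have hA : ∀ c : F, (e 2 : Fin (m + 3) → F) ⬝ᵥ (c • e 0) = 0 := fun c => by simp [ne02.symm]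
  have hB : ∀ c : F, (e 0 : Fin (m + 3) → F) ⬝ᵥ (c • e 2) = 0 := fun c => by simp [ne02]
  have hfA : ∀ c : F, π (tv _ _ (hA c)) w = w := fun c =>
    (mem_fixRow.1 (hfix (c • e 0) (by simp [hl0]) (by simp [ne01.symm]))).2 _ _
  have hfB : ∀ c : F, π (tv _ _ (hB c)) w = w := fun c =>
    (mem_fixRow.1 (hfix (c • e 2) (by simp [hl2]) (by simp [ne12]))).2 _ _
  have hprod : (hel (Units.mk0 x hx) 1 : SLn (m + 3) F) =
      tv _ _ (hA x) * tv _ _ (hB (-x⁻¹)) * tv _ _ (hA x) * (tv _ _ (hA (-1)) * tv _ _ (hB 1) * tv _ _ (hA (-1))) := by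
    refine sl_ext fun z => funext fun i => ?_
    simp only [mul_smul, tv_apply, hel_apply, single_one_dotProduct, Pi.add_apply, Pi.smul_apply, smul_eq_mul,
      Pi.single_eq_same, Pi.single_eq_of_ne ne02, Pi.single_eq_of_ne ne02.symm]
    by_cases h0 : i = 0
    · subst h0
      simp [ne02]
      field_simp
      ring
    by_cases h2 : i = 2
    · subst h2
      rw [show (2 : Fin (m + 3)) = Fin.succ (Fin.succ 0) from Fin.ext (by rw [two_val]; rfl)]
      rw [Fin.cons_succ, Fin.cons_succ, Fin.cons_zero]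
      simp only [show Fin.succ (Fin.succ (0 : Fin (m + 1))) = (2 : Fin (m + 3)) from Fin.ext (by rw [two_val]; rfl)]
      simp [ne02, ne02.symm]
      field_simp
      ring
    · simp only [Pi.single_eq_of_ne h0, Pi.single_eq_of_ne h2, mul_zero, add_zero]
      have hcons : (Fin.cons ((Units.mk0 x hx : Fˣ) : F) (Fin.cons ((1 : Fˣ) : F) (Fin.cons (((Units.mk0 x hx * 1)⁻¹ : Fˣ) : F) 1)) :
          Fin (m + 3) → F) i = 1 := by
        revert h0 h2
        refine Fin.cases (fun h => absurd rfl h) (fun j => ?_) i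
        intro _
        refine Fin.cases (fun _ => by simp) (fun k => ?_) j
        refine Fin.cases (fun h => absurd (Fin.ext (by rw [two_val]; rfl)) h) (fun k' _ => by simp) k
      rw [hcons, one_mul]
  have hwfix : π (hel (Units.mk0 x hx) 1) w = w := by
    rw [hprod]
    simp only [map_mul, Module.End.mul_apply, hfA, hfB]
  have hkey := h.uni (hel (Units.mk0 x hx) 1) w (fam π v (e 0) (s • e l : Fin (m + 3) → F))
  rw [hwfix, fam_move hv _ hsl, hel_e0, sl_smul_smul, hel_single] at hkey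
  have hdl : (Fin.cons ((Units.mk0 x hx : Fˣ) : F) (Fin.cons ((1 : Fˣ) : F) (Fin.cons (((Units.mk0 x hx * 1)⁻¹ : Fˣ) : F) 1)) :
      Fin (m + 3) → F) l = 1 := by
    obtain ⟨k, hk⟩ : ∃ k : Fin m, l = k.succ.succ.succ := ⟨⟨m - 1, by omega⟩, Fin.ext (by simp [hlval]; omega)⟩
    rw [hk, Fin.cons_succ, Fin.cons_succ, Fin.cons_succ]
    rfl
  rw [hdl, one_smul, show ((Units.mk0 x hx : Fˣ) : F) = x from rfl] at hkey
  conv_lhs at hkey => rw [← one_smul F (s • e l : Fin (m + 3) → F)]
  rw [fam_scale hv hx one_ne_zero hsl, mu_one hv, mul_one, inner_smul_right] at hkey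
  exact mul_right_cancel₀ hne' (hkey.trans (one_mul _).symm)

end Cfsg.Agent.SLDeg
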