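import Cfsg.Agent.SLDeg.Frame
import Cfsg.Agent.SLDeg.Kill

/-!
Flag vectors with trivial characters: the sums along points and lines, and the contradiction.
-/

set_option autoImplicit false
set_option linter.unusedSectionVars false

namespace Cfsg.Agent.SLDeg

open Matrix Module SUDeg
open scoped InnerProductSpace ComplexConjugate

variable {m : ℕ} {F : Type*} [Field F]
variable {E : Type*} [NormedAddCommGroup E] [InnerProductSpace ℂ E] [FiniteDimensional ℂ E]
variable {π : Representation ℂ (SLn (m + 3) F) E} {ψ : AddChar F ℂ} {C : Submodule ℂ E} {v : E}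

theorem real_bound [Fintype F] [Finite F] {η μ : F → ℂ} (h : Ctx π ψ C) (hv : IsFlag π C v η μ) :
    (finrank ℂ C : ℝ) * ((Fintype.card F : ℝ) - 1) + Fintype.card F ≤ (Fintype.card F : ℝ) ^ (m + 3) := by
  have h1 := finrank_bound h hv
  rw [Nat.card_eq_fintype_card] at h1
  have h2 : ((finrank ℂ C * (Fintype.card F - 1) + Fintype.card F : ℕ) : ℝ) ≤ ((Fintype.card F ^ (m + 3) : ℕ) : ℝ) := by
    exact_mod_cast h1
  rw [Nat.cast_add, Nat.cast_mul, Nat.cast_sub Fintype.card_pos, Nat.cast_pow] at h2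
  exact_mod_cast h2

variable [Fintype F] [DecidableEq F]

theorem eq_of_plane (h : Ctx π ψ C) (hv : IsFlag π C v (fun _ => 1) (fun _ => 1)) {a y y' : Fin (m + 3) → F}
    (hy : LinearIndependent F ![a, y]) (hy' : LinearIndependent F ![a, y'])
    (hmem : y' ∈ Submodule.span F {a, y}) : fam π v a y' = fam π v a y := by
  obtain ⟨p, r, hpr⟩ := Submodule.mem_span_pair.1 hmem
  have hr : r ≠ 0 := fun h0 => by
    subst h0
    rw [zero_smul, add_zero] at hpr
    exact (li_pair_iff.1 hy').2 (Submodule.mem_span_singleton.2 ⟨p, hpr⟩)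
  have hry : LinearIndependent F ![a, r • y] := by simpa using li_smul one_ne_zero hr hy
  have hsc := fam_scale hv one_ne_zero hr hy
  rw [one_smul, one_mul, one_smul] at hsc
  rw [← hpr, add_comm, fam_shift hv _ hry, hsc]

open scoped _root_.Classical in
/-- A second basis vector of a line. -/
noncomputable def cmpl (p r a : Fin (m + 3) → F) : Fin (m + 3) → F :=
  if a ∈ Submodule.span F {p} then r else p

open scoped _root_.Classical in
/-- The sum of the translates along a line. -/
noncomputable def lineSum (π : Representation ℂ (SLn (m + 3) F) E) (v : E) (p r : Fin (m + 3) → F) : E :=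
  ∑ a ∈ Finset.univ.filter (fun a => a ∈ Submodule.span F {p, r} ∧ a ≠ 0), fam π v a (cmpl p r a)

theorem cmpl_spec {p r a : Fin (m + 3) → F} (h : LinearIndependent F ![p, r]) (ha : a ∈ Submodule.span F {p, r})
    (ha0 : a ≠ 0) : LinearIndependent F ![a, cmpl p r a] ∧ cmpl p r a ∈ Submodule.span F {p, r} := by
  classical
  rw [cmpl]
  split
  · rename_i hm
    obtain ⟨c, rfl⟩ := Submodule.mem_span_singleton.1 hm
    refine ⟨li_pair ha0 ?_, Submodule.subset_span (Set.mem_insert_of_mem _ rfl)⟩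
    intro hr
    obtain ⟨d, hd⟩ := Submodule.mem_span_singleton.1 hr
    exact (li_pair_iff.1 h).2 (Submodule.mem_span_singleton.2 ⟨d * c, by rw [← hd, smul_smul]⟩)
  · rename_i hm
    refine ⟨li_pair ha0 fun hp => hm ?_, Submodule.subset_span (Set.mem_insert _ _)⟩
    obtain ⟨d, hd⟩ := Submodule.mem_span_singleton.1 hp
    have hd0 : d ≠ 0 := fun h0 => (li_pair_iff.1 h).1 (by rw [← hd, h0, zero_smul])
    exact Submodule.mem_span_singleton.2 ⟨d⁻¹, by rw [← hd, inv_smul_smul₀ hd0]⟩

theorem lineSum_move (h : Ctx π ψ C) (hv : IsFlag π C v (fun _ => 1) (fun _ => 1)) {p r p' r' : Fin (m + 3) → F}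
    (hpr : LinearIndependent F ![p, r]) (hpr' : LinearIndependent F ![p', r']) (g : SLn (m + 3) F)
    (hg : ∀ a, a ∈ Submodule.span F {p, r} ↔ g • a ∈ Submodule.span F {p', r'}) :
    π g (lineSum π v p r) = lineSum π v p' r' := by
  classical
  rw [lineSum, lineSum, map_sum]
  refine Finset.sum_bij' (fun a _ => g • a) (fun a _ => g⁻¹ • a) ?_ ?_ ?_ ?_ ?_
  · intro a ha
    simp only [Finset.mem_filter, Finset.mem_univ, true_and] at ha ⊢
    exact ⟨(hg a).1 ha.1, fun h0 => ha.2 (sl_injective g (h0.trans (sl_smul_zero g).symm))⟩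
  · intro a ha
    simp only [Finset.mem_filter, Finset.mem_univ, true_and] at ha ⊢
    refine ⟨(hg _).2 (by rw [smul_inv_smul]; exact ha.1), fun h0 => ha.2 ?_⟩
    rw [← smul_inv_smul g a, h0, sl_smul_zero]
  · intro a _; exact inv_smul_smul g a
  · intro a _; exact smul_inv_smul g a
  · intro a ha
    simp only [Finset.mem_filter, Finset.mem_univ, true_and] at ha
    obtain ⟨hli, hc⟩ := cmpl_spec hpr ha.1 ha.2
    have hga0 : g • a ≠ 0 := fun h0 => ha.2 (sl_injective g (h0.trans (sl_smul_zero g).symm))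
    obtain ⟨hli', hc'⟩ := cmpl_spec hpr' ((hg a).1 ha.1) hga0
    rw [fam_move hv g hli]
    refine eq_of_plane h hv hli' (li_move g hli) ?_
    have hspan : Submodule.span F {g • a, cmpl p' r' (g • a)} = Submodule.span F {p', r'} := by
      refine Submodule.eq_of_le_of_finrank_le (Submodule.span_le.2 ?_) ?_
      · rintro x (rfl | rfl)
        · exact (hg a).1 ha.1
        · exact hc'
      · rw [show ({p', r'} : Set (Fin (m + 3) → F)) = Set.range ![p', r'] by
          simp [Matrix.range_cons, Set.pair_comm], show ({g • a, cmpl p' r' (g • a)} : Set (Fin (m + 3) → F))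
            = Set.range ![g • a, cmpl p' r' (g • a)] by simp [Matrix.range_cons, Set.pair_comm],
          finrank_span_eq_card hpr', finrank_span_eq_card hli']
    rw [hspan]
    exact (hg _).1 hc

theorem sum_point (h : Ctx π ψ C) (hv : IsFlag π C v (fun _ => 1) (fun _ => 1)) :
    ∑ y, fam π v (e 0 : Fin (m + 3) → F) y = 0 := by
  refine h.noStab _ (C.sum_mem fun y _ => fam_mem h.inv hv _ _) fun g hg => ?_
  rw [map_sum]
  refine Fintype.sum_equiv (MulAction.toPerm g) _ _ fun y => ?_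
  by_cases hy : LinearIndependent F ![(e 0 : Fin (m + 3) → F), y]
  · rw [fam_move hv g hy, hg]
    rfl
  · have hy' : ¬ LinearIndependent F ![(e 0 : Fin (m + 3) → F), g • y] := fun hl => hy (by
      have := li_move g⁻¹ hl
      rwa [inv_smul_smul, show g⁻¹ • (e 0 : Fin (m + 3) → F) = e 0 from inv_smul_eq_iff.2 hg.symm] at this)
    show π g (fam π v (e 0) y) = fam π v (e 0) (g • y)
    rw [fam, dif_neg hy, map_zero, fam, dif_neg hy']

theorem b_value (h : Ctx π ψ C) (hv : IsFlag π C v (fun _ => 1) (fun _ => 1)) :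
    (∀ y : Fin (m + 3) → F, y ∉ plane →
      kq π v (e 0) y = ((-((Fintype.card F : ℝ) - 1) / ((Fintype.card F : ℝ) ^ (m + 2) - Fintype.card F) : ℝ) : ℂ)) := by
  classical
  set q := Fintype.card F with hq
  have hconst : ∀ y : Fin (m + 3) → F, y ∉ plane → kq π v (e 0) y = kq π v (e 0) (e 2) := fun y hy => by
    obtain ⟨r, hr, hk, -, -, -⟩ := kq_third h.uni hv hy
    simpa using hk.symm
  have hs := congrArg (fun x => ⟪x, v⟫_ℂ) (sum_point h hv)
  simp only [sum_inner, inner_zero_left] at hs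
  set A₂ := (Finset.univ.filter fun a : Fin (m + 3) → F => a ∈ (plane : Submodule F (Fin (m + 3) → F)))
  set A₁ := (Finset.univ.filter fun a : Fin (m + 3) → F => a ∈ Submodule.span F {(e 0 : Fin (m + 3) → F)})
  have h12 : A₁ ⊆ A₂ := fun a ha => by
    simp only [A₁, A₂, Finset.mem_filter, Finset.mem_univ, true_and] at ha ⊢
    exact Submodule.span_mono (by simp) ha
  rw [← Finset.sum_sdiff (Finset.subset_univ A₂), ← Finset.sum_sdiff h12,
    Finset.sum_eq_card_nsmul (s := Finset.univ \ A₂) (b := kq π v (e 0) (e 2)),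
    Finset.sum_eq_card_nsmul (s := A₂ \ A₁) (b := (1 : ℂ)), Finset.sum_eq_zero (s := A₁)] at hs
  · have hc1 : A₁.card = q := card_span_one fun h0 => by simpa using congrFun h0 0
    have hc2 : A₂.card = q ^ 2 := card_span_two (li_ee ne01)
    have hq1 : 1 < q := Fintype.one_lt_card
    rw [Finset.card_sdiff_of_subset h12, Finset.card_sdiff_of_subset (Finset.subset_univ _), hc1, hc2,
      Finset.card_univ, Fintype.card_fun, Fintype.card_fin, ← hq, nsmul_eq_mul, nsmul_eq_mul, add_zero, mul_one,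
      Nat.cast_sub (Nat.pow_le_pow_right (show 0 < q by omega) (show 2 ≤ m + 3 by omega)),
      Nat.cast_sub (show q ≤ q ^ 2 by nlinarith), Nat.cast_pow,
      Nat.cast_pow] at hs
    intro y hy
    rw [hconst y hy]
    have hne : (q : ℝ) ^ (m + 2) - q ≠ 0 := by
      have h2 : (2 : ℝ) ≤ q := by exact_mod_cast hq1
      have : (q : ℝ) ^ 2 ≤ (q : ℝ) ^ (m + 2) := pow_le_pow_right₀ (by linarith) (by omega)
      nlinarith
    have hne' : (q : ℂ) ^ (m + 2) - q ≠ 0 := by exact_mod_cast hne
    have hq0 : (q : ℂ) ≠ 0 := Nat.cast_ne_zero.2 (by omega)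
    push_cast
    rw [eq_div_iff hne']
    refine mul_left_cancel₀ hq0 ?_
    linear_combination hs
  · intro a ha
    show kq π v (e 0) a = 0
    rw [kq_not_li]
    exact fun hli => (li_pair_iff.1 hli).2 (Finset.mem_filter.1 ha).2
  · intro a ha
    obtain ⟨h2, h1⟩ := Finset.mem_sdiff.1 ha
    have hli : LinearIndependent F ![(e 0 : Fin (m + 3) → F), a] := li_pair (fun h0 => by simpa using congrFun h0 0)
      fun hm => h1 (Finset.mem_filter.2 ⟨Finset.mem_univ _, hm⟩)
    show kq π v (e 0) a = 1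
    rw [kq, eq_of_plane h hv (li_ee ne01) hli (Finset.mem_filter.1 h2).2, fam_base hv, inner_self_eq_norm_sq_to_K,
      hv.norm_eq]
    simp
  · intro a ha
    exact hconst a fun hm => (Finset.mem_sdiff.1 ha).2 (Finset.mem_filter.2 ⟨Finset.mem_univ _, hm⟩)

/-- The relation along a line whose first point is `p`. -/
theorem line_rel {p r : Fin (m + 3) → F} (hpr : LinearIndependent F ![p, r]) {α β : ℂ}
    (hsum : ⟪lineSum π v p r, v⟫_ℂ = 0)
    (hα : ∀ a, a ∈ Submodule.span F {p} → a ≠ 0 → kq π v a r = α)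
    (hβ : ∀ a, a ∈ Submodule.span F {p, r} → a ∉ Submodule.span F {p} → kq π v a p = β) :
    α + (Fintype.card F : ℂ) * β = 0 := by
  classical
  set q := Fintype.card F with hq
  have hq1 : 1 < q := Fintype.one_lt_card
  rw [lineSum, sum_inner] at hsum
  set A₂ := (Finset.univ.filter fun a : Fin (m + 3) → F => a ∈ Submodule.span F {p, r})
  set A₁ := (Finset.univ.filter fun a : Fin (m + 3) → F => a ∈ Submodule.span F {p})
  have h12 : A₁ ⊆ A₂ := fun a ha => by
    simp only [A₁, A₂, Finset.mem_filter, Finset.mem_univ, true_and] at ha ⊢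
    exact Submodule.span_mono (by simp) ha
  rw [show (Finset.univ.filter fun a : Fin (m + 3) → F => a ∈ Submodule.span F {p, r} ∧ a ≠ 0)
      = A₁.erase 0 ∪ (A₂ \ A₁) by
    ext a
    by_cases h1 : a ∈ A₁
    · have h2 := h12 h1
      simp only [A₁, A₂, Finset.mem_filter, Finset.mem_univ, true_and] at h1 h2
      simp [A₁, A₂, h1, h2]
    · have h0 : a ≠ 0 := fun h0 => h1 (by simp [A₁, h0])
      simp only [A₁, Finset.mem_filter, Finset.mem_univ, true_and] at h1
      simp [A₁, A₂, h1, h0],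
    Finset.sum_union (Finset.disjoint_left.2 fun a ha ha' => (Finset.mem_sdiff.1 ha').2 (Finset.mem_of_mem_erase ha)),
    Finset.sum_eq_card_nsmul (s := A₁.erase 0) (b := α), Finset.sum_eq_card_nsmul (s := A₂ \ A₁) (b := β)] at hsum
  · rw [Finset.card_erase_of_mem (show (0 : Fin (m + 3) → F) ∈ A₁ by simp [A₁]), Finset.card_sdiff_of_subset h12,
      card_span_one (li_pair_iff.1 hpr).1, card_span_two hpr, ← hq, nsmul_eq_mul, nsmul_eq_mul,
      Nat.cast_sub hq1.le, Nat.cast_sub (by nlinarith), Nat.cast_pow, Nat.cast_one] at hsum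
    have hq0 : (q : ℂ) - 1 ≠ 0 := sub_ne_zero.2 fun h1 => by
      have : q = 1 := by exact_mod_cast h1
      omega
    refine mul_left_cancel₀ hq0 ?_
    linear_combination hsum
  · intro a ha
    obtain ⟨h2, h1⟩ := Finset.mem_sdiff.1 ha
    have hm : a ∉ Submodule.span F {p} := fun hm => h1 (Finset.mem_filter.2 ⟨Finset.mem_univ _, hm⟩)
    rw [show cmpl p r a = p by simp [cmpl, hm]]
    exact hβ a (Finset.mem_filter.1 h2).2 hm
  · intro a ha
    obtain ⟨h0, h1⟩ := Finset.mem_erase.1 ha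
    rw [show cmpl p r a = r by simp [cmpl, (Finset.mem_filter.1 h1).2]]
    exact hα a (Finset.mem_filter.1 h1).2 h0

theorem span_pair_move (g : SLn (m + 3) F) {p r p' r' : Fin (m + 3) → F} (h0 : g • p = p') (h1 : g • r = r')
    (a : Fin (m + 3) → F) : a ∈ Submodule.span F {p, r} ↔ g • a ∈ Submodule.span F {p', r'} := by
  subst h0 h1
  simp only [Submodule.mem_span_pair]
  constructor
  · rintro ⟨s, t, rfl⟩
    exact ⟨s, t, by rw [sl_smul_add, sl_smul_smul, sl_smul_smul]⟩
  · rintro ⟨s, t, hst⟩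
    exact ⟨s, t, sl_injective g (by simpa [sl_smul_add, sl_smul_smul] using hst)⟩

/-- The values used in the frame inequality for trivial characters. -/
theorem frame_triv (h : Ctx π ψ C) (hv : IsFlag π C v (fun _ => 1) (fun _ => 1)) (c d : ℝ)
    (hc : kq π v (e 1) (e 0) = (c : ℂ)) (hd : kq π v (e 2) (e 1) = (d : ℂ)) :
    ((Fintype.card F : ℝ) ^ (m + 3) - 1) * ((Fintype.card F : ℝ) ^ (m + 3) - Fintype.card F) ≤
      finrank ℂ C * (((Fintype.card F : ℝ) ^ 2 - Fintype.card F) *
          (1 - -((Fintype.card F : ℝ) - 1) / ((Fintype.card F : ℝ) ^ (m + 2) - Fintype.card F))) *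
        (((Fintype.card F : ℝ) - 1) * (2 + ((Fintype.card F : ℝ) - 1) * c) +
          ((Fintype.card F : ℝ) ^ (m + 1) - 1) *
            (1 + ((Fintype.card F : ℝ) - 1) * (-((Fintype.card F : ℝ) - 1) / ((Fintype.card F : ℝ) ^ (m + 2) - Fintype.card F))
              + ((Fintype.card F : ℝ) ^ 2 - Fintype.card F) * d)) := by
  refine frame h hv _ c d ?_ (b_value h hv) ?_ ?_
  · have h2 : (2 : ℝ) ≤ Fintype.card F := by exact_mod_cast Fintype.one_lt_card (α := F)
    have h3 : (Fintype.card F : ℝ) ^ 2 ≤ (Fintype.card F : ℝ) ^ (m + 2) := pow_le_pow_right₀ (by linarith) (by omega)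
    exact div_nonpos_of_nonpos_of_nonneg (by linarith) (by nlinarith)
  · intro a y ha hy ha0 hli
    rw [(kq_plane h.uni hv ha hy hli ha0).2 (fun _ _ => rfl) (fun _ _ => rfl), hc]
  · intro x hx s t hs
    obtain ⟨r, hr, hk⟩ := kq_generic h.uni hv (t := t) hx hs
    simp only [map_one, one_mul] at hk
    rw [← hk, hd]

set_option maxHeartbeats 1000000 in
theorem no_flag_fixed (h : Ctx π ψ C) (hv : IsFlag π C v (fun _ => 1) (fun _ => 1))
    (hline : ∀ g : SLn (m + 3) F, (∀ a, a ∈ plane ↔ g • a ∈ (plane : Submodule F (Fin (m + 3) → F))) → π g v = v) :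
    False := by
  classical
  set q := Fintype.card F with hq
  set Q : ℝ := (q : ℝ) with hQ
  have hQ2 : (2 : ℝ) ≤ Q := by rw [hQ]; exact_mod_cast Fintype.one_lt_card (α := F)
  have hswap : ∀ {g : SLn (m + 3) F} {α β : F}, α ≠ 0 → β ≠ 0 → g • (e 0 : Fin (m + 3) → F) = α • e 1 →
      g • (e 1 : Fin (m + 3) → F) = β • e 0 → π g v = v := by
    intro g α β hα hβ g0 g1
    refine hline g fun a => ⟨fun ha => ?_, fun ha => ?_⟩
    · obtain ⟨s, t, rfl⟩ := Submodule.mem_span_pair.1 ha
      rw [sl_smul_add, sl_smul_smul, sl_smul_smul, g0, g1]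
      exact Submodule.add_mem _ (Submodule.smul_mem _ _ (Submodule.smul_mem _ _ e1_plane))
        (Submodule.smul_mem _ _ (Submodule.smul_mem _ _ e0_plane))
    · obtain ⟨s, t, hst⟩ := Submodule.mem_span_pair.1 ha
      refine Submodule.mem_span_pair.2 ⟨t / α, s / β, sl_injective g ?_⟩
      show g • ((t / α) • (e 0 : Fin (m + 3) → F) + (s / β) • e 1) = g • a
      rw [sl_smul_add, sl_smul_smul, sl_smul_smul, g0, g1, smul_smul, smul_smul, div_mul_cancel₀ _ hα,
        div_mul_cancel₀ _ hβ, ← hst]; exact add_comm _ _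
  obtain ⟨g, r, hr, g0, g1, g2⟩ := exists_move3 (li_triple (li_ee ne01.symm) (z := (e 2 : Fin (m + 3) → F))
    (fun hm => e2_notMem_plane (by rwa [Set.pair_comm] at hm)))
  have hg : π g v = v := hswap one_ne_zero one_ne_zero (by rw [g0, one_smul]) (by rw [g1, one_smul])
  have hc1 : kq π v (e 1) (e 0) = ((1 : ℝ) : ℂ) := by
    rw [← kq_base hv (π := π) (v := v) |>.trans Complex.ofReal_one.symm, kq_of_fix h.uni hv hg (li_ee ne01), g0, g1]
  set b : ℝ := -(Q - 1) / (Q ^ (m + 2) - Q) with hbdef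
  have hd1 : kq π v (e 2) (e 1) = (b : ℂ) := by
    have h12 : fam π v (e 2 : Fin (m + 3) → F) (e 1) = fam π v (e 1) (e 2) := by
      obtain ⟨k, k0, k1, hk⟩ := fam_exists hv (li_ee (F := F) (ne12 (m := m)))
      rw [hk, fam_eq hv (g := k * g) (t := 0) (by rw [mul_smul, g0, k1]) (by rw [mul_smul, g1, k0]; simp), rho_mul, hg]
    rw [kq, h12, ← kq, hbdef, hQ, ← b_value h hv _ e2_notMem_plane, kq_of_fix h.uni hv hg (li_ee ne02), g0, g2]
    have := kq_scale hv one_ne_zero hr (li_ee (F := F) (ne12 (m := m)))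
    rw [one_smul] at this
    simpa using this.symm
  have hfr := frame_triv h hv 1 b hc1 hd1
  have hN := real_bound h hv
  rw [← hq, ← hQ, ← hbdef] at hfr
  rw [← hq, ← hQ] at hN
  rcases Nat.eq_zero_or_pos m with hm | hm
  · -- in dimension three the projection of a vector would have negative length
    subst hm
    let _ := Fintype.ofFinite (Perp (e 2 : Fin (0 + 3) → F))
    obtain ⟨hP, hPx⟩ := avg_facts h.uni h.inv hv (a := (e 2 : Fin (0 + 3) → F))
    set P := ∑ f : Perp (e 2 : Fin (0 + 3) → F), π (tv _ _ (mem_perp.1 f.2)) v with hPdef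
    let k : F × F → ℂ := fun p => if p = 0 then 1 else (b : ℂ)
    have hk : ∀ f : Perp (e 2 : Fin (0 + 3) → F), ⟪π (tv _ _ (mem_perp.1 f.2)) v, v⟫_ℂ = k (coordHom _ f) := by
      intro f
      rw [tv_fam hv]
      show kq π v _ _ = k ((f : Fin (0 + 3) → F) ⬝ᵥ e 0, (f : Fin (0 + 3) → F) ⬝ᵥ e 1)
      by_cases h0 : (f : Fin (0 + 3) → F) ⬝ᵥ e 0 = 0
      · by_cases h1 : (f : Fin (0 + 3) → F) ⬝ᵥ e 1 = 0
        · rw [h0, h1]
          simp [k, kq_base hv]
        · rw [h0]
          simp only [k, zero_smul, add_zero, Prod.mk_eq_zero, h1, and_false, if_false]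
          rw [hbdef, hQ]
          refine b_value h hv _ fun hm => e2_notMem_plane (F := F) (m := 0) ?_
          have h2 := Submodule.smul_mem _ ((f : Fin (0 + 3) → F) ⬝ᵥ e 1)⁻¹ (Submodule.sub_mem _ hm e1_plane)
          rwa [add_sub_cancel_left, inv_smul_smul₀ h1] at h2
      · simp only [k, Prod.mk_eq_zero, h0, false_and, if_false]
        obtain ⟨r', hr', hk'⟩ := kq_generic h.uni hv (t := (f : Fin (0 + 3) → F) ⬝ᵥ e 1) e2_notMem_plane h0
        simp only [map_one, one_mul] at hk'
        rw [← hk', hd1]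
    have hsum := sum_comp_surj (coordHom (e 2 : Fin (0 + 3) → F)) (coordHom_surj e2_notMem_plane) k
    rw [nsmul_eq_mul, nsmul_eq_mul, Fintype.card_prod] at hsum
    have hks : ∑ p : F × F, k p = ((1 + (Q ^ 2 - 1) * b : ℝ) : ℂ) := by
      rw [← Finset.add_sum_erase _ _ (Finset.mem_univ (0 : F × F)), show k 0 = 1 from if_pos rfl,
        Finset.sum_congr rfl (g := fun _ => (b : ℂ)) fun p hp => if_neg (Finset.ne_of_mem_erase hp), Finset.sum_const,
        nsmul_eq_mul, Finset.card_erase_of_mem (Finset.mem_univ _), Finset.card_univ, Fintype.card_prod,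
        Nat.cast_sub (Nat.mul_pos Fintype.card_pos Fintype.card_pos), hQ, hq]
      push_cast
      ring
    have hsum' : ∑ f, k (coordHom (e 2 : Fin (0 + 3) → F) f) = ⟪P, v⟫_ℂ := by
      rw [hPdef, sum_inner]
      exact Finset.sum_congr rfl fun f _ => (hk f).symm
    rw [hsum', hks] at hsum
    have hnn : 0 ≤ RCLike.re ⟪P, P⟫_ℂ := inner_self_nonneg
    rw [hPx P hP] at hnn
    have hpos : (0 : ℝ) < Fintype.card (Perp (e 2 : Fin (0 + 3) → F)) := by exact_mod_cast Fintype.card_pos
    have hre := congrArg Complex.re hsum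
    simp only [RCLike.re_to_complex, Complex.mul_re, Complex.natCast_re, Complex.natCast_im, zero_mul, sub_zero,
      Complex.ofReal_re] at hnn hre
    have h1 : 0 ≤ (⟪P, v⟫_ℂ).re := nonneg_of_mul_nonneg_right hnn hpos
    have h2 : 0 ≤ (1 + (Q ^ 2 - 1) * b) := nonneg_of_mul_nonneg_right
      (hre ▸ mul_nonneg (Nat.cast_nonneg _) h1) hpos
    have hb : b = -1 / Q := by
      rw [hbdef, show Q ^ (0 + 2) - Q = Q * (Q - 1) by ring, div_eq_div_iff (mul_ne_zero (by linarith) (by linarith)) (by linarith)]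
      ring
    rw [hb] at h2
    have h3 : Q - (Q ^ 2 - 1) < 0 := by nlinarith
    have h4 : (1 + (Q ^ 2 - 1) * (-1 / Q)) = (Q - (Q ^ 2 - 1)) / Q := by field_simp; ring
    rw [h4] at h2
    exact absurd h2 (not_le.2 (div_neg_of_neg_of_pos h3 (by linarith)))
  · set X : ℝ := Q ^ (m + 1) with hX
    have e3 : Q ^ (m + 3) = Q ^ 2 * X := by rw [hX]; ring
    have e2' : Q ^ (m + 2) = Q * X := by rw [hX]; ring
    have hXge : Q ^ 2 ≤ X := pow_le_pow_right₀ (by linarith) (by omega)
    rw [e3] at hfr hN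
    rw [e2'] at hbdef
    have hne : Q * X - Q ≠ 0 := by nlinarith
    have hpos : 0 < Q * X - Q := by nlinarith
    have hR : (Q ^ 2 - Q) * (1 - b) = (Q - 1) * (Q * X - 1) * Q / (Q * X - Q) := by
      have hX1 : X - 1 ≠ 0 := by nlinarith
      rw [hbdef, show Q * X - Q = Q * (X - 1) by ring]; field_simp; ring
    have hS : (Q - 1) * (2 + (Q - 1) * 1) + (X - 1) * (1 + (Q - 1) * b + (Q ^ 2 - Q) * b)
        = (Q ^ 2 - 1) / Q + (X - 1) := by
      have hX1 : X - 1 ≠ 0 := by nlinarith
      rw [hbdef, show Q * X - Q = Q * (X - 1) by ring]; field_simp; ring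
    rw [hR, hS] at hfr
    set N : ℝ := (finrank ℂ C : ℝ)
    have key : N * ((Q - 1) * (Q * X - 1) * Q / (Q * X - Q)) * ((Q ^ 2 - 1) / Q + (X - 1))
        = (N * (Q - 1)) * ((Q * X - 1) * (Q ^ 2 - 1 + Q * (X - 1))) / (Q * X - Q) := by
      field_simp
    rw [key, le_div_iff₀ hpos] at hfr
    have hB : Q ^ 2 - 1 + Q * (X - 1) ≤ Q * (Q * X - Q) := by nlinarith
    have hA1 : 0 ≤ Q * X - 1 := by nlinarith
    have hNQ : N * (Q - 1) ≤ Q ^ 2 * X - Q := by linarith
    have h1 : (N * (Q - 1)) * ((Q * X - 1) * (Q ^ 2 - 1 + Q * (X - 1)))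
        ≤ (Q ^ 2 * X - Q) * ((Q * X - 1) * (Q * (Q * X - Q))) :=
      mul_le_mul hNQ (mul_le_mul_of_nonneg_left hB hA1) (mul_nonneg hA1 (by nlinarith)) (by nlinarith)
    have h2 : (Q ^ 2 * X - 1) * (Q ^ 2 * X - Q) * (Q * X - Q) ≤ (Q ^ 2 * X - Q) * ((Q * X - 1) * (Q * (Q * X - Q))) :=
      hfr.trans h1
    have hp1 : 0 < (Q ^ 2 * X - Q) * (Q * X - Q) := mul_pos (by nlinarith) hpos
    have h3 : Q ^ 2 * X - 1 ≤ (Q * X - 1) * Q := le_of_mul_le_mul_right (by linarith) hp1
    nlinarith

set_option maxHeartbeats 1000000 in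
theorem no_flag_triv (h : Ctx π ψ C) (hv : IsFlag π C v (fun _ => 1) (fun _ => 1)) : False := by
  classical
  set U := lineSum π v (e 0 : Fin (m + 3) → F) (e 1) with hU
  by_cases hU0 : U = 0
  · set q := Fintype.card F with hq
    set Q : ℝ := (q : ℝ) with hQ
    have hQ2 : (2 : ℝ) ≤ Q := by rw [hQ]; exact_mod_cast Fintype.one_lt_card (α := F)
    have hline : ∀ p r : Fin (m + 3) → F, LinearIndependent F ![p, r] → ⟪lineSum π v p r, v⟫_ℂ = 0 := by
      intro p r hpr
      obtain ⟨g, g0, g1⟩ := exists_move2 hpr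
      rw [← lineSum_move h hv (li_ee ne01) hpr g (span_pair_move g g0 g1), ← hU, hU0, map_zero, inner_zero_left]
    have hone : ∀ a : Fin (m + 3) → F, a ∈ Submodule.span F {(e 0 : Fin (m + 3) → F)} → a ≠ 0 →
        ∀ y, LinearIndependent F ![(e 0 : Fin (m + 3) → F), y] → kq π v a y = kq π v (e 0) y := by
      intro a ha ha0 y hy
      obtain ⟨s, rfl⟩ := Submodule.mem_span_singleton.1 ha
      have := kq_scale hv (show s ≠ 0 from fun h0 => ha0 (by rw [h0, zero_smul])) one_ne_zero hy
      rw [one_smul] at this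
      simpa using this
    -- the line through the first two vectors
    have rel1 := line_rel (π := π) (v := v) (li_ee (F := F) (ne01 (m := m))) (α := 1) (β := kq π v (e 1) (e 0))
      (hline _ _ (li_ee ne01)) (fun a ha ha0 => by rw [hone a ha ha0 _ (li_ee ne01), kq_base hv])
      fun a ha ha0 => by
        refine (kq_plane h.uni hv ha e0_plane (li_pair (fun h0 => ha0 (by rw [h0]; exact Submodule.zero_mem _)) ?_)
          ha0).2 (fun _ _ => rfl) (fun _ _ => rfl)
        intro hm
        obtain ⟨s, hs⟩ := Submodule.mem_span_singleton.1 hm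
        rcases eq_or_ne s 0 with h0 | h0
        · subst h0
          simpa using congrFun hs 0
        · exact ha0 (Submodule.mem_span_singleton.2 ⟨s⁻¹, by rw [← hs, inv_smul_smul₀ h0]⟩)
    -- the line through the first and third
    set b : ℝ := -(Q - 1) / (Q ^ (m + 2) - Q) with hbdef
    have hoff : ∀ {a : Fin (m + 3) → F}, a ∈ Submodule.span F {(e 0 : Fin (m + 3) → F), e 2} →
        a ∉ Submodule.span F {(e 0 : Fin (m + 3) → F)} → a ∉ plane := by
      intro a ha ha0 hm
      obtain ⟨s, t, rfl⟩ := Submodule.mem_span_pair.1 ha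
      obtain ⟨s', t', hst⟩ := Submodule.mem_span_pair.1 hm
      have := congrFun hst 2
      simp [ne02, ne02.symm, ne12, ne12.symm] at this
      exact ha0 (Submodule.mem_span_singleton.2 ⟨s, by simp [← this]⟩)
    have rel2 := line_rel (π := π) (v := v) (li_ee (F := F) (ne02 (m := m))) (α := (b : ℂ))
      (β := kq π v (e 2) (e 0)) (hline _ _ (li_ee ne02))
      (fun a ha ha0 => by rw [hone a ha ha0 _ (li_ee ne02), b_value h hv _ e2_notMem_plane])
      fun a ha ha0 => by
        obtain ⟨r, hr, -, -, hk, -⟩ := kq_third h.uni hv (hoff ha ha0)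
        simpa using hk.symm
    -- the line through the second and third
    have hd12 : kq π v (e 1) (e 2) = conj (kq π v (e 2) (e 0)) := by
      obtain ⟨g, r, hr, g0, g1, g2⟩ := exists_move3 (li_triple (li_ee (F := F) (ne12 (m := m)))
        (z := (e 0 : Fin (m + 3) → F)) fun hm => by
          obtain ⟨s, t, hst⟩ := Submodule.mem_span_pair.1 hm
          simpa [ne01, ne02, ne01.symm, ne02.symm] using congrFun hst 0)
      have hfam : fam π v (e 1 : Fin (m + 3) → F) (e 2) = π g v := fam_eq hv (t := 0) g0 (by rw [g1]; simp)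
      have hinv0 : g⁻¹ • (e 0 : Fin (m + 3) → F) = r⁻¹ • e 2 := by
        rw [inv_smul_eq_iff, sl_smul_smul, g2, inv_smul_smul₀ hr]
      have hinv1 : g⁻¹ • (e 1 : Fin (m + 3) → F) = e 0 := by rw [inv_smul_eq_iff, g0]
      have hfam' : fam π v (r⁻¹ • e 2 : Fin (m + 3) → F) (e 0) = π g⁻¹ v :=
        fam_eq hv (t := 0) hinv0 (by rw [hinv1]; simp)
      rw [kq, kq, hfam, inner_conj_symm]
      have hsc := fam_scale hv (inv_ne_zero hr) one_ne_zero (li_ee (F := F) (ne02 (m := m)).symm)
      rw [one_smul, one_mul, one_smul, hfam'] at hsc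
      rw [← hsc, ← h.uni g v (π g⁻¹ v), ← rho_mul, mul_inv_cancel, map_one, Module.End.one_apply]
    have rel3 := line_rel (π := π) (v := v) (li_ee (F := F) (ne12 (m := m))) (α := conj (kq π v (e 2) (e 0)))
      (β := kq π v (e 2) (e 1)) (hline _ _ (li_ee ne12))
      (fun a ha ha0 => by
        obtain ⟨s, rfl⟩ := Submodule.mem_span_singleton.1 ha
        have := kq_scale hv (show s ≠ 0 from fun h0 => ha0 (by rw [h0, zero_smul])) one_ne_zero (li_ee (F := F) (ne12 (m := m)))
        rw [one_smul] at this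
        rw [this, hd12]
        simp)
      fun a ha ha0 => by
        have hap : a ∉ plane := fun hm => by
          obtain ⟨s, t, rfl⟩ := Submodule.mem_span_pair.1 ha
          obtain ⟨s', t', hst⟩ := Submodule.mem_span_pair.1 hm
          have := congrFun hst 2
          simp [ne02, ne02.symm, ne12, ne12.symm] at this
          exact ha0 (Submodule.mem_span_singleton.2 ⟨s, by simp [← this]⟩)
        obtain ⟨r, hr, -, -, -, hk⟩ := kq_third h.uni hv hap
        simpa using hk.symm
    rw [← hq] at rel1 rel2 rel3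
    have hQ0 : (q : ℂ) ≠ 0 := Nat.cast_ne_zero.2 Fintype.card_ne_zero
    have hc : kq π v (e 1) (e 0) = ((-1 / Q : ℝ) : ℂ) := by
      rw [hQ]; push_cast; field_simp; linear_combination rel1
    have hd20 : kq π v (e 2) (e 0) = ((-b / Q : ℝ) : ℂ) := by
      rw [hQ]; push_cast; field_simp; linear_combination rel2
    have hd21 : kq π v (e 2) (e 1) = ((b / Q ^ 2 : ℝ) : ℂ) := by
      rw [hd20, Complex.conj_ofReal, hQ] at rel3
      rw [hQ]
      push_cast at rel3 ⊢
      field_simp at rel3 ⊢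
      linear_combination rel3
    have hfr := frame_triv h hv _ _ hc hd21
    have hN := real_bound h hv
    rw [← hq, ← hQ, ← hbdef] at hfr
    rw [← hq, ← hQ] at hN
    set X : ℝ := Q ^ (m + 1) with hX
    have e3 : Q ^ (m + 3) = Q ^ 2 * X := by rw [hX]; ring
    have e2' : Q ^ (m + 2) = Q * X := by rw [hX]; ring
    have hXge : Q ≤ X := by
      calc Q = Q ^ 1 := (pow_one Q).symm
        _ ≤ X := pow_le_pow_right₀ (by linarith) (by omega)
    rw [e3] at hfr hN
    rw [e2'] at hbdef
    have hne : Q * X - Q ≠ 0 := by nlinarith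
    have hpos : 0 < Q * X - Q := by nlinarith
    have hR : (Q ^ 2 - Q) * (1 - b) = (Q - 1) * (Q * X - 1) * Q / (Q * X - Q) := by
      have hX1 : X - 1 ≠ 0 := by nlinarith
      rw [hbdef, show Q * X - Q = Q * (X - 1) by ring]; field_simp; ring
    have hS : (Q - 1) * (2 + (Q - 1) * (-1 / Q)) + (X - 1) * (1 + (Q - 1) * b + (Q ^ 2 - Q) * (b / Q ^ 2))
        = (Q ^ 2 * X - 1) / Q ^ 2 := by
      have hX1 : X - 1 ≠ 0 := by nlinarith
      rw [hbdef, show Q * X - Q = Q * (X - 1) by ring]; field_simp; ring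
    rw [hR, hS] at hfr
    set N : ℝ := (finrank ℂ C : ℝ)
    have key : N * ((Q - 1) * (Q * X - 1) * Q / (Q * X - Q)) * ((Q ^ 2 * X - 1) / Q ^ 2)
        = (N * (Q - 1)) * ((Q * X - 1) * (Q ^ 2 * X - 1)) / (Q * (Q * X - Q)) := by
      field_simp
    rw [key, le_div_iff₀ (by nlinarith)] at hfr
    have hA1 : 0 < (Q * X - 1) * (Q ^ 2 * X - 1) := mul_pos (by nlinarith) (by nlinarith)
    have hNQ : N * (Q - 1) ≤ Q ^ 2 * X - Q := by linarith
    have h1 := hfr.trans (mul_le_mul_of_nonneg_right hNQ hA1.le)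
    have hp1 : 0 < (Q ^ 2 * X - Q) * (Q ^ 2 * X - 1) := mul_pos (by nlinarith) (by nlinarith)
    have h3 : Q * (Q * X - Q) ≤ Q * X - 1 := le_of_mul_le_mul_right (by linarith) hp1
    nlinarith
  · set w := (‖U‖⁻¹ : ℂ) • U with hw
    have hUC : U ∈ C := C.sum_mem fun a _ => fam_mem h.inv hv _ _
    have hfix : ∀ g : SLn (m + 3) F, (∀ a, a ∈ plane ↔ g • a ∈ (plane : Submodule F (Fin (m + 3) → F))) →
        π g w = w := fun g hg => by
      rw [hw, map_smul, lineSum_move h hv (li_ee ne01) (li_ee ne01) g hg]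
    refine no_flag_fixed h (v := w) ⟨C.smul_mem _ hUC, ?_, rfl, fun g x y t g0 g1 => ?_⟩ hfix
    · rw [hw, norm_smul, norm_inv, Complex.norm_real, norm_norm, inv_mul_cancel₀ (norm_ne_zero_iff.2 hU0)]
    · rw [one_mul, one_smul]
      have hli := li_move g (li_ee (F := F) (ne01 (m := m)))
      rw [g0, g1] at hli
      have hx : x ≠ 0 := fun h0 => hli.ne_zero 0 (by simp [h0])
      have hy : y ≠ 0 := fun h0 => (li_pair_iff.1 hli).2 (Submodule.mem_span_singleton.2 ⟨t / x, by
        rw [h0, zero_smul, zero_add, smul_smul, div_mul_cancel₀ _ hx]⟩)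
      refine hfix g fun a => ⟨fun ha => ?_, fun ha => ?_⟩
      · obtain ⟨p, r, rfl⟩ := Submodule.mem_span_pair.1 ha
        rw [sl_smul_add, sl_smul_smul, sl_smul_smul, g0, g1]
        exact Submodule.add_mem _ (Submodule.smul_mem _ _ (Submodule.smul_mem _ _ e0_plane))
          (Submodule.smul_mem _ _ (Submodule.add_mem _ (Submodule.smul_mem _ _ e1_plane) (Submodule.smul_mem _ _ e0_plane)))
      · obtain ⟨p, r, hpr⟩ := Submodule.mem_span_pair.1 ha
        refine Submodule.mem_span_pair.2 ⟨(p - r / y * t) / x, r / y, sl_injective g ?_⟩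
        show g • (((p - r / y * t) / x) • (e 0 : Fin (m + 3) → F) + (r / y) • e 1) = g • a
        rw [sl_smul_add, sl_smul_smul, sl_smul_smul, g0, g1, ← hpr]
        match_scalars <;> field_simp <;> ring

end Cfsg.Agent.SLDeg
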