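import Cfsg.Agent.SLDeg.Eigs

/-!
Multiplicities of the nontrivial characters of the transvection groups.
-/

set_option autoImplicit false
set_option linter.unusedSectionVars false

namespace Cfsg.Agent.SLDeg

open Matrix Module SUDeg
open scoped InnerProductSpace

variable {m : ℕ} {F : Type*} [Field F] [Finite F]
variable {E : Type*} [NormedAddCommGroup E] [InnerProductSpace ℂ E] [FiniteDimensional ℂ E]
variable {π : Representation ℂ (SLn (m + 3) F) E} {ψ : AddChar F ℂ} {C : Submodule ℂ E}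

theorem chr_nontrivial (hψ : ψ ≠ 1) {a : Fin (m + 3) → F} (ha : a ≠ 0) {χ : AddChar (Perp a) ℂ} (hχ : χ ≠ 1) :
    ∃ w, LinearIndependent F ![a, w] ∧ χ = chr ψ a w := by
  obtain ⟨w, hw⟩ := char_repr_sub hψ (Perp a) χ
  refine ⟨w, li_pair ha fun hmem => hχ (DFunLike.ext _ _ fun x => ?_), DFunLike.ext _ _ hw⟩
  obtain ⟨c, rfl⟩ := Submodule.mem_span_singleton.1 hmem
  rw [hw, dotProduct_smul, mem_perp.1 x.2, smul_zero, AddChar.map_zero_eq_one, AddChar.one_apply]

theorem chr_ne_one (hψ : ψ ≠ 1) {a w : Fin (m + 3) → F} (h : LinearIndependent F ![a, w]) : chr ψ a w ≠ 1 := by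
  intro h1
  refine (li_pair_iff.1 h).2 ?_
  have := char_eq_imp hψ (a := a) (w := w) (w' := 0) fun x hx => by
    rw [dotProduct_zero, AddChar.map_zero_eq_one]
    have := DFunLike.congr_fun h1 ⟨x, hx⟩
    rwa [chr_apply, AddChar.one_apply] at this
  rwa [sub_zero] at this

theorem finrank_colEig_eq (hC : Inv π C) {f φ f' φ' : Fin (m + 3) → F} (h : LinearIndependent F ![f, φ])
    (h' : LinearIndependent F ![f', φ']) : finrank ℂ (colEig π ψ C f φ) = finrank ℂ (colEig π ψ C f' φ') := by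
  refine le_antisymm ?_ ?_
  · obtain ⟨g, h1, h2⟩ := exists_pull h h'
    exact finrank_le_of_move fun v hv => colEig_move hC g h1 h2 hv
  · obtain ⟨g, h1, h2⟩ := exists_pull h' h
    exact finrank_le_of_move fun v hv => colEig_move hC g h1 h2 hv

/-- A vector `(0, 1, c)`. -/
def wRow (c : Fin (m + 1) → F) : Fin (m + 3) → F := Fin.cons 0 (Fin.cons 1 c)

/-- A vector `(1, 0, c)`. -/
def wCol (c : Fin (m + 1) → F) : Fin (m + 3) → F := Fin.cons 1 (Fin.cons 0 c)

theorem act_comm {A W : Type*} [AddCommGroup A] [AddCommGroup W] [Module ℂ W] (φ : AddChar A (Module.End ℂ W))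
    (a b : A) (v : W) : φ a (φ b v) = φ b (φ a v) := by
  rw [← Module.End.mul_apply, ← AddChar.map_add_eq_mul, add_comm a b, AddChar.map_add_eq_mul, Module.End.mul_apply]

theorem rowEig_line (hψ : ψ ≠ 1) (hC : Inv π C) (hg : Good π ψ C) {a w : Fin (m + 3) → F}
    (h : LinearIndependent F ![a, w]) : finrank ℂ (rowEig π ψ C a w) ≤ 1 := by
  classical
  let _ := Fintype.ofFinite F
  have h10 : ∀ t : F, (t • e 1 : Fin (m + 3) → F) ∈ Perp (e 0) := fun t => by
    simp [mem_perp]
  have h01 : ∀ t : F, (t • e 0 : Fin (m + 3) → F) ∈ Perp (e 1) := fun t => by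
    simp [mem_perp]
  have hz : ∀ t : F, (⟨t • e 1, h10 t⟩ : Perp (e 0 : Fin (m + 3) → F)) = t • ⟨e 1, by simpa using h10 1⟩ :=
    fun t => rfl
  let zc : AddChar F (Module.End ℂ E) :=
    { toFun := fun t => rowAct π (e 0) ⟨t • e 1, h10 t⟩
      map_zero_eq_one' := by rw [hz, zero_smul, AddChar.map_zero_eq_one]
      map_add_eq_mul' := fun s t => by rw [hz, hz, hz, add_smul, AddChar.map_add_eq_mul] }
  have hcol : ∀ t : F, zc t = colAct π (e 1) ⟨t • e 0, h01 t⟩ := fun t => by
    show π (tv _ _ _) = π (tv _ _ _)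
    exact congrArg π (tv_smul t (h10 t) (mem_perp'.1 (h01 t)))
  set C' := eig zc C ψ with hC'
  have hC'C : C' ≤ C := fun v hv => (mem_eig.1 hv).1
  have hrow : ∀ x : Perp (e 0 : Fin (m + 3) → F), ∀ v ∈ C', rowAct π (e 0) x v ∈ C' := fun x v hv => by
    refine mem_eig.2 ⟨hC _ v (hC'C hv), fun t => ?_⟩
    show rowAct π (e 0) _ _ = _
    rw [act_comm]
    show rowAct π (e 0) x (zc t v) = _
    rw [(mem_eig.1 hv).2 t, map_smul]
  have hcolinv : ∀ x : Perp (e 1 : Fin (m + 3) → F), ∀ v ∈ C', colAct π (e 1) x v ∈ C' := fun x v hv => by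
    refine mem_eig.2 ⟨hC _ v (hC'C hv), fun t => ?_⟩
    rw [hcol, act_comm, ← hcol, (mem_eig.1 hv).2 t, map_smul]
  have hup : finrank ℂ C' ≤ Fintype.card (Fin (m + 1) → F) := by
    let S := Finset.univ.image fun c : Fin (m + 1) → F => chr ψ (e 1 : Fin (m + 3) → F) (wCol c)
    refine (finrank_le_sum hcolinv S fun χ hχ => ?_).trans ?_
    · by_contra hne
      obtain ⟨v, hv, hv0⟩ := (Submodule.ne_bot_iff _).1 hne
      obtain ⟨w', hw'⟩ := char_repr_sub hψ (Perp (e 1 : Fin (m + 3) → F)) χ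
      have h0 : w' 0 = 1 := by
        by_contra hne'
        obtain ⟨t, ht⟩ := exists_ne_one hψ (sub_ne_zero.2 hne')
        refine ht ?_
        have h1 := (mem_eig.1 hv).2 ⟨t • e 0, h01 t⟩
        rw [← hcol, (mem_eig.1 (mem_eig.1 hv).1).2 t, hw'] at h1
        have h2 := smul_left_injective ℂ hv0 h1
        simp only [smul_dotProduct, single_one_dotProduct, smul_eq_mul] at h2
        rw [mul_sub, mul_one, sub_eq_add_neg, AddChar.map_add_eq_mul, ← h2, ← AddChar.map_add_eq_mul, add_neg_cancel,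
          AddChar.map_zero_eq_one]
      refine hχ (Finset.mem_image.2 ⟨fun i => w' i.succ.succ, Finset.mem_univ _, DFunLike.ext _ _ fun x => ?_⟩)
      rw [chr_apply, hw']
      congr 1
      have hx : (x : Fin (m + 3) → F) (Fin.succ 0) = 0 := by
        have := mem_perp.1 x.2
        rwa [dotProduct_single_one] at this
      simp only [wCol, dotProduct, Fin.sum_univ_succ (n := m + 2), Fin.sum_univ_succ (n := m + 1), Fin.cons_zero,
        Fin.cons_succ, hx, h0, zero_mul, mul_zero]
    · refine (Finset.sum_le_card_nsmul _ _ 1 fun χ hχ => ?_).trans ?_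
      · obtain ⟨c, -, rfl⟩ := Finset.mem_image.1 hχ
        refine le_trans (Submodule.finrank_mono fun v hv => ?_) (hg.line (e 1) (wCol c) ?_)
        · exact mem_eig.2 ⟨hC'C (mem_eig.1 hv).1, (mem_eig.1 hv).2⟩
        · refine li_pair (fun h0 => by simpa using congrFun h0 1) fun hmem => ?_
          obtain ⟨r, hr⟩ := Submodule.mem_span_singleton.1 hmem
          simpa [wCol, Fin.ext_iff, one_val] using congrFun hr 0
      · rw [smul_eq_mul, mul_one]
        exact Finset.card_image_le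
  have hlow : Fintype.card (Fin (m + 1) → F) * finrank ℂ (rowEig π ψ C a w) ≤ finrank ℂ C' := by
    let S := Finset.univ.image fun c : Fin (m + 1) → F => chr ψ (e 0 : Fin (m + 3) → F) (wRow c)
    have hinj : Function.Injective fun c : Fin (m + 1) → F => chr ψ (e 0 : Fin (m + 3) → F) (wRow c) := by
      intro c c' hcc
      have := char_eq_imp hψ (a := (e 0 : Fin (m + 3) → F)) (w := wRow c) (w' := wRow c')
        fun x hx => DFunLike.congr_fun hcc ⟨x, hx⟩
      obtain ⟨r, hr⟩ := Submodule.mem_span_singleton.1 this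
      funext i
      have := congrFun hr i.succ.succ
      simp [wRow, Fin.succ_ne_zero] at this
      linear_combination -this
    have h1 := sum_finrank_le (φ := rowAct π (e 0)) (C := C') S
    refine le_trans ?_ h1
    rw [Finset.sum_image hinj.injOn, ← Finset.card_univ, ← smul_eq_mul]
    refine Finset.card_nsmul_le_sum _ _ _ fun c _ => ?_
    have hli : LinearIndependent F ![(e 0 : Fin (m + 3) → F), wRow c] := by
      refine li_pair (fun h0 => by simpa using congrFun h0 0) fun hmem => ?_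
      obtain ⟨r, hr⟩ := Submodule.mem_span_singleton.1 hmem
      simpa [wRow, Fin.succ_ne_zero] using congrFun hr (Fin.succ 0)
    obtain ⟨g₁, hg1, hg1'⟩ := exists_move2 h
    obtain ⟨g₂, hg2, hg2'⟩ := exists_move2 hli
    refine (finrank_le_of_move (g := g₂ * g₁⁻¹) fun v hv => rowEig_move hC (g₂ * g₁⁻¹)
      (by rw [mul_smul, ← hg1, inv_smul_smul, hg2]) (by rw [mul_smul, ← hg1', inv_smul_smul, hg2']) hv).trans
      (Submodule.finrank_mono fun v hv => ?_)
    obtain ⟨hvC, hv'⟩ := mem_eig.1 hv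
    refine mem_eig.2 ⟨mem_eig.2 ⟨hvC, fun t => ?_⟩, hv'⟩
    show rowAct π (e 0) _ v = _
    rw [hv', chr_apply]
    congr 2
    show (t • (e (Fin.succ 0) : Fin (m + 3) → F)) ⬝ᵥ wRow c = t
    rw [smul_dotProduct, single_one_dotProduct, wRow, Fin.cons_succ, Fin.cons_zero, smul_eq_mul, mul_one]
  have := hlow.trans hup
  nth_rewrite 2 [← mul_one (Fintype.card (Fin (m + 1) → F))] at this
  exact Nat.le_of_mul_le_mul_left this Fintype.card_pos

theorem finrank_le_fixRow (hψ : ψ ≠ 1) (hC : Inv π C) (hg : Good π ψ C) {a : Fin (m + 3) → F} (ha : a ≠ 0) :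
    finrank ℂ C + 1 ≤ Nat.card F ^ (m + 2) + finrank ℂ (fixRow π C a) := by
  classical
  let _ := Fintype.ofFinite F
  have hinv : ∀ x, ∀ v ∈ C, rowAct π a x v ∈ C := fun x v hv => hC _ v hv
  have h1 := finrank_le_sum hinv Finset.univ fun χ hχ => absurd (Finset.mem_univ χ) hχ
  rw [← Finset.add_sum_erase _ _ (Finset.mem_univ 1)] at h1
  have h2 : ∑ χ ∈ Finset.univ.erase (1 : AddChar (Perp a) ℂ), finrank ℂ (eig (rowAct π a) C χ)
      ≤ (Finset.univ.erase (1 : AddChar (Perp a) ℂ)).card := by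
    refine (Finset.sum_le_card_nsmul _ _ 1 fun χ hχ => ?_).trans (by simp)
    obtain ⟨w, hw, rfl⟩ := chr_nontrivial hψ ha (Finset.ne_of_mem_erase hχ)
    exact rowEig_line hψ hC hg hw
  have h3 : (Finset.univ.erase (1 : AddChar (Perp a) ℂ)).card + 1 = Nat.card F ^ (m + 2) := by
    rw [Finset.card_erase_add_one (Finset.mem_univ _), Finset.card_univ, AddChar.card_eq, ← Nat.card_eq_fintype_card,
      card_perp ha]
    rfl
  unfold fixRow
  omega

theorem mult_mul_le (hψ : ψ ≠ 1) (hC : Inv π C) {f φ : Fin (m + 3) → F} (h : LinearIndependent F ![f, φ]) :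
    (Nat.card F ^ (m + 2) - 1) * finrank ℂ (colEig π ψ C f φ) ≤ finrank ℂ C := by
  classical
  have hf := (li_pair_iff.1 h).1
  let _ := Fintype.ofFinite F
  have h1 := sum_finrank_le (φ := colAct π f) (C := C) (Finset.univ.erase 1)
  refine le_trans ?_ h1
  have h3 : (Finset.univ.erase (1 : AddChar (Perp f) ℂ)).card = Nat.card F ^ (m + 2) - 1 := by
    rw [Finset.card_erase_of_mem (Finset.mem_univ _), Finset.card_univ, AddChar.card_eq, ← Nat.card_eq_fintype_card,
      card_perp hf]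
    rfl
  rw [← h3, ← smul_eq_mul]
  refine Finset.card_nsmul_le_sum _ _ _ fun χ hχ => ?_
  obtain ⟨w, hw, rfl⟩ := chr_nontrivial hψ hf (Finset.ne_of_mem_erase hχ)
  exact (finrank_colEig_eq hC h hw).le

end Cfsg.Agent.SLDeg
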