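import Cfsg.Agent.SLDeg.Cases

/-!
The stabiliser of a nonzero vector fixes a vector, by induction on the dimension.
-/

set_option autoImplicit false
set_option linter.unusedSectionVars false

namespace Cfsg.Agent.SLDeg

open Matrix Module SUDeg
open scoped InnerProductSpace ComplexConjugate

variable {m : ℕ} {F : Type*} [Field F] [Fintype F]
variable {E : Type*} [NormedAddCommGroup E] [InnerProductSpace ℂ E] [FiniteDimensional ℂ E]

theorem iota_e0 (g : SLn (m + 2) F) : iota g • (e 0 : Fin (m + 3) → F) = e 0 := by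
  rw [iota_apply]
  funext i
  refine Fin.cases ?_ (fun j => ?_) i
  · simp
  · rw [Fin.cons_succ, show Fin.tail (e 0 : Fin (m + 3) → F) = 0 from
      funext fun k => by simp [Fin.tail, Fin.succ_ne_zero], sl_smul_zero]
    simp [Fin.succ_ne_zero]

theorem cons_dot (x : F) (f' : Fin (m + 2) → F) (a : Fin (m + 3) → F) :
    (Fin.cons x f' : Fin (m + 3) → F) ⬝ᵥ a = x * a 0 + f' ⬝ᵥ Fin.tail a := by
  simp [dotProduct, Fin.sum_univ_succ, Fin.tail]

theorem e0_cons : (e 0 : Fin (m + 3) → F) = Fin.cons 1 0 := by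
  funext i
  refine Fin.cases ?_ (fun j => ?_) i <;> simp [Fin.succ_ne_zero]

theorem e1_cons : (e 1 : Fin (m + 3) → F) = Fin.cons 0 (e 0) := by
  rw [show (1 : Fin (m + 3)) = Fin.succ 0 from rfl]
  funext i
  refine Fin.cases ?_ (fun j => ?_) i
  · simp [(Fin.succ_ne_zero (0 : Fin (m + 2))).symm]
  · rw [Fin.cons_succ]
    simp only [Pi.single_apply, show (1 : Fin (m + 3)) = Fin.succ 0 from rfl, Fin.succ_inj]

section

variable {π : Representation ℂ (SLn (m + 3) F) E} {ψ : AddChar F ℂ} {C : Submodule ℂ E}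

/-- The fixed space of the first centre group is nonzero. -/
theorem fixRow_e0_ne_bot (h : Ctx π ψ C) (hC : C ≠ ⊥) : fixRow π C (e 0 : Fin (m + 3) → F) ≠ ⊥ := by
  classical
  obtain ⟨v, hv, hv0⟩ := (Submodule.ne_bot_iff _).1 hC
  obtain ⟨g₀, hg₀⟩ : ∃ g : SLn (m + 3) F, π g v ≠ v := by
    by_contra hc
    push Not at hc
    exact hv0 (h.noStab v hv fun g _ => hc g)
  obtain ⟨a, f, haf, u, hu, hmv⟩ : ∃ (a f : Fin (m + 3) → F) (haf : f ⬝ᵥ a = 0), ∃ u ∈ C, π (tv a f haf) u ≠ u := by
    by_contra hc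
    push Not at hc
    let θ : SLn (m + 3) F →* Module.End ℂ C :=
      { toFun := fun g => LinearMap.restrict (π g) (h.inv g)
        map_one' := LinearMap.ext fun x => Subtype.ext (by simp [LinearMap.restrict_apply])
        map_mul' := fun g g' => LinearMap.ext fun x => Subtype.ext (by simp [map_mul, LinearMap.restrict_apply]) }
    have ht := hom_trivial θ (fun a f haf => LinearMap.ext fun x => Subtype.ext (hc a f haf x x.2)) g₀
    exact hg₀ (congrArg Subtype.val (LinearMap.congr_fun ht ⟨v, hv⟩))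
  obtain ⟨χ, hχ, hne⟩ := exists_eig_nontrivial (φ := colAct π f) (fun b x hx => h.inv _ x hx) hu
    (a := ⟨a, mem_perp'.2 haf⟩) hmv
  obtain ⟨φ, hfφ, rfl⟩ := chr_nontrivial h.psi (fun h0 => by
    subst h0
    rw [tv_zero_right, map_one, Module.End.one_apply] at hmv
    exact hmv rfl) hχ
  obtain ⟨u₁, hu₁, hu₁0⟩ := (Submodule.ne_bot_iff _).1 hne
  obtain ⟨g, hg1, hg2⟩ := exists_pull hfφ (li_ee (F := F) (ne12 (m := m)))
  refine (Submodule.ne_bot_iff _).2 ⟨π g u₁, ?_, fun h0 => hu₁0 (rho_injective π g (by rw [h0, map_zero]))⟩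
  exact h.good.fixed _ _ _ (li_ee ne12) (by simp [ne01.symm]) (by simp [ne02.symm])
    (colEig_move h.inv g hg1 hg2 hu₁)

variable (π C) in
/-- The vectors fixed by the elements fixing the first vector and the second one modulo the first. -/
def fixS : Submodule ℂ E where
  carrier := {x | x ∈ C ∧ ∀ (g : SLn (m + 3) F) (t : F), g • (e 0 : Fin (m + 3) → F) = e 0 →
    g • (e 1 : Fin (m + 3) → F) = e 1 + t • e 0 → π g x = x}
  zero_mem' := ⟨C.zero_mem, fun g _ _ _ => map_zero _⟩
  add_mem' := fun hx hy => ⟨C.add_mem hx.1 hy.1, fun g t h0 h1 => by rw [map_add, hx.2 g t h0 h1, hy.2 g t h0 h1]⟩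
  smul_mem' := fun c x hx => ⟨C.smul_mem c hx.1, fun g t h0 h1 => by rw [map_smul, hx.2 g t h0 h1]⟩

/-- A nonzero vector fixed by that group yields a contradiction. -/
theorem no_fixS (h : Ctx π ψ C) {z : E} (hz : z ∈ fixS π C) (hz0 : z ≠ 0) : False := by
  classical
  have hmul : ∀ a b c d : Fˣ, (hel (a * c) (b * d) : SLn (m + 3) F) = hel a b * hel c d := by
    intro a b c d
    refine sl_ext fun x => funext fun i => ?_
    rw [mul_smul, hel_apply, hel_apply, hel_apply]
    refine Eq.trans ?_ (mul_assoc _ _ _)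
    congr 1
    refine Fin.cases ?_ (fun j => ?_) i
    · simp
    refine Fin.cases ?_ (fun k => ?_) j
    · simp
    refine Fin.cases ?_ (fun l => ?_) k
    · simp only [Fin.cons_succ, Fin.cons_zero, ← Units.val_mul]
      rw [← mul_inv, mul_mul_mul_comm]
    · simp
  have hone : (hel 1 1 : SLn (m + 3) F) = 1 := by
    have := hmul 1 1 1 1
    simpa using this
  let φ : AddChar (Additive (Fˣ × Fˣ)) (Module.End ℂ E) :=
    { toFun := fun p => π (hel (Additive.toMul p).1 (Additive.toMul p).2)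
      map_zero_eq_one' := by simp [hone]
      map_add_eq_mul' := fun p p' => by
        rw [toMul_add, Prod.fst_mul, Prod.snd_mul, hmul, map_mul] }
  have hinv : ∀ p, ∀ v ∈ fixS π C, φ p v ∈ fixS π C := by
    intro p v hv
    refine ⟨h.inv _ v hv.1, fun g t h0 h1 => ?_⟩
    set a := (Additive.toMul p).1
    set b := (Additive.toMul p).2
    show π g (π (hel a b) v) = π (hel a b) v
    have key : π ((hel a b)⁻¹ * g * hel a b) v = v := by
      refine hv.2 _ ((b : F) * t / (a : F)) ?_ ?_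
      · rw [mul_smul, mul_smul, hel_e0, sl_smul_smul, h0, ← hel_e0 a b, inv_smul_smul]
      · rw [mul_smul, mul_smul, hel_e1, sl_smul_smul, h1, inv_smul_eq_iff, sl_smul_add, sl_smul_smul, hel_e1, hel_e0,
          smul_add, smul_smul, smul_smul, div_mul_cancel₀ _ a.ne_zero]
    conv_rhs => rw [← key]
    rw [← rho_mul, ← rho_mul]
    congr 2
    group
  obtain ⟨χ, u, hu, hu0⟩ := exists_eig hinv hz hz0
  obtain ⟨huS, huχ⟩ := mem_eig.1 hu
  set v := (‖u‖⁻¹ : ℂ) • u with hv
  have hvS : v ∈ fixS π C := Submodule.smul_mem _ _ huS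
  have hvχ : ∀ a b : Fˣ, π (hel a b) v = χ (Additive.ofMul (a, b)) • v := fun a b => by
    rw [hv, map_smul, smul_comm]
    congr 1
    exact huχ (Additive.ofMul (a, b))
  refine no_flag h (v := v) (η := fun x => if hx : x = 0 then 1 else χ (Additive.ofMul (Units.mk0 x hx, 1)))
    (μ := fun y => if hy : y = 0 then 1 else χ (Additive.ofMul (1, Units.mk0 y hy))) ⟨hvS.1, ?_, ?_, ?_⟩
  · rw [hv, norm_smul, norm_inv, Complex.norm_real, norm_norm, inv_mul_cancel₀ (norm_ne_zero_iff.2 hu0)]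
  · rw [dif_neg one_ne_zero, Units.mk0_one]
    exact AddChar.map_zero_eq_one χ
  · intro g x y t g0 g1
    obtain ⟨hx, hy⟩ := flag_coeff_ne_zero g0 g1
    rw [dif_neg hx, dif_neg hy, ← AddChar.map_add_eq_mul, ← ofMul_mul, Prod.mk_mul_mk, mul_one, one_mul, ← hvχ]
    have key : π ((hel (Units.mk0 x hx) (Units.mk0 y hy))⁻¹ * g) v = v := by
      refine hvS.2 _ (t / x) ?_ ?_
      · rw [mul_smul, g0, inv_smul_eq_iff, hel_e0]
        rfl
      · rw [mul_smul, g1, inv_smul_eq_iff, sl_smul_add, sl_smul_smul, hel_e1, hel_e0, smul_smul, Units.val_mk0,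
          Units.val_mk0, div_mul_cancel₀ _ hx]
    conv_rhs => rw [← key]
    rw [← rho_mul, mul_inv_cancel_left]

theorem iota_mem_fixS (h : Ctx π ψ C) {z : E} (hz : z ∈ fixRow π C (e 0 : Fin (m + 3) → F))
    (hfix : ∀ g : SLn (m + 2) F, g • (e 0 : Fin (m + 2) → F) = e 0 → π (iota g) z = z) : z ∈ fixS π C := by
  refine ⟨(mem_fixRow.1 hz).1, fun g t h0 h1 => ?_⟩
  obtain ⟨g', r, hgr⟩ := stab_decomp g h0
  rw [hgr, rho_mul, (mem_fixRow.1 hz).2 _ _]
  refine hfix g' ?_
  have := congrArg (fun x : Fin (m + 3) → F => Fin.tail x) h1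
  rw [hgr, mul_smul, tv_apply, cons_dot, iota_apply, e1_cons, e0_cons] at this
  simp only [Fin.tail_cons, smul_zero, add_zero] at this
  have htl : Fin.tail (Fin.cons (0 : F) (e 0 : Fin (m + 2) → F) + (0 * (Fin.cons (0 : F) (e 0 : Fin (m + 2) → F) :
      Fin (m + 3) → F) 0 + r ⬝ᵥ (e 0 : Fin (m + 2) → F)) • (Fin.cons (1 : F) 0 : Fin (m + 3) → F)) = e 0 := by
    funext i; simp [Fin.tail]
  rw [htl] at this
  rw [this]
  funext i
  simp [Fin.tail]

end

/-- In dimension three the group fixing a point and, modulo it, a second point fixes a vector. -/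
theorem cuspidal {π : Representation ℂ (SLn (0 + 3) F) E} {ψ : AddChar F ℂ} {C : Submodule ℂ E}
    (h : Ctx π ψ C) (hC : C ≠ ⊥) : ∃ z ∈ fixS π C, z ≠ 0 := by
  classical
  by_contra hc
  push Not at hc
  set X := fixRow π C (e 0 : Fin (0 + 3) → F) with hX
  have hu : ∀ c : F, (e 2 : Fin (0 + 3) → F) ⬝ᵥ (c • e 1) = 0 := fun c => by simp [ne12]
  -- a vector fixed by both groups is fixed by the whole group
  have hkey : ∀ x ∈ X, (∀ c : F, π (tv _ _ (hu c)) x = x) → x = 0 := by
    intro x hx hfix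
    refine hc x (iota_mem_fixS h hx fun g hg => ?_)
    obtain ⟨g', r, hgr⟩ := stab_decomp g hg
    have h1 : g' = 1 := by
      refine Subtype.ext (Matrix.ext fun i j => ?_)
      fin_cases i; fin_cases j
      simpa [Matrix.det_unique] using g'.2
    have hd : (r 0 • (e 2 : Fin (0 + 3) → F)) ⬝ᵥ e 1 = 0 := by
      rw [smul_dotProduct]; simp [ne12]
    rw [hgr, h1, map_one, one_mul, iota_tv, tv_congr _ hd e1_cons.symm ?_, tv_smul (r 0) hd (hu (r 0))]
    · exact hfix (r 0)
    · funext i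
      fin_cases i
      · simp
      · simp
      · simp only [Pi.smul_apply, smul_eq_mul]
        show (Fin.cons 0 (Fin.cons 0 r) : Fin 3 → F) (Fin.succ (Fin.succ 0)) = r 0 * (e 2 : Fin 3 → F) 2
        rw [Fin.cons_succ, Fin.cons_succ]; simp
  -- the first fixed space is small
  have hsmall : finrank ℂ X + 1 ≤ Fintype.card F := by
    have hinv : ∀ b : Perp (e 2 : Fin (0 + 3) → F), ∀ x ∈ X, colAct π (e 2) b x ∈ X := fun b x hx =>
      fixRow_move h.inv _ (tv_fix (mem_perp'.1 b.2) (by simp [ne02])) hx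
    let S := (Finset.univ.erase (0 : F)).image fun c => chr ψ (e 2 : Fin (0 + 3) → F) (c • e 1)
    have hS1 : S.card + 1 ≤ Fintype.card F := by
      have h1 := Finset.card_image_le (s := Finset.univ.erase (0 : F))
        (f := fun c => chr ψ (e 2 : Fin (0 + 3) → F) (c • e 1))
      rw [Finset.card_erase_of_mem (Finset.mem_univ _), Finset.card_univ] at h1
      have := Fintype.card_pos (α := F)
      simp only [S]
      omega
    refine le_trans (Nat.add_le_add_right ?_ 1) hS1
    refine (finrank_le_sum hinv S fun χ hχ => ?_).trans ?_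
    · by_contra hne
      obtain ⟨x, hx, hx0⟩ := (Submodule.ne_bot_iff _).1 hne
      obtain ⟨hxX, hxχ⟩ := mem_eig.1 hx
      obtain ⟨w, hw⟩ := char_repr_sub h.psi (Perp (e 2 : Fin (0 + 3) → F)) χ
      have hw0 : w 0 = 0 := by
        by_contra hne'
        obtain ⟨t, ht⟩ := exists_ne_one h.psi hne'
        refine ht ?_
        have hmem : t • (e 0 : Fin (0 + 3) → F) ∈ Perp (e 2 : Fin (0 + 3) → F) := mem_perp'.2 (by simp [ne02])
        have h1 := hxχ ⟨_, hmem⟩
        rw [colAct_apply, ← tv_smul t (by rw [smul_dotProduct]; simp [ne02]) (mem_perp'.1 hmem),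
          (mem_fixRow.1 hxX).2 _ _, hw] at h1
        have h3 := smul_left_injective ℂ hx0 ((one_smul ℂ x).trans h1)
        rw [h3]
        simp
      have hχeq : χ = chr ψ (e 2 : Fin (0 + 3) → F) (w 1 • e 1) := DFunLike.ext _ _ fun a => by
        rw [hw, chr_apply]
        congr 1
        have ha : (a : Fin (0 + 3) → F) 2 = 0 := by simpa using mem_perp.1 a.2
        simp [dotProduct, Fin.sum_univ_three, hw0, ha]
      refine hχ (Finset.mem_image.2 ⟨w 1, Finset.mem_erase.2 ⟨fun h1 => hx0 (hkey x hxX fun c => ?_),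
        Finset.mem_univ _⟩, hχeq.symm⟩)
      have h2 := hxχ ⟨c • e 1, mem_perp'.2 (hu c)⟩
      rw [hχeq, h1, zero_smul, chr_apply, dotProduct_zero, AddChar.map_zero_eq_one, one_smul] at h2
      exact h2
    · refine (Finset.sum_le_card_nsmul _ _ 1 fun χ hχ => ?_).trans (by simp)
      obtain ⟨c, hc0, rfl⟩ := Finset.mem_image.1 hχ
      refine le_trans (Submodule.finrank_mono fun x hx => ?_) (h.good.line (e 2) (c • e 1) ?_)
      · exact mem_eig.2 ⟨(mem_fixRow.1 (mem_eig.1 hx).1).1, (mem_eig.1 hx).2⟩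
      · simpa using li_smul one_ne_zero (Finset.ne_of_mem_erase hc0) (li_ee (F := F) (ne12 (m := 0)).symm)
  -- fixed spaces of different points are orthogonal
  have horth : ∀ a b : Fin (0 + 3) → F, LinearIndependent F ![a, b] → ∀ x ∈ fixRow π C a, ∀ y ∈ fixRow π C b,
      ⟪x, y⟫_ℂ = 0 := by
    have hstd : ∀ x ∈ fixRow π C (e 0 : Fin (0 + 3) → F), ∀ y ∈ fixRow π C (e 1 : Fin (0 + 3) → F), ⟪x, y⟫_ℂ = 0 := by
      intro x hx y hy
      let _ := Fintype.ofFinite (Perp (e 0 : Fin (0 + 3) → F))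
      set P := ∑ f : Perp (e 0 : Fin (0 + 3) → F), π (tv _ _ (mem_perp.1 f.2)) y with hP
      have hPX : P ∈ X := by
        refine mem_fixRow.2 ⟨C.sum_mem fun f _ => h.inv _ y (mem_fixRow.1 hy).1, fun f hf => ?_⟩
        rw [hP, map_sum]
        refine Fintype.sum_equiv (Equiv.addLeft (⟨f, hf⟩ : Perp (e 0 : Fin (0 + 3) → F))) _ _ fun f' => ?_
        rw [← rho_mul, tv_mul_right]
        rfl
      have hP0 : P = 0 := by
        refine hkey P hPX fun c => ?_
        set g := tv _ _ (hu c)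
        have hge : g • (e 0 : Fin (0 + 3) → F) = e 0 := tv_fix _ (by simp [ne02])
        have hgy : π g y = y := by
          show π (tv _ _ (hu c)) y = y
          rw [← tv_smul c (by rw [smul_dotProduct]; simp [ne12]) (hu c)]
          exact (mem_fixRow.1 hy).2 _ _
        rw [hP, map_sum]
        have hmem : ∀ f : Perp (e 0 : Fin (0 + 3) → F), pull g f ∈ Perp (e 0 : Fin (0 + 3) → F) := fun f => by
          rw [mem_perp, pull_dot, hge]
          exact mem_perp.1 f.2
        refine (Finset.sum_bij (fun (f : Perp (e 0 : Fin (0 + 3) → F)) _ => (⟨pull g f, hmem f⟩ : Perp (e 0 : Fin (0 + 3) → F)))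
          (fun _ _ => Finset.mem_univ _) ?_ ?_ ?_).symm
        · intro f _ f' _ hff
          have h1 := congrArg (fun z : Perp (e 0 : Fin (0 + 3) → F) => pull g⁻¹ (z : Fin (0 + 3) → F)) hff
          simp only [pull_pull, mul_inv_cancel, pull_one] at h1
          exact Subtype.ext h1
        · intro f _
          refine ⟨⟨pull g⁻¹ f, ?_⟩, Finset.mem_univ _, Subtype.ext ?_⟩
          · rw [mem_perp, pull_dot, show g⁻¹ • (e 0 : Fin (0 + 3) → F) = e 0 from inv_smul_eq_iff.2 hge.symm]
            exact mem_perp.1 f.2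
          · show pull g (pull g⁻¹ f) = _
            rw [pull_pull, inv_mul_cancel, pull_one]
        · intro f _
          rw [← rho_mul, conj_tv g (e 0) f (by rw [hge]; exact mem_perp.1 f.2), rho_mul, hgy,
            tv_congr (by rw [hge]; exact mem_perp.1 f.2) (mem_perp.1 f.2) hge rfl]
      have h1 : ⟪x, P⟫_ℂ = (Fintype.card (Perp (e 0 : Fin (0 + 3) → F)) : ℂ) * ⟪x, y⟫_ℂ := by
        rw [hP, inner_sum, Finset.sum_eq_card_nsmul (b := ⟪x, y⟫_ℂ), nsmul_eq_mul, Finset.card_univ]
        intro f _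
        nth_rewrite 1 [← (mem_fixRow.1 hx).2 f (mem_perp.1 f.2)]
        rw [h.uni]
      rw [hP0, inner_zero_right, eq_comm, mul_eq_zero] at h1
      exact h1.resolve_left (Nat.cast_ne_zero.2 Fintype.card_ne_zero)
    intro a b hab x hx y hy
    obtain ⟨g, g0, g1⟩ := exists_move2 hab
    rw [← h.uni g⁻¹]
    exact hstd _ (fixRow_move h.inv _ (by rw [← g0, inv_smul_smul]) hx) _
      (fixRow_move h.inv _ (by rw [← g1, inv_smul_smul]) hy)
  -- one unit vector for each point
  let P := Projectivization F (Fin (0 + 3) → F)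
  haveI : Finite P := Quotient.finite _
  let _ := Fintype.ofFinite P
  have hunit : ∀ p : P, ∃ x ∈ fixRow π C p.rep, x ≠ 0 := by
    intro p
    obtain ⟨x, hx, hx0⟩ := (Submodule.ne_bot_iff _).1 (fixRow_e0_ne_bot h hC)
    obtain ⟨z, hz⟩ : ∃ z, z ∉ Submodule.span F {p.rep} := by
      obtain ⟨z, hz⟩ := exists_third p.rep p.rep
      exact ⟨z, by rwa [Set.pair_eq_singleton] at hz⟩
    obtain ⟨g, g0, -⟩ := exists_move2 (li_pair p.rep_nonzero hz)
    exact ⟨π g x, fixRow_move h.inv g g0 hx, fun h0 => hx0 (rho_injective π g (by rw [h0, map_zero]))⟩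
  choose x hx hx0 using hunit
  have hpts : Fintype.card P ≤ finrank ℂ C := by
    have hli : LinearIndependent ℂ x := by
      refine linearIndependent_of_ne_zero_of_inner_eq_zero hx0 fun p p' hpp => ?_
      refine horth p.rep p'.rep (li_pair p.rep_nonzero fun hm => hpp ?_) _ (hx p) _ (hx p')
      obtain ⟨c, hc'⟩ := Submodule.mem_span_singleton.1 hm
      have hc0 : c ≠ 0 := fun h0 => p'.rep_nonzero (by rw [← hc', h0, zero_smul])
      rw [← Projectivization.mk_rep p, ← Projectivization.mk_rep p', Projectivization.mk_eq_mk_iff']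
      exact ⟨c⁻¹, by rw [← hc', inv_smul_smul₀ hc0]⟩
    have hli' : LinearIndependent ℂ fun p : P => (⟨x p, (mem_fixRow.1 (hx p)).1⟩ : C) :=
      LinearIndependent.of_comp C.subtype hli
    exact hli'.fintype_card_le_finrank
  have h2 := Projectivization.card' F (Fin (0 + 3) → F)
  rw [Nat.card_fun, Nat.card_eq_fintype_card (α := Fin (0 + 3)), Fintype.card_fin, Nat.card_eq_fintype_card (α := P),
    Nat.card_eq_fintype_card (α := F)] at h2
  have h3 := finrank_le_fixRow h.psi h.inv h.good (a := (e 0 : Fin (0 + 3) → F)) fun h0 => by simpa using congrFun h0 0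
  rw [Nat.card_eq_fintype_card] at h3
  have hq := Fintype.one_lt_card (α := F)
  set q := Fintype.card F
  set P' := Fintype.card P
  obtain ⟨r, hr⟩ : ∃ r, q = r + 1 := ⟨q - 1, by omega⟩
  rw [hr, Nat.add_sub_cancel] at h2
  rw [hr] at h3 hsmall
  rw [← hX] at h3
  simp only [Nat.reduceAdd] at h2 h3
  have h4 : P' * r = (r * r + 3 * r + 3) * r := by linarith
  have h5 : P' = r * r + 3 * r + 3 := Nat.eq_of_mul_eq_mul_right (by omega) h4
  linarith

/-- The stabiliser of a nonzero vector fixes a nonzero vector. -/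
theorem struct : ∀ (m : ℕ) (π : Representation ℂ (SLn (m + 3) F) E) (ψ : AddChar F ℂ) (C : Submodule ℂ E),
    IsUni π → Inv π C → ψ ≠ 1 → Good π ψ C → (∀ x ∈ C, (∀ g, π g x = x) → x = 0) → C ≠ ⊥ →
      ∃ z ∈ C, z ≠ 0 ∧ ∀ g : SLn (m + 3) F, g • (e 0 : Fin (m + 3) → F) = e 0 → π g z = z := by
  intro m
  induction m with
  | zero =>
    intro π ψ C hU hI hψ hG _ hC
    by_contra hc
    push Not at hc
    have h : Ctx π ψ C := ⟨hU, hI, hψ, hG, fun v hv hfix => by
      by_contra h0
      obtain ⟨g, hg, hne⟩ := hc v hv h0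
      exact hne (hfix g hg)⟩
    obtain ⟨z, hz, hz0⟩ := cuspidal h hC
    exact no_fixS h hz hz0
  | succ m ih =>
    intro π ψ C hU hI hψ hG hfix hC
    by_contra hc
    push Not at hc
    have h : Ctx π ψ C := ⟨hU, hI, hψ, hG, fun v hv hfix => by
      by_contra h0
      obtain ⟨g, hg, hne⟩ := hc v hv h0
      exact hne (hfix g hg)⟩
    set C' := fixRow π C (e 0 : Fin (m + 1 + 3) → F) with hC'
    let π' : Representation ℂ (SLn (m + 3) F) E := π.comp iota
    have hI' : Inv π' C' := fun g v hv => fixRow_move hI _ (iota_e0 g) hv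
    have hcons : ∀ {f φ : Fin (m + 3) → F}, LinearIndependent F ![f, φ] →
        LinearIndependent F ![(Fin.cons 0 f : Fin (m + 1 + 3) → F), Fin.cons 0 φ] := by
      intro f φ hli
      rw [LinearIndependent.pair_iff] at hli ⊢
      intro s t hst
      refine hli s t (funext fun i => ?_)
      simpa using congrFun hst i.succ
    have hcol : ∀ (f φ : Fin (m + 3) → F), colEig π' ψ C' f φ ≤ colEig π ψ C (Fin.cons 0 f) (Fin.cons 0 φ) := by
      intro f φ x hx
      obtain ⟨hxX, hxχ⟩ := mem_colEig.1 hx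
      refine mem_colEig.2 ⟨(mem_fixRow.1 hxX).1, fun a ha => ?_⟩
      have ha' : f ⬝ᵥ Fin.tail a = 0 := by rwa [cons_dot, zero_mul, zero_add] at ha
      have hd : (Fin.cons 0 f : Fin (m + 1 + 3) → F) ⬝ᵥ (a 0 • e 0) = 0 := by simp
      have hd' : (Fin.cons 0 f : Fin (m + 1 + 3) → F) ⬝ᵥ (Fin.cons 0 (Fin.tail a)) = 0 := by
        rw [cons_dot, Fin.tail_cons, ha', zero_mul, add_zero]
      have hsplit : a = a 0 • (e 0 : Fin (m + 1 + 3) → F) + Fin.cons 0 (Fin.tail a) := by
        funext i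
        refine Fin.cases ?_ (fun j => ?_) i <;> simp [Fin.tail, Fin.succ_ne_zero]
      rw [tv_congr ha (by rw [dotProduct_add, hd, hd', add_zero]) hsplit rfl, ← tv_mul_left hd hd', rho_mul,
        ← iota_tv _ _ ha', cons_dot, zero_mul, zero_add]
      have h1 := hxχ (Fin.tail a) ha'
      rw [show π (iota (tv (Fin.tail a) f ha')) x = π' (tv (Fin.tail a) f ha') x from rfl, h1, map_smul,
        ← tv_smul (a 0) (by rw [smul_dotProduct]; simp) hd, (mem_fixRow.1 hxX).2 _ _]
    have hG' : Good π' ψ C' := by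
      refine ⟨fun f φ hli => (Submodule.finrank_mono (hcol f φ)).trans (hG.line _ _ (hcons hli)),
        fun f φ a hli hfa hφa x hx => ?_⟩
      refine mem_fixRow.2 ⟨(mem_colEig.1 hx).1, fun f' hf' => ?_⟩
      have h1 := hG.fixed _ _ (Fin.cons 0 a) (hcons hli) (by rw [cons_dot]; simpa using hfa)
        (by rw [cons_dot]; simpa using hφa) (hcol f φ hx)
      show π (iota (tv a f' hf')) x = x
      rw [iota_tv]
      exact (mem_fixRow.1 h1).2 _ _
    have hfix' : ∀ x ∈ C', (∀ g, π' g x = x) → x = 0 := fun x hx hgx =>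
      h.noStab x (mem_fixRow.1 hx).1 fun g hg => by
        obtain ⟨g', r, hgr⟩ := stab_decomp g hg
        rw [hgr, rho_mul, (mem_fixRow.1 hx).2 _ _]
        exact hgx g'
    obtain ⟨z, hz, hz0, hzfix⟩ := ih π' ψ C' (fun g x y => hU (iota g) x y) hI' hψ hG' hfix' (fixRow_e0_ne_bot h hC)
    exact no_fixS h (iota_mem_fixS h hz hzfix) hz0

end Cfsg.Agent.SLDeg
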