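import Cfsg.Agent.SLDeg.Family

/-!
The fixed space of a centre group is spanned by the translates of a flag vector.
-/

set_option autoImplicit false
set_option linter.unusedSectionVars false

namespace Cfsg.Agent.SLDeg

open Matrix Module SUDeg
open scoped InnerProductSpace

variable {m : ℕ} {F : Type*} [Field F] [Finite F]
variable {E : Type*} [NormedAddCommGroup E] [InnerProductSpace ℂ E] [FiniteDimensional ℂ E]
variable {π : Representation ℂ (SLn (m + 3) F) E} {ψ : AddChar F ℂ} {C : Submodule ℂ E} {v : E} {η μ : F → ℂ}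

theorem fam_fixRow (h : Ctx π ψ C) (hv : IsFlag π C v η μ) {a y : Fin (m + 3) → F}
    (hay : LinearIndependent F ![a, y]) : fam π v a y ∈ fixRow π C a := by
  refine mem_fixRow.2 ⟨fam_mem h.inv hv a y, fun f hf => ?_⟩
  rw [fam_move hv _ hay, tv_fix hf hf, tv_apply, fam_shift hv _ hay]

/-- A subspace of the fixed space that is moved by the stabiliser of the centre meets an eigenline. -/
theorem exists_col (h : Ctx π ψ C) {X : Submodule ℂ E} (hX : X ≤ fixRow π C (e 0 : Fin (m + 3) → F))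
    (hXi : ∀ g : SLn (m + 3) F, ∀ t : F, g • (e 0 : Fin (m + 3) → F) = t • e 0 → ∀ x ∈ X, π g x ∈ X)
    {g₀ : SLn (m + 3) F} (hg₀ : g₀ • (e 0 : Fin (m + 3) → F) = e 0) {x₀ : E} (hx₀ : x₀ ∈ X) (hne : π g₀ x₀ ≠ x₀) :
    ∃ f φ : Fin (m + 3) → F, LinearIndependent F ![f, φ] ∧ f 0 = 0 ∧ φ 0 = 0 ∧
      ∃ x ∈ X, x ≠ 0 ∧ x ∈ colEig π ψ C f φ := by
  classical
  obtain ⟨g', r, hgr⟩ := stab_decomp g₀ hg₀
  have hfix : ∀ x ∈ X, ∀ (f : Fin (m + 3) → F) (hf : f ⬝ᵥ e 0 = 0), π (tv (e 0) f hf) x = x :=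
    fun x hx => (mem_fixRow.1 (hX hx)).2
  obtain ⟨a', f', haf, x, hx, hxne⟩ : ∃ (a' f' : Fin (m + 2) → F) (haf : f' ⬝ᵥ a' = 0),
      ∃ x ∈ X, π (iota (tv a' f' haf)) x ≠ x := by
    by_contra hc
    push Not at hc
    have hi : ∀ g : SLn (m + 2) F, ∀ x ∈ X, π (iota g) x ∈ X := fun g x hx => hXi (iota g) 1 (by
      rw [iota_apply, one_smul]
      funext i
      refine Fin.cases ?_ (fun j => ?_) i
      · simp
      · rw [Fin.cons_succ, show Fin.tail (e 0 : Fin (m + 3) → F) = 0 from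
          funext fun k => by simp [Fin.tail, Fin.succ_ne_zero], sl_smul_zero]
        simp [Fin.succ_ne_zero]) x hx
    let θ : SLn (m + 2) F →* Module.End ℂ X :=
      { toFun := fun g => LinearMap.restrict (π (iota g)) (hi g)
        map_one' := LinearMap.ext fun x => Subtype.ext (by simp [LinearMap.restrict_apply])
        map_mul' := fun g g' => LinearMap.ext fun x => Subtype.ext (by simp [map_mul, LinearMap.restrict_apply]) }
    have htriv := hom_trivial θ (fun a f haf => LinearMap.ext fun x => Subtype.ext (hc a f haf x x.2)) g'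
    refine hne ?_
    rw [hgr, rho_mul, hfix x₀ hx₀]
    exact congrArg Subtype.val (LinearMap.congr_fun htriv ⟨x₀, hx₀⟩)
  set f : Fin (m + 3) → F := Fin.cons 0 f' with hf
  have hf0 : f 0 = 0 := rfl
  have hinv : ∀ b : Perp f, ∀ x ∈ X, colAct π f b x ∈ X := fun b x hx =>
    hXi _ 1 (by rw [one_smul, tv_fix]; simp [hf0]) x hx
  have hmove : colAct π f ⟨Fin.cons 0 a', mem_perp'.2 (by simpa [hf, dotProduct, Fin.sum_univ_succ] using haf)⟩ x ≠ x := by
    rw [iota_tv] at hxne
    exact hxne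
  obtain ⟨χ, hχ, hne'⟩ := exists_eig_nontrivial hinv hx hmove
  obtain ⟨x₁, hx₁, hx₁0⟩ := (Submodule.ne_bot_iff _).1 hne'
  have hfne : f ≠ 0 := fun h0 => by
    refine hxne ?_
    have hf' : f' = 0 := funext fun i => by simpa [hf] using congrFun h0 i.succ
    subst hf'
    rw [tv_congr haf (zero_dotProduct a') rfl rfl, tv_zero_right, map_one, map_one, Module.End.one_apply]
  obtain ⟨φ, hli, rfl⟩ := chr_nontrivial h.psi hfne hχ
  obtain ⟨hx₁X, hx₁χ⟩ := mem_eig.1 hx₁
  have hx₁C : x₁ ∈ C := (mem_fixRow.1 (hX hx₁X)).1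
  refine ⟨f, φ, hli, hf0, ?_, x₁, hx₁X, hx₁0, mem_eig.2 ⟨hx₁C, hx₁χ⟩⟩
  by_contra hφ
  obtain ⟨t, ht⟩ := exists_ne_one h.psi hφ
  refine ht ?_
  have hmem : t • (e 0 : Fin (m + 3) → F) ∈ Perp f := mem_perp'.2 (by simp [hf0])
  have h1 := hx₁χ ⟨_, hmem⟩
  have h2 : colAct π f ⟨_, hmem⟩ x₁ = x₁ := by
    rw [colAct_apply, ← tv_smul t (by rw [smul_dotProduct]; simp [hf0]) (mem_perp'.1 hmem)]
    exact hfix x₁ hx₁X _ _
  rw [h2, chr_apply] at h1
  have h3 := smul_left_injective ℂ hx₁0 ((one_smul ℂ x₁).trans h1)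
  rw [h3]
  simp

theorem fixRow_e0_le (h : Ctx π ψ C) (hv : IsFlag π C v η μ) :
    fixRow π C (e 0 : Fin (m + 3) → F) ≤ Submodule.span ℂ (Set.range (fam π v (e 0))) := by
  classical
  set S := Submodule.span ℂ (Set.range (fam π v (e 0 : Fin (m + 3) → F))) with hS
  have hSle : S ≤ fixRow π C (e 0 : Fin (m + 3) → F) := Submodule.span_le.2 (by
    rintro _ ⟨y, rfl⟩
    by_cases hy : LinearIndependent F ![(e 0 : Fin (m + 3) → F), y]
    · exact fam_fixRow h hv hy
    · rw [fam, dif_neg hy]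
      exact Submodule.zero_mem _)
  have hSi : ∀ g : SLn (m + 3) F, ∀ t : F, g • (e 0 : Fin (m + 3) → F) = t • e 0 → ∀ x ∈ S, π g x ∈ S := by
    intro g t hg
    suffices S ≤ S.comap (π g) from fun x hx => this hx
    refine Submodule.span_le.2 ?_
    rintro _ ⟨y, rfl⟩
    by_cases hy : LinearIndependent F ![(e 0 : Fin (m + 3) → F), y]
    · have ht : t ≠ 0 := fun h0 => by
        have := li_move g hy
        rw [hg, h0, zero_smul] at this
        exact this.ne_zero 0 rfl
      have hy' : LinearIndependent F ![(e 0 : Fin (m + 3) → F), g • y] := by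
        have h1 := li_move g hy
        rw [hg] at h1
        obtain ⟨-, h2⟩ := li_pair_iff.1 h1
        refine li_pair (fun h0 => by simpa using congrFun h0 0) ?_
        rwa [Submodule.span_singleton_smul_eq (IsUnit.mk0 t ht)] at h2
      rw [SetLike.mem_coe, Submodule.mem_comap, fam_move hv g hy, hg]
      conv => arg 2; rw [← one_smul F (g • y)]
      rw [fam_scale hv ht one_ne_zero hy']
      exact S.smul_mem _ (Submodule.subset_span ⟨_, rfl⟩)
    · rw [fam, SetLike.mem_coe, Submodule.mem_comap, dif_neg hy, map_zero]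
      exact S.zero_mem
  set T := fixRow π C (e 0 : Fin (m + 3) → F) ⊓ Sᗮ with hT
  have hfixi : ∀ g : SLn (m + 3) F, ∀ t : F, g • (e 0 : Fin (m + 3) → F) = t • e 0 →
      ∀ x ∈ fixRow π C (e 0 : Fin (m + 3) → F), π g x ∈ fixRow π C (e 0 : Fin (m + 3) → F) := by
    intro g t hg x hx
    have ht : t ≠ 0 := fun h0 => by
      have := sl_injective g (hg.trans (by rw [h0, zero_smul, sl_smul_zero]) : g • (e 0 : Fin (m + 3) → F) = g • 0)
      simpa using congrFun this 0
    obtain ⟨hxC, hx'⟩ := mem_fixRow.1 (fixRow_move h.inv g hg hx)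
    refine mem_fixRow.2 ⟨hxC, fun f hf => ?_⟩
    have hf' : (t⁻¹ • f) ⬝ᵥ (t • (e 0 : Fin (m + 3) → F)) = 0 := by
      rw [smul_dotProduct, dotProduct_smul, hf, smul_zero, smul_zero]
    have := hx' _ hf'
    rwa [tv_congr hf' (by rw [smul_dotProduct, dotProduct_smul, hf, smul_zero, smul_zero]) rfl rfl,
      tv_smul t⁻¹ hf' (by rw [inv_smul_smul₀ ht, hf]),
      tv_congr (by rw [inv_smul_smul₀ ht, hf]) hf (inv_smul_smul₀ ht _) rfl] at this
  have hTi : ∀ g : SLn (m + 3) F, ∀ t : F, g • (e 0 : Fin (m + 3) → F) = t • e 0 → ∀ x ∈ T, π g x ∈ T := by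
    intro g t hg x hx
    refine ⟨hfixi g t hg x hx.1, ?_⟩
    rw [SetLike.mem_coe, Submodule.mem_orthogonal]
    intro u hu
    have ht : t ≠ 0 := fun h0 => by
      have := sl_injective g (hg.trans (by rw [h0, zero_smul, sl_smul_zero]) : g • (e 0 : Fin (m + 3) → F) = g • 0)
      simpa using congrFun this 0
    have hginv : g⁻¹ • (e 0 : Fin (m + 3) → F) = t⁻¹ • e 0 := by
      conv_lhs => rw [show (e 0 : Fin (m + 3) → F) = t⁻¹ • g • e 0 by rw [hg, inv_smul_smul₀ ht]]
      rw [sl_smul_smul, inv_smul_smul]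
    have hu' := hSi g⁻¹ t⁻¹ hginv u hu
    rw [← h.uni g⁻¹, rho_inv_self]
    exact Submodule.inner_right_of_mem_orthogonal hu' hx.2
  have hTbot : T = ⊥ := by
    by_contra hne
    obtain ⟨x, hx, hx0⟩ := (Submodule.ne_bot_iff _).1 hne
    obtain ⟨g₁, hg₁, hgx⟩ : ∃ g : SLn (m + 3) F, g • (e 0 : Fin (m + 3) → F) = e 0 ∧ π g x ≠ x := by
      by_contra hc
      push Not at hc
      exact hx0 (h.noStab x (mem_fixRow.1 hx.1).1 hc)
    obtain ⟨f, φ, hli, hf0, hφ0, y, hy, hy0, hyE⟩ := exists_col h (inf_le_left : T ≤ _) hTi hg₁ hx hgx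
    obtain ⟨g₂, hg₂, hgv⟩ : ∃ g : SLn (m + 3) F, g • (e 0 : Fin (m + 3) → F) = e 0 ∧ π g v ≠ v := by
      by_contra hc
      push Not at hc
      exact flag_ne_zero hv (h.noStab v hv.mem hc)
    obtain ⟨f', φ', hli', hf0', hφ0', z, hz, hz0, hzE⟩ :=
      exists_col h hSle hSi hg₂ (Submodule.subset_span ⟨e 1, fam_base hv⟩) hgv
    obtain ⟨g, t, -, hgt, hgf, hgφ⟩ := exists_move_fun hli hli' hf0 hφ0 hf0' hφ0'
    have hzg : π g z ∈ colEig π ψ C f φ := colEig_move h.inv g hgf hgφ hzE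
    have hzS : π g z ∈ S := hSi g t hgt z hz
    obtain ⟨c, hc⟩ := (finrank_le_one_iff (K := ℂ) (V := colEig π ψ C f φ)).1 (h.good.line f φ hli)
    obtain ⟨a, ha⟩ := hc ⟨y, hyE⟩
    obtain ⟨b, hb⟩ := hc ⟨π g z, hzg⟩
    have ha' : a • (c : E) = y := congrArg Subtype.val ha
    have hb' : b • (c : E) = π g z := congrArg Subtype.val hb
    have hb0 : b ≠ 0 := fun h0 => hz0 (rho_injective π g (by rw [← hb', h0, zero_smul, map_zero]))
    have hcS : (c : E) ∈ S := by
      rw [← inv_smul_smul₀ hb0 (c : E), hb']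
      exact S.smul_mem _ hzS
    exact hy0 (inner_self_eq_zero.1 (Submodule.inner_right_of_mem_orthogonal (ha' ▸ S.smul_mem a hcS) hy.2))
  calc fixRow π C (e 0 : Fin (m + 3) → F) = S ⊔ Sᗮ ⊓ fixRow π C (e 0 : Fin (m + 3) → F) :=
        (Submodule.sup_orthogonal_inf_of_hasOrthogonalProjection hSle).symm
    _ ≤ S := by rw [inf_comm, ← hT, hTbot, sup_bot_eq]

theorem fixRow_le (h : Ctx π ψ C) (hv : IsFlag π C v η μ) {a : Fin (m + 3) → F} (ha : a ≠ 0) :
    fixRow π C a ≤ Submodule.span ℂ {x | ∃ y, LinearIndependent F ![a, y] ∧ fam π v a y = x} := by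
  classical
  obtain ⟨y₀, hy₀⟩ : ∃ y, y ∉ Submodule.span F {a} := by
    obtain ⟨z, hz⟩ := exists_third a a
    exact ⟨z, by simpa using hz⟩
  obtain ⟨g, hg, -⟩ := exists_move2 (li_pair ha hy₀)
  intro x hx
  have h1 : π g⁻¹ x ∈ Submodule.span ℂ (Set.range (fam π v (e 0))) :=
    fixRow_e0_le h hv (fixRow_move h.inv g⁻¹ (by rw [← hg, inv_smul_smul]) hx)
  have h2 : π g (π g⁻¹ x) = x := by rw [← rho_mul, mul_inv_cancel, map_one, Module.End.one_apply]
  rw [← h2]
  suffices Submodule.span ℂ (Set.range (fam π v (e 0))) ≤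
      (Submodule.span ℂ {x | ∃ y, LinearIndependent F ![a, y] ∧ fam π v a y = x}).comap (π g) from this h1
  refine Submodule.span_le.2 ?_
  rintro _ ⟨y, rfl⟩
  by_cases hy : LinearIndependent F ![(e 0 : Fin (m + 3) → F), y]
  · rw [SetLike.mem_coe, Submodule.mem_comap, fam_move hv g hy, hg]
    refine Submodule.subset_span ⟨g • y, ?_, rfl⟩
    have := li_move g hy
    rwa [hg] at this
  · rw [fam, SetLike.mem_coe, Submodule.mem_comap, dif_neg hy, map_zero]
    exact Submodule.zero_mem _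

theorem li_e0_cons {w : Fin (m + 2) → F} (hw : w ≠ 0) :
    LinearIndependent F ![(e 0 : Fin (m + 3) → F), Fin.cons 0 w] :=
  li_pair (fun h => by simpa using congrFun h 0) fun h => by
    obtain ⟨r, hr⟩ := Submodule.mem_span_singleton.1 h
    refine hw (funext fun i => ?_)
    have := congrFun hr i.succ
    simpa [Fin.succ_ne_zero] using this.symm

theorem finrank_fixRow_bound (h : Ctx π ψ C) (hv : IsFlag π C v η μ) :
    finrank ℂ (fixRow π C (e 0 : Fin (m + 3) → F)) * (Nat.card F - 1) + 1 ≤ Nat.card F ^ (m + 2) := by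
  classical
  let P := Projectivization F (Fin (m + 2) → F)
  let _ := Fintype.ofFinite F
  haveI : Finite P := Quotient.finite _
  let _ := Fintype.ofFinite P
  have hle : fixRow π C (e 0 : Fin (m + 3) → F) ≤
      Submodule.span ℂ (Set.range fun p : P => fam π v (e 0 : Fin (m + 3) → F) (Fin.cons 0 p.rep)) := by
    refine (fixRow_e0_le h hv).trans (Submodule.span_le.2 ?_)
    rintro _ ⟨y, rfl⟩
    by_cases hy : LinearIndependent F ![(e 0 : Fin (m + 3) → F), y]
    · have hw : Fin.tail y ≠ 0 := fun h0 => (li_pair_iff.1 hy).2 (Submodule.mem_span_singleton.2 ⟨y 0, by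
        funext i
        refine Fin.cases ?_ (fun j => ?_) i
        · simp
        · have h1 : y j.succ = 0 := congrFun h0 j
          simp [Fin.succ_ne_zero, h1]⟩)
      obtain ⟨s, hs⟩ := Projectivization.exists_smul_eq_mk_rep F (Fin.tail y) hw
      have hy' : y = (s : F)⁻¹ • Fin.cons 0 (Projectivization.mk F _ hw).rep + y 0 • (e 0 : Fin (m + 3) → F) := by
        funext i
        refine Fin.cases ?_ (fun j => ?_) i
        · simp
        · have h1 := congrFun hs j
          simp only [Units.smul_def, Pi.smul_apply, smul_eq_mul, Fin.tail] at h1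
          simp [Fin.succ_ne_zero, ← h1]
      have hrep := li_e0_cons (m := m) (Projectivization.rep_nonzero (Projectivization.mk F _ hw))
      have hs0 : (s : F)⁻¹ ≠ 0 := inv_ne_zero s.ne_zero
      have hli' : LinearIndependent F ![(e 0 : Fin (m + 3) → F), (s : F)⁻¹ • Fin.cons 0 (Projectivization.mk F _ hw).rep] := by
        rw [LinearIndependent.pair_iff] at hrep ⊢
        intro p r hpr
        obtain ⟨h1, h2⟩ := hrep p (r * (s : F)⁻¹) (by rw [← hpr, smul_smul])
        exact ⟨h1, (mul_eq_zero.1 h2).resolve_right hs0⟩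
      conv => arg 2; rw [hy', fam_shift hv _ hli']
      have := fam_scale hv (one_ne_zero (α := F)) hs0 hrep
      rw [one_smul] at this
      rw [this]
      exact Submodule.smul_mem _ _ (Submodule.subset_span ⟨_, rfl⟩)
    · rw [fam, SetLike.mem_coe, dif_neg hy]
      exact Submodule.zero_mem _
  have h1 := (Submodule.finrank_mono hle).trans (finrank_range_le_card (R := ℂ)
    fun p : P => fam π v (e 0 : Fin (m + 3) → F) (Fin.cons 0 p.rep))
  have h2 := Projectivization.card' F (Fin (m + 2) → F)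
  rw [Nat.card_fun, Nat.card_eq_fintype_card (α := Fin (m + 2)), Fintype.card_fin, Nat.card_eq_fintype_card (α := P)] at h2
  rw [h2]
  exact Nat.add_le_add_right (Nat.mul_le_mul_right _ h1) 1

theorem finrank_bound (h : Ctx π ψ C) (hv : IsFlag π C v η μ) :
    finrank ℂ C * (Nat.card F - 1) + Nat.card F ≤ Nat.card F ^ (m + 3) := by
  have h1 := finrank_le_fixRow (π := π) h.psi h.inv h.good (a := (e 0 : Fin (m + 3) → F))
    (fun h0 => by simpa using congrFun h0 0)
  have h2 := finrank_fixRow_bound h hv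
  have hq : 1 < Nat.card F := Finite.one_lt_card
  obtain ⟨r, hr⟩ : ∃ r, Nat.card F = r + 1 := ⟨Nat.card F - 1, by omega⟩
  rw [hr] at h1 h2 ⊢
  simp only [Nat.add_sub_cancel] at h2 ⊢
  rw [pow_succ _ (m + 2)]
  nlinarith [Nat.mul_le_mul_right r h1]

end Cfsg.Agent.SLDeg
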