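import Cfsg.Agent.SLDeg.Span

/-!
Matrix entries of the family and their invariances.
-/

set_option autoImplicit false
set_option linter.unusedSectionVars false

namespace Cfsg.Agent.SLDeg

open Matrix Module SUDeg
open scoped InnerProductSpace ComplexConjugate

variable {m : ℕ} {F : Type*} [Field F] [Finite F]
variable {E : Type*} [NormedAddCommGroup E] [InnerProductSpace ℂ E] [FiniteDimensional ℂ E]
variable {π : Representation ℂ (SLn (m + 3) F) E} {ψ : AddChar F ℂ} {C : Submodule ℂ E} {v : E} {η μ : F → ℂ}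

theorem mu_one (hv : IsFlag π C v η μ) : μ 1 = 1 := by
  have := flag_one hv
  rwa [hv.eta_one, one_mul] at this

theorem eta_mul (hv : IsFlag π C v η μ) {x x' : F} (hx : x ≠ 0) (hx' : x' ≠ 0) : η (x * x') = η x * η x' := by
  have := flag_mul hv hx one_ne_zero hx' one_ne_zero
  simpa [mu_one hv] using this

theorem mu_mul (hv : IsFlag π C v η μ) {y y' : F} (hy : y ≠ 0) (hy' : y' ≠ 0) : μ (y * y') = μ y * μ y' := by
  have := flag_mul hv one_ne_zero hy one_ne_zero hy'
  simpa [hv.eta_one] using this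

theorem eta_inv (hv : IsFlag π C v η μ) {x : F} (hx : x ≠ 0) : η x⁻¹ = (η x)⁻¹ := by
  refine eq_inv_of_mul_eq_one_left ?_
  rw [← eta_mul hv (inv_ne_zero hx) hx, inv_mul_cancel₀ hx, hv.eta_one]

theorem mu_inv (hv : IsFlag π C v η μ) {x : F} (hx : x ≠ 0) : μ x⁻¹ = (μ x)⁻¹ := by
  refine eq_inv_of_mul_eq_one_left ?_
  rw [← mu_mul hv (inv_ne_zero hx) hx, inv_mul_cancel₀ hx, mu_one hv]

theorem li_ee {i j : Fin (m + 3)} (h : i ≠ j) : LinearIndependent F ![(e i : Fin (m + 3) → F), e j] :=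
  li_pair (fun h0 => by simpa using congrFun h0 i) fun hmem => by
    obtain ⟨r, hr⟩ := Submodule.mem_span_singleton.1 hmem
    simpa [h, Ne.symm h] using congrFun hr j

theorem ne01 : (0 : Fin (m + 3)) ≠ 1 := by rw [ne_eq, Fin.ext_iff, one_val]; exact zero_ne_one

theorem ne02 : (0 : Fin (m + 3)) ≠ 2 := by rw [ne_eq, Fin.ext_iff, two_val]; exact (by norm_num : (0 : ℕ) ≠ 2)

theorem ne12 : (1 : Fin (m + 3)) ≠ 2 := by rw [ne_eq, Fin.ext_iff, two_val, one_val]; norm_num

theorem li_e012 : LinearIndependent F ![(e 0 : Fin (m + 3) → F), e 1, e 2] := by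
  refine li_triple (li_ee ne01) fun h => ?_
  obtain ⟨a, b, hab⟩ := Submodule.mem_span_pair.1 h
  simpa [ne02, ne02.symm, ne12, ne12.symm] using congrFun hab 2

/-- The diagonal of `hel`. -/
def dg (x y : F) (i : Fin (m + 3)) : F := (Fin.cons x (Fin.cons y (Fin.cons (x * y)⁻¹ 1)) : Fin (m + 3) → F) i

theorem dg0 (x y : F) : dg x y (0 : Fin (m + 3)) = x := rfl

theorem dg1 (x y : F) : dg x y (1 : Fin (m + 3)) = y := by
  rw [show (1 : Fin (m + 3)) = Fin.succ 0 from rfl]; rfl

theorem dg2 (x y : F) : dg x y (2 : Fin (m + 3)) = (x * y)⁻¹ := by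
  rw [show (2 : Fin (m + 3)) = Fin.succ (Fin.succ 0) from Fin.ext (by rw [two_val]; rfl)]; rfl

/-- An entry vanishes when the two characters of the diagonal group differ. -/
theorem kq_zero (hU : IsUni π) (hv : IsFlag π C v η μ) {i j : Fin (m + 3)} (hij : i ≠ j) {x y : F} (hx : x ≠ 0)
    (hy : y ≠ 0) (hne : η (dg x y i) * μ (dg x y j) ≠ η x * μ y) : kq π v (e i) (e j) = 0 := by
  have hd : ∀ k : Fin (m + 3), dg x y k ≠ (0 : F) := fun k => by
    show (Fin.cons x (Fin.cons y (Fin.cons (x * y)⁻¹ 1)) : Fin (m + 3) → F) k ≠ 0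
    refine Fin.cases ?_ (fun k => ?_) k
    · simpa using hx
    refine Fin.cases ?_ (fun k => ?_) k
    · simpa using hy
    refine Fin.cases ?_ (fun k => ?_) k
    · rw [Fin.cons_succ, Fin.cons_succ, Fin.cons_zero]
      exact inv_ne_zero (mul_ne_zero hx hy)
    · simp
  have h1 := kq_move hU hv (g := hel (Units.mk0 x hx) (Units.mk0 y hy)) (x := x) (s := y) (t := 0) (hel_e0 _ _)
    (by rw [hel_e1]; simp) (li_ee hij)
  have hdd : ∀ k, (hel (Units.mk0 x hx) (Units.mk0 y hy) : SLn (m + 3) F) • (e k : Fin (m + 3) → F) = dg x y k • e k := by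
    intro k
    rw [hel_single]
    simp [dg, mul_comm]
  rw [hdd, hdd, kq_scale hv (hd i) (hd j) (li_ee hij)] at h1
  by_contra hk
  refine hne ?_
  have h2 : η x * μ y * conj (η (dg x y i) * μ (dg x y j)) = 1 := by
    refine mul_right_cancel₀ hk ?_
    rw [one_mul, mul_assoc, ← h1]
  have h3 := flag_norm hU hv (hd i) (hd j)
  have h4 : conj (η (dg x y i) * μ (dg x y j)) * (η (dg x y i) * μ (dg x y j)) = 1 := by
    rw [RCLike.conj_mul, h3]
    simp
  calc η (dg x y i) * μ (dg x y j)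
      = (η x * μ y * conj (η (dg x y i) * μ (dg x y j))) * (η (dg x y i) * μ (dg x y j)) := by rw [h2, one_mul]
    _ = η x * μ y := by rw [mul_assoc, h4, mul_one]

theorem kq_of_fix (hU : IsUni π) (hv : IsFlag π C v η μ) {g : SLn (m + 3) F} (hg : π g v = v)
    {a y : Fin (m + 3) → F} (h : LinearIndependent F ![a, y]) : kq π v a y = kq π v (g • a) (g • y) := by
  rw [kq, kq, ← hU g, hg, fam_move hv g h]

theorem kq_not_li {a y : Fin (m + 3) → F} (h : ¬ LinearIndependent F ![a, y]) : kq π v a y = 0 := by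
  rw [kq, fam, dif_neg h, inner_zero_left]

theorem li_smul {a y : Fin (m + 3) → F} {x s : F} (hx : x ≠ 0) (hs : s ≠ 0) (h : LinearIndependent F ![a, y]) :
    LinearIndependent F ![x • a, s • y] := by
  rw [LinearIndependent.pair_iff] at h ⊢
  intro p r hpr
  obtain ⟨h1, h2⟩ := h (p * x) (r * s) (by rw [← hpr, smul_smul, smul_smul])
  exact ⟨(mul_eq_zero.1 h1).resolve_right hx, (mul_eq_zero.1 h2).resolve_right hs⟩

theorem li_add {a y : Fin (m + 3) → F} (t : F) (h : LinearIndependent F ![a, y]) :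
    LinearIndependent F ![a, y + t • a] := by
  rw [LinearIndependent.pair_iff] at h ⊢
  intro p r hpr
  obtain ⟨h1, h2⟩ := h (p + r * t) r (by rw [← hpr]; module)
  exact ⟨by simpa [h2] using h1, h2⟩

/-- The plane of the standard flag. -/
def plane : Submodule F (Fin (m + 3) → F) := Submodule.span F {e 0, e 1}

theorem plane_cases {a y : Fin (m + 3) → F} (ha : a ∈ plane) (hy : y ∈ plane) (h : LinearIndependent F ![a, y])
    (ha0 : a ∉ Submodule.span F {(e 0 : Fin (m + 3) → F)}) :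
    ∃ (γ t : F), γ ≠ 0 ∧ y = γ • e 0 + t • a ∧ LinearIndependent F ![a, (e 0 : Fin (m + 3) → F)] := by
  obtain ⟨α, β, rfl⟩ := Submodule.mem_span_pair.1 ha
  obtain ⟨p, r, rfl⟩ := Submodule.mem_span_pair.1 hy
  have hβ : β ≠ 0 := fun h0 => ha0 (Submodule.mem_span_singleton.2 ⟨α, by simp [h0]⟩)
  have hy' : p • (e 0 : Fin (m + 3) → F) + r • e 1 = (p - r / β * α) • e 0 + (r / β) • (α • e 0 + β • e 1) := by
    match_scalars <;> field_simp <;> ring
  refine ⟨p - r / β * α, r / β, fun h0 => ?_, hy', li_pair (fun h0 => ha0 (by rw [h0]; exact Submodule.zero_mem _))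
    fun hm => ?_⟩
  · rw [hy', h0, zero_smul, zero_add] at h
    exact (li_pair_iff.1 h).2 (Submodule.mem_span_singleton.2 ⟨_, rfl⟩)
  · obtain ⟨c, hc⟩ := Submodule.mem_span_singleton.1 hm
    have h1 := congrFun hc 1
    have h0 := congrFun hc 0
    simp [ne01, ne01.symm, hβ] at h1 h0
    subst h1
    simp at h0

theorem li_e0_plane {a : Fin (m + 3) → F} (ha : a ∈ plane) (ha0 : a ∉ Submodule.span F {(e 0 : Fin (m + 3) → F)}) :
    LinearIndependent F ![(e 0 : Fin (m + 3) → F), a, e 2] := by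
  refine li_triple (li_pair (fun h0 => by simpa using congrFun h0 0) ha0) fun hm => ?_
  have h1 : (e 2 : Fin (m + 3) → F) ∈ plane := by
    refine (Submodule.span_le (R := F) (p := plane)).2 ?_ hm
    rintro x (rfl | rfl)
    · exact Submodule.subset_span (Set.mem_insert _ _)
    · exact ha
  obtain ⟨p, r, hpr⟩ := Submodule.mem_span_pair.1 h1
  simpa [ne02, ne02.symm, ne12, ne12.symm] using congrFun hpr 2

/-- Entries inside the plane are multiples of the entry of the exchanged pair. -/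
theorem kq_plane (hU : IsUni π) (hv : IsFlag π C v η μ) {a y : Fin (m + 3) → F} (ha : a ∈ plane) (hy : y ∈ plane)
    (h : LinearIndependent F ![a, y]) (ha0 : a ∉ Submodule.span F {(e 0 : Fin (m + 3) → F)}) :
    (kq π v (e 1) (e 0) = 0 → kq π v a y = 0) ∧
      ((∀ x, x ≠ 0 → η x = 1) → (∀ x, x ≠ 0 → μ x = 1) → kq π v a y = kq π v (e 1) (e 0)) := by
  obtain ⟨γ, t, hγ, rfl, hli⟩ := plane_cases ha hy h ha0
  obtain ⟨α, β, rfl⟩ := Submodule.mem_span_pair.1 ha
  have hβ : β ≠ 0 := fun h0 => ha0 (Submodule.mem_span_singleton.2 ⟨α, by simp [h0]⟩)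
  obtain ⟨g, r, hr, g0, g1, -⟩ := exists_move3 (li_e0_plane ha ha0)
  have hli' : LinearIndependent F ![α • (e 0 : Fin (m + 3) → F) + β • e 1, γ • e 0] := by
    simpa using li_smul one_ne_zero hγ hli
  have hsc := kq_scale hv one_ne_zero hγ hli
  rw [one_smul] at hsc
  rw [kq_shift hv t hli', hsc,
    kq_move hU hv (g := g) (x := 1) (s := β) (t := α) (by rw [g0, one_smul]) (by rw [g1]; abel)
      (li_ee ne01.symm), g0, g1]
  refine ⟨fun h0 => ?_, fun hη hμ => ?_⟩
  · rcases mul_eq_zero.1 h0 with h1 | h1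
    · have := flag_norm hU hv one_ne_zero hβ
      rw [h1, norm_zero] at this
      exact absurd this zero_ne_one
    · rw [h1, mul_zero]
  · rw [hη 1 one_ne_zero, hμ γ hγ, hμ β hβ]
    simp

theorem li_e01x {x : Fin (m + 3) → F} (hx : x ∉ plane) : LinearIndependent F ![(e 0 : Fin (m + 3) → F), e 1, x] :=
  li_triple (li_ee ne01) hx

/-- Entries with a point off the plane are multiples of the entries at the third coordinate vector. -/
theorem kq_third (hU : IsUni π) (hv : IsFlag π C v η μ) {z : Fin (m + 3) → F} (hz : z ∉ plane) :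
    ∃ r : F, r ≠ 0 ∧ kq π v (e 0) (e 2) = conj (μ r) * kq π v (e 0) z ∧
      kq π v (e 1) (e 2) = conj (μ r) * kq π v (e 1) z ∧
      kq π v (e 2) (e 0) = conj (η r) * kq π v z (e 0) ∧
      kq π v (e 2) (e 1) = conj (η r) * kq π v z (e 1) := by
  obtain ⟨g, r, hr, g0, g1, g2⟩ := exists_move3 (li_e01x hz)
  have hg : π g v = v := by
    rw [hv.act g 1 1 0 (by rw [g0, one_smul]) (by rw [g1]; simp), hv.eta_one, mu_one hv, one_mul, one_smul]
  have hz0 : LinearIndependent F ![(e 0 : Fin (m + 3) → F), z] := li_pair (fun h0 => by simpa using congrFun h0 0)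
    fun hm => hz (Submodule.span_mono (by simp) hm)
  have hz1 : LinearIndependent F ![(e 1 : Fin (m + 3) → F), z] := li_pair (fun h0 => by simpa using congrFun h0 1)
    fun hm => hz (Submodule.span_mono (by simp) hm)
  refine ⟨r, hr, ?_, ?_, ?_, ?_⟩
  · rw [kq_of_fix hU hv hg (li_ee ne02), g0, g2]
    have hsc := kq_scale hv one_ne_zero hr hz0
    rw [one_smul, hv.eta_one, one_mul] at hsc
    exact hsc
  · rw [kq_of_fix hU hv hg (li_ee ne12), g1, g2]
    have hsc := kq_scale hv one_ne_zero hr hz1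
    rw [one_smul, hv.eta_one, one_mul] at hsc
    exact hsc
  · rw [kq_of_fix hU hv hg (li_ee ne02.symm), g0, g2]
    have hsc := kq_scale hv hr one_ne_zero (LinearIndependent.pair_symm_iff.1 hz0)
    rw [one_smul, mu_one hv, mul_one] at hsc
    exact hsc
  · rw [kq_of_fix hU hv hg (li_ee ne12.symm), g1, g2]
    have hsc := kq_scale hv hr one_ne_zero (LinearIndependent.pair_symm_iff.1 hz1)
    rw [one_smul, mu_one hv, mul_one] at hsc
    exact hsc

theorem conj_ne_zero' (hU : IsUni π) (hv : IsFlag π C v η μ) {r : F} (hr : r ≠ 0) :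
    conj (η r) ≠ 0 ∧ conj (μ r) ≠ 0 := by
  constructor <;> rw [map_ne_zero]
  · intro h0
    have := flag_norm hU hv hr one_ne_zero
    rw [h0, zero_mul, norm_zero] at this
    exact zero_ne_one this
  · intro h0
    have := flag_norm hU hv one_ne_zero hr
    rw [h0, mul_zero, norm_zero] at this
    exact zero_ne_one this

/-- Entries of generic pairs reduce to the entry at `(e 2, e 1)`. -/
theorem kq_generic (hU : IsUni π) (hv : IsFlag π C v η μ) {x : Fin (m + 3) → F} (hx : x ∉ plane) {s t : F}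
    (hs : s ≠ 0) :
    ∃ r : F, r ≠ 0 ∧ kq π v (e 2) (e 1) = conj (η r) * kq π v (e 0 + s • x) (e 1 + t • x) := by
  set z := (e 0 : Fin (m + 3) → F) + s • x with hz
  have hzp : z ∉ plane := fun hm => hx (by
    have h0 : (e 0 : Fin (m + 3) → F) ∈ plane := Submodule.subset_span (Set.mem_insert _ _)
    have := Submodule.smul_mem plane s⁻¹ (Submodule.sub_mem _ hm h0)
    rwa [hz, add_sub_cancel_left, inv_smul_smul₀ hs] at this)
  set u := (e 1 : Fin (m + 3) → F) - (t / s) • e 0 with hu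
  have hli : LinearIndependent F ![(e 0 : Fin (m + 3) → F), u] := by
    rw [hu, sub_eq_add_neg, ← neg_smul]
    exact li_add _ (li_ee ne01)
  have hup : Submodule.span F {(e 0 : Fin (m + 3) → F), u} ≤ plane := Submodule.span_le.2 (by
    rintro w (rfl | rfl)
    · exact Submodule.subset_span (Set.mem_insert _ _)
    · exact Submodule.sub_mem _ (Submodule.subset_span (Set.mem_insert_of_mem _ rfl))
        (Submodule.smul_mem _ _ (Submodule.subset_span (Set.mem_insert _ _))))
  obtain ⟨g, r, hr, g0, g1, g2⟩ := exists_move3 (li_triple hli fun hm => hzp (hup hm))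
  have hg : π g v = v := by
    rw [hv.act g 1 1 (-(t / s)) (by rw [g0, one_smul]) (by rw [g1, hu]; module), hv.eta_one, mu_one hv, one_mul,
      one_smul]
  have hzu : LinearIndependent F ![z, u] := by
    have hzu' := li_move g (li_ee (F := F) (ne12 (m := m)).symm)
    rw [g1, g2] at hzu'
    simpa [inv_smul_smul₀ hr] using li_smul (inv_ne_zero hr) one_ne_zero hzu'
  refine ⟨r, hr, ?_⟩
  rw [kq_of_fix hU hv hg (li_ee ne12.symm), g1, g2]
  have hsc := kq_scale hv hr one_ne_zero hzu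
  rw [one_smul, mu_one hv, mul_one] at hsc
  rw [hsc, ← kq_shift hv (t / s) hzu]
  congr 2
  rw [hu, hz, smul_add, smul_smul, div_mul_cancel₀ _ hs]
  module

/-- The sum of the translates by the transvections with centre `a`. -/
theorem avg_facts (hU : IsUni π) (hC : Inv π C) (hv : IsFlag π C v η μ) {a : Fin (m + 3) → F}
    [Fintype (Perp a)] :
    let P := ∑ f : Perp a, π (tv a f (mem_perp.1 f.2)) v
    P ∈ fixRow π C a ∧ (∀ x ∈ fixRow π C a, ⟪x, P⟫_ℂ = (Fintype.card (Perp a) : ℂ) * ⟪x, v⟫_ℂ) := by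
  intro P
  have hfix : ∀ (f : Fin (m + 3) → F) (hf : f ⬝ᵥ a = 0), π (tv a f hf) P = P := by
    intro f hf
    simp only [P, map_sum]
    refine Fintype.sum_equiv (Equiv.addLeft (⟨f, hf⟩ : Perp a)) _ _ fun f' => ?_
    rw [← rho_mul, tv_mul_right]
    rfl
  refine ⟨mem_fixRow.2 ⟨C.sum_mem fun f _ => hC _ v hv.mem, hfix⟩, fun x hx => ?_⟩
  rw [inner_sum, Finset.sum_eq_card_nsmul (b := ⟪x, v⟫_ℂ), nsmul_eq_mul, Finset.card_univ]
  intro f _
  nth_rewrite 1 [← (mem_fixRow.1 hx).2 f (mem_perp.1 f.2)]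
  rw [hU]

theorem tv_fam (hv : IsFlag π C v η μ) (a f : Fin (m + 3) → F) (hf : f ⬝ᵥ a = 0) :
    π (tv a f hf) v = fam π v (e 0 + (f ⬝ᵥ e 0) • a) (e 1 + (f ⬝ᵥ e 1) • a) := by
  rw [fam_eq hv (g := tv a f hf) (t := 0) (tv_apply _ _ _ _) (by rw [tv_apply]; simp)]

end Cfsg.Agent.SLDeg
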